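import Cfsg.Agent.Cit.Nil.RG.Tri
import Cfsg.Agent.Cit.Nil.LO.FormQ_m3
import Cfsg.Agent.Cit.Nil.RFour.SClosed
import Cfsg.Agent.KFacts.RgdFld.Two_m3
import Cfsg.Agent.TwoFusion.Isolated
import Cfsg.Agent.TwoFusion.QuatQuotient
import Cfsg.Agent.S0215
import Cfsg.Agent.Lib.Cores
import Cfsg.Agent.Cit.Nil.RG.TZero
import Cfsg.Agent.Cit.OneEndSD_m3
import Cfsg.Agent.Cit.WeakCl
import Cfsg.Agent.Cit.Quo
import Cfsg.Agent.Cit.OneBasic
import Cfsg.Agent.Cit.TyTrans_m3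
import Cfsg.Agent.Cit.OmB3.Torus_m3
import Cfsg.Agent.WeakTI.PslTwo
import Cfsg.Agent.FastGrp
import Cfsg.Agent.Prune
set_option linter.all false

section
prune_inst 0x7fbcfefb2ff8addfffff7e7ffefddffc39d4dfffffdffb4bffe0ebff8fdf03063be5fb8f9de058ff1ef7e2bc30b87813f97ec23fea6bdc7ffffd5ff45ffbee1fe5febf8d71d4bc341ffe6ffe9bf17f8e7f3fffffffffffffffffffffffffffbeffffffffffff

-- part: Cit/Nil/RI/Closed
section
prune_inst 0x420100000002200000018001020003c4292000002004b0001f140070206c69c4120030621f8600e1001102c64003a806812dc00590018000020008200411c008004020042b008b00001001640e007180c00000000000000000000000000041000000000000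
set_option linter.all false
open scoped Cfsg.Agent.FastGrp

/-!
# (6b), any `r`: the strongly closed subgroup if commuting is transitive on `Z` (helper764)

The count of `ROne/Strong.lean` (helper545, section 9) with one quaternion group over each `z ∈ CS`, chosen such
that `K (b z b⁻¹) = cj b (K z)` for the given involution `b` only.

* `DataB.false_of` : the count;
* `closed_of` : `WR Om`, commuting is transitive on `Z = ZZ Om`;
  (P1) `x ∈ Z`, `z` and `x z x⁻¹` commute, then `z` and `x` commute;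
  (P2) `C(h) ≤ N(⟨Z ∩ C(z)⟩)` for `1 ≠ h ∈ ⟨CS⟩`, `CS = {z | some member over z lies in S}`;
  then `⟨Z ∩ C(z)⟩` is strongly closed in `S`, for `z ∈ CS`.
-/

set_option autoImplicit false
set_option linter.style.haveILetI false
set_option linter.unusedSectionVars false

namespace Cfsg.Agent.Cit.Nil.RI

open Subgroup Cfsg Cit QuaternionGroup
open ROne.QEight ROne.StrongCount ROne.Strong
open RG (WR Ov RR CP)
open RFour (ComZ AZ)

variable {G : Type*} [Group G]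

/-- the data on `CS` for a given `b` -/
structure DataB (S : Subgroup G) (CS : Set G) (K : G → Subgroup G) (b : G) : Prop where
  sq : ∀ z ∈ CS, z * z = 1
  ne : ∀ z ∈ CS, z ≠ 1
  mem : ∀ z ∈ CS, z ∈ K z
  le : ∀ z ∈ CS, K z ≤ S
  q8 : ∀ z ∈ CS, Nonempty (K z ≃* QuaternionGroup 2)
  comm : ∀ z ∈ CS, ∀ u ∈ CS, z ≠ u → ∀ a ∈ K z, ∀ b ∈ K u, a * b = b * a
  conjZ : ∀ s ∈ S, ∀ z ∈ CS, s * z * s⁻¹ ∈ CS
  conjK : ∀ z ∈ CS, K (b * z * b⁻¹) = cj b (K z)

namespace DataB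

variable {S : Subgroup G} {CS : Set G} {K : G → Subgroup G} {b : G} (d : DataB S CS K b)

include d

theorem e_z {z : G} (hz : z ∈ CS) (e : K z ≃* Q) : e ⟨z, d.mem z hz⟩ = a 2 := by
  have h1 : ∀ x : Q, x * x = 1 → x ≠ 1 → x = a 2 := by decide
  apply h1
  · rw [← map_mul, ← map_one e]
    exact congrArg e (Subtype.ext (d.sq z hz))
  · intro h2
    rw [← map_one e] at h2
    exact d.ne z hz (congrArg Subtype.val (e.injective h2))

/-- `CS` centralises all `K z` -/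
theorem cen {z u : G} (hz : z ∈ CS) (hu : u ∈ CS) {k : G} (hk : k ∈ K u) : z * k = k * z := by
  by_cases h : z = u
  · subst h
    obtain ⟨e⟩ := d.q8 z hz
    have h1 : ∀ x : Q, a 2 * x = x * a 2 := by decide
    have h2 := h1 (e ⟨k, hk⟩)
    rw [← d.e_z hz e, ← map_mul, ← map_mul] at h2
    exact congrArg Subtype.val (e.injective h2)
  · exact d.comm z hz u hu h z (d.mem z hz) k hk

theorem cenT {t u : G} (ht : t ∈ closure CS) (hu : u ∈ CS) {k : G} (hk : k ∈ K u) : t * k = k * t := by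
  induction ht using closure_induction with
  | mem x hx => exact d.cen hx hu hk
  | one => rw [one_mul, mul_one]
  | mul x y _ _ hx hy => rw [mul_assoc, hy, ← mul_assoc, hx, mul_assoc]
  | inv x _ hx =>
    rw [inv_mul_eq_iff_eq_mul, ← mul_assoc, hx, mul_inv_cancel_right]

theorem commT {t t' : G} (ht : t ∈ closure CS) (ht' : t' ∈ closure CS) : t * t' = t' * t := by
  induction ht' using closure_induction with
  | mem x hx => exact d.cenT ht hx (d.mem x hx)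
  | one => rw [one_mul, mul_one]
  | mul x y _ _ hx hy => rw [← mul_assoc, hx, mul_assoc, hy, mul_assoc]
  | inv x _ hx =>
    rw [eq_inv_mul_iff_mul_eq, ← mul_assoc, ← hx, mul_inv_cancel_right]

theorem sqT {t : G} (ht : t ∈ closure CS) : t * t = 1 := by
  induction ht using closure_induction with
  | mem x hx => exact d.sq x hx
  | one => rw [one_mul]
  | mul x y hx' hy' hx hy =>
    have h1 := d.commT hx' hy'
    calc x * y * (x * y) = x * (y * x) * y := by group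
      _ = (x * x) * (y * y) := by rw [← h1]; group
      _ = 1 := by rw [hx, hy, one_mul]
  | inv x _ hx => rw [← mul_inv_rev, hx, inv_one]

theorem T_le : closure CS ≤ S := (closure_le S).2 fun z hz => d.le z hz (d.mem z hz)

/-- **the count** -/
theorem false_of {w : G} (hne : CS.Nonempty) [Finite G] (hbS : b ∈ S) (hbb : b * b = 1)
    (hmove : ∀ z ∈ CS, b * z * b⁻¹ ≠ z)
    (hw : ∀ s ∈ S, s * b = b * s → w * s * w⁻¹ ∈ S)
    (hfree : ∀ h ∈ closure CS, h * b = b * h → h ≠ 1 → ∀ z ∈ CS, (w * h * w⁻¹) * z ≠ z * (w * h * w⁻¹)) :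
    False := by
  classical
  have hb1 : b⁻¹ = b := inv_eq_of_mul_eq_one_right hbb
  obtain ⟨I, hI, hIσ, hcard⟩ := exists_reps CS (fun z => b * z * b⁻¹) (fun z hz => d.conjZ b hbS z hz)
    (fun z _ => by
      have h1 : b * (b * z * b⁻¹) * b⁻¹ = (b * b) * z * (b * b)⁻¹ := by group
      rw [h1, hbb, one_mul, inv_one, mul_one])
    hmove
  haveI : Fintype I := Fintype.ofFinite _
  haveI : Nonempty I := by
    obtain ⟨z, hz⟩ := hne
    haveI : Nonempty CS := ⟨⟨z, hz⟩⟩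
    have h1 : 0 < Nat.card CS := Nat.card_pos
    by_contra h
    rw [not_nonempty_iff] at h
    have h2 : Nat.card I = 0 := Nat.card_of_isEmpty
    omega
  -- the group `T₀`
  let T₀ : Subgroup G := closure CS ⊓ centralizer {b}
  have hT₀ : ∀ t : T₀, (t : G) ∈ closure CS ∧ (t : G) * b = b * t := fun t =>
    ⟨t.2.1, mem_centralizer_singleton_iff.1 t.2.2⟩
  letI : CommGroup T₀ :=
    { (inferInstance : Group T₀) with
      mul_comm := fun x y => Subtype.ext (d.commT (hT₀ x).1 (hT₀ y).1) }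
  -- the diagonal maps
  have hK : ∀ i : I, ∀ k ∈ K i, b * k * b⁻¹ ∈ K (b * i * b⁻¹) := fun i k hk => by
    rw [d.conjK i (hI i.2)]
    exact conj_mem_cj hk
  have hcomK : ∀ i : I, ∀ k ∈ K i, ∀ l ∈ K i, (b * k * b⁻¹) * l = l * (b * k * b⁻¹) := fun i k hk l hl =>
    d.comm _ (d.conjZ b hbS i (hI i.2)) i (hI i.2) (hmove i (hI i.2)) _ (hK i k hk) l hl
  let e : ∀ i : I, Q ≃* K (i : G) := fun i => (d.q8 i (hI i.2)).some.symm
  let δ : ∀ _ : I, Q →* G := fun i =>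
    { toFun := fun q => (e i q : G) * (b * (e i q : G) * b⁻¹)
      map_one' := by simp
      map_mul' := fun p q => by
        have h1 := hcomK i (e i p) (e i p).2 (e i q) (e i q).2
        rw [map_mul]
        change ((e i p : G) * (e i q : G)) * (b * ((e i p : G) * (e i q : G)) * b⁻¹) = _
        calc ((e i p : G) * (e i q : G)) * (b * ((e i p : G) * (e i q : G)) * b⁻¹) =
            (e i p : G) * ((e i q : G) * (b * (e i p : G) * b⁻¹)) * (b * (e i q : G) * b⁻¹) := by group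
          _ = (e i p : G) * ((b * (e i p : G) * b⁻¹) * (e i q : G)) * (b * (e i q : G) * b⁻¹) := by rw [h1]
          _ = _ := by group }
  have hδ : ∀ i q, δ i q = (e i q : G) * (b * (e i q : G) * b⁻¹) := fun i q => rfl
  have hcom4 : ∀ i j : I, i ≠ j → ∀ k ∈ K i, ∀ l ∈ K j, Commute (k * (b * k * b⁻¹)) (l * (b * l * b⁻¹)) := by
    intro i j hij k hk l hl
    have hij' : (i : G) ≠ j := fun h => hij (Subtype.ext h)
    have c1 : Commute k l := d.comm i (hI i.2) j (hI j.2) hij' k hk l hl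
    have c2 : Commute k (b * l * b⁻¹) :=
      d.comm i (hI i.2) _ (d.conjZ b hbS j (hI j.2)) (hIσ i i.2 j j.2) k hk _ (hK j l hl)
    have c3 : Commute (b * k * b⁻¹) l :=
      d.comm _ (d.conjZ b hbS i (hI i.2)) j (hI j.2) (fun h => hIσ j j.2 i i.2 h.symm) _ (hK i k hk) l hl
    have c4 : Commute (b * k * b⁻¹) (b * l * b⁻¹) := by
      refine d.comm _ (d.conjZ b hbS i (hI i.2)) _ (d.conjZ b hbS j (hI j.2)) (fun h => hij' ?_) _ (hK i k hk)
        _ (hK j l hl)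
      exact mul_left_cancel (mul_right_cancel h)
    exact (c1.mul_right c2).mul_left (c3.mul_right c4)
  have hcomδ : Pairwise fun i j : I => ∀ (x y : Q), Commute (δ i x) (δ j y) := fun i j hij x y =>
    hcom4 i j hij _ (e i x).2 _ (e j y).2
  let Δ : (I → Q) →* G := MonoidHom.noncommPiCoprod δ hcomδ
  -- the `δ` lie in `C_S(b)` and commute with `T₀`
  have hδS : ∀ i q, δ i q ∈ S ⊓ centralizer {b} := by
    intro i q
    rw [hδ]
    have h1 : (e i q : G) ∈ S := d.le i (hI i.2) (e i q).2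
    refine ⟨S.mul_mem h1 (S.mul_mem (S.mul_mem hbS h1) (S.inv_mem hbS)), mem_centralizer_singleton_iff.2 ?_⟩
    have h2 := hcomK i (e i q) (e i q).2 (e i q) (e i q).2
    calc (e i q : G) * (b * (e i q : G) * b⁻¹) * b = (b * (e i q : G) * b⁻¹) * (e i q : G) * b := by rw [h2]
      _ = b * ((e i q : G) * (b * (e i q : G) * b⁻¹)) := by rw [hb1]; simp only [mul_assoc]
  have hΔS : ∀ x, Δ x ∈ S ⊓ centralizer {b} := by
    intro x
    rw [MonoidHom.noncommPiCoprod_apply]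
    exact Subgroup.noncommProd_mem _ _ fun i _ => hδS i (x i)
  have hΔT : ∀ (t : T₀) (x : I → Q), Commute (t : G) (Δ x) := by
    intro t x
    have h1 : Δ x ∈ centralizer {(t : G)} := by
      rw [MonoidHom.noncommPiCoprod_apply]
      refine Subgroup.noncommProd_mem _ _ fun i _ => mem_centralizer_singleton_iff.2 ?_
      have h2 : Commute (t : G) (e i (x i) : G) := d.cenT (hT₀ t).1 (hI i.2) (e i (x i)).2
      have h3 : Commute (t : G) (b * (e i (x i) : G) * b⁻¹) :=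
        d.cenT (hT₀ t).1 (d.conjZ b hbS i (hI i.2)) (hK i _ (e i (x i)).2)
      exact (h2.mul_right h3).symm
    exact (mem_centralizer_singleton_iff.1 h1).symm
  let f₀ : T₀ →* G := { toFun := Subtype.val, map_one' := rfl, map_mul' := fun _ _ => rfl }
  let Φ : T₀ × (I → Q) →* G := f₀.noncommCoprod Δ hΔT
  have hΦ : ∀ p, Φ p = (p.1 : G) * Δ p.2 := fun p => rfl
  have hΦS : ∀ p, Φ p ∈ S ⊓ centralizer {b} := by
    intro p
    rw [hΦ]
    exact mul_mem ⟨d.T_le (hT₀ p.1).1, p.1.2.2⟩ (hΔS p.2)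
  let Ψ : T₀ × (I → Q) →* G := (MulAut.conj w).toMonoidHom.comp Φ
  have hΨ : ∀ p, Ψ p = w * Φ p * w⁻¹ := fun p => rfl
  have hΨS : ∀ p, Ψ p ∈ S := fun p => hw _ (hΦS p).1 (mem_centralizer_singleton_iff.1 (hΦS p).2)
  obtain ⟨z, hz⟩ := hne
  -- the elements `τ`
  have hτm : ∀ i : I, (i : G) * (b * i * b⁻¹) ∈ T₀ := by
    intro i
    have hi := hI i.2
    have h1 := hcomK i i (d.mem i hi) i (d.mem i hi)
    refine ⟨mul_mem (subset_closure hi) (subset_closure (d.conjZ b hbS i hi)), mem_centralizer_singleton_iff.2 ?_⟩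
    calc (i : G) * (b * i * b⁻¹) * b = (b * i * b⁻¹) * i * b := by rw [h1]
      _ = b * ((i : G) * (b * i * b⁻¹)) := by rw [hb1]; simp only [mul_assoc]
  let τ : I → T₀ := fun i => ⟨(i : G) * (b * i * b⁻¹), hτm i⟩
  have hτ : ∀ i, τ i ≠ 1 := by
    intro i h
    have hi := hI i.2
    have h1 : (i : G) * (b * i * b⁻¹) = 1 := congrArg Subtype.val h
    apply hmove i hi
    have h2 := d.sq i hi
    exact mul_left_cancel (h1.trans h2.symm)
  have hea : ∀ i : I, (e i (a 2) : G) = i := by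
    intro i
    have h1 := d.e_z (hI i.2) (d.q8 i (hI i.2)).some
    change (((d.q8 i (hI i.2)).some.symm (a 2) : K (i : G)) : G) = i
    rw [← h1, MulEquiv.symm_apply_apply]
  refine count (fun t => Subtype.ext (d.sqT (hT₀ t).1)) τ hτ ((centralizer {z}).comap Ψ) ?_ ?_
  · intro t x hx
    rw [mem_comap, mem_centralizer_singleton_iff, hΨ] at hx
    have h1 : Φ (t, fun i => (a 2 : Q) ^ x i) = ((t * ∏ i, τ i ^ x i : T₀) : G) := by
      rw [hΦ]
      change (t : G) * Δ (fun i => (a 2 : Q) ^ x i) = (t : G) * ((∏ i, τ i ^ x i : T₀) : G)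
      congr 1
      refine pi_coe f₀ δ hcomδ τ (fun i => ?_) x
      rw [hδ, hea]
      rfl
    rw [h1] at hx
    by_contra h3
    refine hfree _ (hT₀ (t * ∏ i, τ i ^ x i)).1 (hT₀ (t * ∏ i, τ i ^ x i)).2 (fun h4 => h3 (Subtype.ext h4)) z hz hx
  · refine (index_le Ψ z CS fun p => d.conjZ _ (hΨS p) z hz).trans ?_
    rwa [Nat.card_eq_fintype_card (α := I)] at hcard

end DataB

/-- the involutions of the members in `S` -/
def CS (Om : Set (Subgroup G)) (S : Subgroup G) : Set G := {z | ∃ K ∈ Ov Om z, K ≤ S}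

section

variable {Om : Set (Subgroup G)} {z u s x : G} {S : Subgroup G}

theorem CS_zz (hz : z ∈ CS Om S) : z ∈ RG.ZZ Om := by
  obtain ⟨K, hK, -⟩ := hz
  exact ⟨K, hK⟩

theorem CS_conj (h : WR Om) (hz : z ∈ CS Om S) (hs : s ∈ S) : s * z * s⁻¹ ∈ CS Om S := by
  obtain ⟨K, hK, hKS⟩ := hz
  refine ⟨cj s K, h.Ov_cj hK s, ?_⟩
  rintro _ ⟨k, hk, rfl⟩
  exact mul_mem (mul_mem hs (hKS hk)) (inv_mem hs)

/-- different elements of `CS` : the members in `S` commute -/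
theorem CS_cp (h : WR Om) (hS : IsPGroup 2 S) (hz : z ∈ CS Om S) (hu : u ∈ CS Om S) (hne : z ≠ u) : CP Om z u := by
  obtain ⟨K, hK, hKS⟩ := hz
  obtain ⟨L, hL, hLS⟩ := hu
  have h1 := h.pg K hK.1 L hL.1 S hS hKS hLS (h.Ov_ne hK hL hne)
  exact h.CP_of_cen hK (fun k hk => (h1 k hk u (h.Ov_mem hL)).symm) hne

theorem CS_comm (h : WR Om) (hS : IsPGroup 2 S) (hz : z ∈ CS Om S) (hu : u ∈ CS Om S) : z * u = u * z := by
  by_cases hne : z = u
  · rw [hne]
  · exact h.CP_comm (CS_cp h hS hz hu hne) (CS_zz hz) (CS_zz hu)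

end

variable {Om : Set (Subgroup G)}

/-- a choice of members adapted to the involution `b` -/
theorem exists_K [Finite G] (h : WR Om) {S : Subgroup G} {b : G} (hbS : b ∈ S) (hbb : b * b = 1)
    (hmove : ∀ z ∈ CS Om S, b * z * b⁻¹ ≠ z) :
    ∃ K : G → Subgroup G, (∀ z ∈ CS Om S, K z ∈ Ov Om z ∧ K z ≤ S) ∧
      ∀ z ∈ CS Om S, K (b * z * b⁻¹) = cj b (K z) := by
  classical
  let e : G → ℕ := fun g => (Finite.equivFin G g : ℕ)
  have he : ∀ x y : G, e x = e y → x = y := fun x y hxy => (Finite.equivFin G).injective (Fin.ext hxy)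
  have hex : ∀ z : G, ∃ K : Subgroup G, z ∈ CS Om S → K ∈ Ov Om z ∧ K ≤ S := by
    intro z
    by_cases hz : z ∈ CS Om S
    · obtain ⟨K, hK, hKS⟩ := hz
      exact ⟨K, fun _ => ⟨hK, hKS⟩⟩
    · exact ⟨⊥, fun h1 => absurd h1 hz⟩
  choose K0 hK0 using hex
  have hbz : ∀ z, b * (b * z * b⁻¹) * b⁻¹ = z := by
    intro z
    have h1 : b * (b * z * b⁻¹) * b⁻¹ = (b * b) * z * (b * b)⁻¹ := by group
    rw [h1, hbb, one_mul, inv_one, mul_one]
  have hbK : ∀ L : Subgroup G, cj b (cj b L) = L := by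
    intro L
    rw [← cj_mul, hbb, cj_one]
  have hle : ∀ L : Subgroup G, L ≤ S → cj b L ≤ S := by
    rintro L hL _ ⟨k, hk, rfl⟩
    exact mul_mem (mul_mem hbS (hL hk)) (inv_mem hbS)
  refine ⟨fun z => if e z < e (b * z * b⁻¹) then K0 z else cj b (K0 (b * z * b⁻¹)), ?_, ?_⟩
  · intro z hz
    have hz' := CS_conj h hz hbS
    by_cases h1 : e z < e (b * z * b⁻¹)
    · simp only [if_pos h1]
      exact hK0 z hz
    · simp only [if_neg h1]
      obtain ⟨h2, h3⟩ := hK0 _ hz'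
      refine ⟨?_, hle _ h3⟩
      have h4 := h.Ov_cj h2 b
      rwa [hbz] at h4
  · intro z hz
    have h0 : e z ≠ e (b * z * b⁻¹) := fun h1 => hmove z hz (he _ _ h1).symm
    simp only [hbz]
    by_cases h1 : e z < e (b * z * b⁻¹)
    · rw [if_pos h1, if_neg (by omega)]
    · rw [if_neg h1, if_pos (by omega), hbK]

/-- **the strongly closed subgroup** -/
theorem closed_of [Finite G] (h : WR Om) (c : ComZ (RG.ZZ Om))
    (hP : ∀ z ∈ RG.ZZ Om, ∀ x ∈ RG.ZZ Om, z * (x * z * x⁻¹) = (x * z * x⁻¹) * z → z * x = x * z)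
    (S : Sylow 2 G) {z : G} (hz : z ∈ CS Om (S : Subgroup G))
    (P2 : ∀ t ∈ closure (CS Om (S : Subgroup G)), t ≠ 1 → ∀ c, c * t = t * c →
      c ∈ normalizer (AZ (RG.ZZ Om) z : Set G)) :
    IsStronglyClosed (AZ (RG.ZZ Om) z) (S : Subgroup G) := by
  haveI : Fact (Nat.Prime 2) := ⟨Nat.prime_two⟩
  have hzZ : z ∈ RG.ZZ Om := CS_zz hz
  obtain ⟨A, hA⟩ : ∃ A, A = AZ (RG.ZZ Om) z := ⟨_, rfl⟩
  obtain ⟨M, hM⟩ : ∃ M, M = normalizer (A : Set G) := ⟨_, rfl⟩
  rw [← hA] at P2 ⊢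
  rw [← hM] at P2
  have hzA : z ∈ A := by rw [hA]; exact ComZ.self_mem hzZ
  have hAc : ∀ x ∈ A, ∀ y ∈ A, x * y = y * x := by rw [hA]; exact c.AZ_comm hzZ
  have hA2 : ∀ x ∈ A, x * x = 1 := by rw [hA]; exact c.AZ_sq hzZ
  have hAp : IsPGroup 2 A := by rw [hA]; exact c.AZ_two hzZ
  have hCA : ∀ u ∈ CS Om (S : Subgroup G), u ∈ A := fun u hu => by
    rw [hA]; exact subset_closure ⟨CS_zz hu, CS_comm h S.isPGroup' hz hu⟩
  have hMof : ∀ g : G, ∀ u ∈ RG.ZZ Om, z * u = u * z → u * (g * u * g⁻¹) = (g * u * g⁻¹) * u → g ∈ M := by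
    intro g u hu hzu hg
    have h1 := c.mem_norm_of hu hg
    rw [← c.AZ_eq hzZ hu hzu, ← hA, ← hM] at h1
    exact h1
  have hSM : (S : Subgroup G) ≤ M := by
    intro s hs
    exact hMof s z hzZ rfl (CS_comm h S.isPGroup' hz (CS_conj h hz hs))
  have hAM : A ≤ M := by rw [hM]; exact le_normalizer
  have hAS : A ≤ S := by
    have h1 : IsPGroup 2 (A ⊔ S : Subgroup G) :=
      IsPGroup.to_sup_of_normal_left' hAp S.isPGroup' (by rw [← hM]; exact hSM)
    have h2 := S.is_maximal' h1 le_sup_right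
    rw [← h2]
    exact le_sup_left
  -- `Z ∩ M` commutes with `z`
  have hZM : ∀ x ∈ RG.ZZ Om, x ∈ M → z * x = x * z := by
    intro x hx hxM
    refine hP z hzZ x hx ?_
    have h1 : x * z * x⁻¹ ∈ A := by
      rw [hM] at hxM
      exact (mem_normalizer_iff.1 hxM z).1 hzA
    exact hAc _ hzA _ h1
  -- (P1)
  have P1 : ∀ u ∈ RG.ZZ Om, z * u = u * z → ∀ x, x * u * x⁻¹ ∈ M → x ∈ M := by
    intro u hu hzu x hx
    have h1 := hZM _ (c.conj u hu x) hx
    exact hMof x u hu hzu (c.tr z hzZ u hu _ (c.conj u hu x) hzu h1)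
  -- (P3)
  have P3 : ∀ x ∈ A, ∀ R : Subgroup G, IsPGroup 2 R → (∀ r ∈ R, r * x = x * r) →
      ∃ d, d * x = x * d ∧ cj d R ≤ M := by
    intro a ha R hR hRa
    obtain ⟨H, hH⟩ : ∃ H : Subgroup G, H = centralizer {a} := ⟨_, rfl⟩
    have hAH : A ≤ H := fun x hx => by
      rw [hH]; exact mem_centralizer_singleton_iff.2 (hAc x hx a ha)
    have hRH : R ≤ H := fun x hx => by rw [hH]; exact mem_centralizer_singleton_iff.2 (hRa x hx)
    obtain ⟨P, hP'⟩ := (hAp.comap_subtype (K := H)).exists_le_sylow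
    have hP2 : IsPGroup 2 ((P : Subgroup H).map H.subtype) := P.isPGroup'.map _
    have hAP : A ≤ (P : Subgroup H).map H.subtype := fun x hx => ⟨⟨x, hAH hx⟩, hP' (mem_subgroupOf.2 hx), rfl⟩
    have hPM : (P : Subgroup H).map H.subtype ≤ M := by
      by_contra hcon
      obtain ⟨b, hb, hb1, hb2⟩ := exists_normalizing hP2
        (A := (P : Subgroup H).map H.subtype ⊓ M) inf_le_left (fun h1 => hcon (inf_eq_left.1 h1))
      apply hb1
      refine Subgroup.mem_inf.2 ⟨hb, ?_⟩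
      have h1 : z ∈ (P : Subgroup H).map H.subtype ⊓ M := Subgroup.mem_inf.2 ⟨hAP hzA, hAM hzA⟩
      have h2 := conj_mem_cj (g := b) h1
      rw [hb2] at h2
      exact P1 z hzZ rfl b h2.2
    obtain ⟨m, hm⟩ := exists_le_cj P (hR.comap_subtype (K := H))
    refine ⟨(m : G)⁻¹, ?_, ?_⟩
    · have h0 : (m : G) ∈ centralizer {a} := by
        rw [← hH]; exact m.2
      have h1 := mem_centralizer_singleton_iff.1 h0
      rw [inv_mul_eq_iff_eq_mul, ← mul_assoc, h1, mul_inv_cancel_right]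
    · intro x hx
      rw [mem_cj, inv_inv] at hx
      have h1 : (⟨(m : G) * x * (m : G)⁻¹, hRH hx⟩ : H) ∈ cj m (P : Subgroup H) := hm (mem_subgroupOf.2 hx)
      rw [mem_cj] at h1
      have h2 := hPM (mem_map_of_mem H.subtype h1)
      have h3 : H.subtype (m⁻¹ * (⟨(m : G) * x * (m : G)⁻¹, hRH hx⟩ : H) * m) = x := by
        change (m : G)⁻¹ * ((m : G) * x * (m : G)⁻¹) * (m : G) = x
        group
      rwa [h3] at h2
  -- the end
  refine ⟨hAS, fun x hx g hg => ?_⟩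
  by_contra hb
  obtain ⟨b, hbdef⟩ : ∃ b, b = g * x * g⁻¹ := ⟨_, rfl⟩
  rw [← hbdef] at hg hb
  have hbb : b * b = 1 := by
    have h1 : b * b = g * (x * x) * g⁻¹ := by rw [hbdef]; group
    rw [h1, hA2 x hx, mul_one, mul_inv_cancel]
  have hgb : g⁻¹ * b * g = x := by rw [hbdef]; group
  let R : Subgroup G := cj g⁻¹ ((S : Subgroup G) ⊓ centralizer {b})
  have hR : ∀ r ∈ R, g * r * g⁻¹ ∈ (S : Subgroup G) ⊓ centralizer {b} := by
    intro r hr
    rw [mem_cj, inv_inv] at hr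
    exact hr
  have hR2 : IsPGroup 2 R := (S.isPGroup'.to_le inf_le_left).map _
  obtain ⟨d, hd, hdR⟩ := P3 x hx R hR2 (fun r hr => by
    have h1 := mem_centralizer_singleton_iff.1 (hR r hr).2
    rw [← hgb]
    calc r * (g⁻¹ * b * g) = g⁻¹ * ((g * r * g⁻¹) * b) * g := by group
      _ = g⁻¹ * (b * (g * r * g⁻¹)) * g := by rw [h1]
      _ = _ := by group)
  obtain ⟨m, hm, hmS⟩ := exists_cj_le S hSM (R := cj d R) (hR2.map _) hdR
  obtain ⟨w, hw⟩ : ∃ w, w = m * d * g⁻¹ := ⟨_, rfl⟩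
  have hkey : ∀ s ∈ (S : Subgroup G), s * b = b * s → w * s * w⁻¹ ∈ (S : Subgroup G) := by
    intro s hs hsb
    have h1 : g⁻¹ * s * g⁻¹⁻¹ ∈ R := conj_mem_cj ⟨hs, mem_centralizer_singleton_iff.2 hsb⟩
    have h2 := hmS (conj_mem_cj (g := m) (conj_mem_cj (g := d) h1))
    have h3 : w * s * w⁻¹ = m * (d * (g⁻¹ * s * g⁻¹⁻¹) * d⁻¹) * m⁻¹ := by rw [hw]; group
    rw [h3]
    exact h2
  have hwM : w ∉ M := by
    intro h1
    have h2 : b = w⁻¹ * (m * x * m⁻¹) * w⁻¹⁻¹ := by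
      have h3 : d⁻¹ * x * d = x := by
        rw [mul_assoc, ← hd, inv_mul_cancel_left]
      calc b = g * x * g⁻¹ := hbdef
        _ = g * (d⁻¹ * x * d) * g⁻¹ := by rw [h3]
        _ = _ := by rw [hw]; group
    apply hb
    rw [h2]
    rw [hM] at hm h1
    have h3 : m * x * m⁻¹ ∈ A := (mem_normalizer_iff.1 hm x).1 hx
    exact (mem_normalizer_iff.1 (inv_mem h1) _).1 h3
  have hmove : ∀ u ∈ CS Om (S : Subgroup G), b * u * b⁻¹ ≠ u := by
    intro u hu h1
    have h2 : u * b = b * u := by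
      conv_lhs => rw [← h1]
      group
    obtain ⟨K, hK, hKS⟩ := hu
    exact hwM (P1 u (CS_zz ⟨K, hK, hKS⟩) (CS_comm h S.isPGroup' hz ⟨K, hK, hKS⟩) w
      (hSM (hkey u (hKS (h.Ov_mem hK)) h2)))
  obtain ⟨K, hK1, hK2⟩ := exists_K h hg hbb hmove
  have hd : DataB (S : Subgroup G) (CS Om (S : Subgroup G)) K b :=
    { sq := fun u hu => h.zz_sq (CS_zz hu)
      ne := fun u hu => h.zz_ne (CS_zz hu)
      mem := fun u hu => h.Ov_mem (hK1 u hu).1
      le := fun u hu => (hK1 u hu).2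
      q8 := fun u hu => h.q8 _ (hK1 u hu).1.1
      comm := fun u hu v hv huv => (CS_cp h S.isPGroup' hu hv huv).2 _ (hK1 u hu).1 _ (hK1 v hv).1
      conjZ := fun s hs u hu => CS_conj h hu hs
      conjK := hK2 }
  refine hd.false_of (w := w) ⟨z, hz⟩ hg hbb hmove hkey ?_
  intro t ht _ ht1 u hu hcomm
  have h1 : w⁻¹ * u * w ∈ M := by
    refine P2 t ht ht1 _ ?_
    calc w⁻¹ * u * w * t = w⁻¹ * (u * (w * t * w⁻¹)) * w := by group
      _ = w⁻¹ * ((w * t * w⁻¹) * u) * w := by rw [hcomm]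
      _ = _ := by group
  have h2 := P1 u (CS_zz hu) (CS_comm h S.isPGroup' hz hu) w⁻¹ (by rwa [inv_inv])
  exact hwM (by simpa using M.inv_mem h2)

end Cfsg.Agent.Cit.Nil.RI
end

-- part: Cit/Nil/ROne/ClTwo
section
set_option linter.all false
open scoped Cfsg.Agent.FastGrp

/-!
# `r = 1`, STEP 2: the subgroup generated by an orbit of involutions `zz K` lying in a normal 2-subgroup

`Orb Om H N Y` : `HYP(G, Om)`, all members 2-groups, `Y` a set of members of `Om` which is one orbit under `H`,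
`K ≤ H` for `K ∈ Y`, `N = ⟨zz K : K ∈ Y⟩` a 2-group. Then

* `Orb.dich` : an `H`-invariant 2-subgroup contains `N` or commutes with all members of `Y`;
* `Orb.sq_of_comm` : if `N` is commutative, its elements have square `1`;
* if `N` is not commutative: `Orb.centre` : elements of `N` which commute with `N` commute with all members of
  `Y`; `Orb.class_two` : commutators of elements of `N` commute with `N`; `Orb.sq_comm` : squares of elements of
  `N` commute with `N`; `Orb.zz_mul` : `K ∈ Y`, `n ∈ N` with `n zz K ≠ zz K n`: `K` and `K^n` commute,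
  `w = zz K * zz (K^n)` commutes with `N`; `Orb.unique` : `w` does not depend on `n`.
* `Orb.mem_inf` : `K ⊓ N = {1, zz K}`.
-/

set_option autoImplicit false
set_option linter.style.haveILetI false
set_option linter.unusedSectionVars false

namespace Cfsg.Agent.Cit.ROne

open Subgroup Cfsg Cfsg.Agent.Cit

variable {G : Type*} [Group G]

/-! ### Group theory -/

/-- the normaliser of `N` normalises the characteristic subgroups of `N` -/
theorem normalizer_le_char {N : Subgroup G} {X : Subgroup N} (hX : X.Characteristic) :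
    normalizer (N : Set G) ≤ normalizer ((X.map N.subtype : Subgroup G) : Set G) := by
  have key : ∀ g ∈ normalizer (N : Set G), ∀ x ∈ X.map N.subtype, g * x * g⁻¹ ∈ X.map N.subtype := by
    rintro g hg _ ⟨x, hx, rfl⟩
    have h0 : cj g N = N := mem_normalizer_iff_cj.1 hg
    set φ : N ≃* N := (cjEquiv g N).trans (MulEquiv.subgroupCongr h0) with hφ
    have h1 := characteristic_iff_map_le.1 hX φ
    exact ⟨φ x, h1 ⟨x, hx, rfl⟩, rfl⟩
  intro g hg
  rw [mem_normalizer_iff]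
  intro x
  refine ⟨key g hg x, fun hx => ?_⟩
  have := key g⁻¹ (inv_mem hg) _ hx
  simpa [mul_assoc] using this

/-- **a nilpotent group whose characteristic commutative subgroups are central has class at most 2** -/
theorem commutator_le_center {P : Type*} [Group P] [Group.IsNilpotent P]
    (hch : ∀ X : Subgroup P, X.Characteristic → (∀ x ∈ X, ∀ y ∈ X, x * y = y * x) → X ≤ center P) :
    ⁅(⊤ : Subgroup P), (⊤ : Subgroup P)⁆ ≤ center P := by
  have key : ∀ n, Subgroup.upperCentralSeries P n ⊓ ⁅(⊤ : Subgroup P), (⊤ : Subgroup P)⁆ ≤ center P := by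
    intro n
    induction n with
    | zero => rw [Subgroup.upperCentralSeries_zero, bot_inf_eq]; exact bot_le
    | succ n ih =>
      set X := Subgroup.upperCentralSeries P (n + 1) ⊓ ⁅(⊤ : Subgroup P), (⊤ : Subgroup P)⁆ with hX
      have hXc : X.Characteristic := by
        rw [hX]
        infer_instance
      -- `[X, P] ≤ Z(P)`
      have h1 : ⁅X, (⊤ : Subgroup P)⁆ ≤ center P := by
        rw [commutator_le]
        intro x hx y _
        refine ih ⟨?_, ?_⟩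
        · exact (Subgroup.mem_upperCentralSeries_succ_iff.1 hx.1) y
        · exact commutator_mem_commutator (mem_top x) (mem_top y)
      have h2 : ⁅⁅X, (⊤ : Subgroup P)⁆, (⊤ : Subgroup P)⁆ = ⊥ := by
        rw [commutator_eq_bot_iff_le_centralizer]
        refine h1.trans ?_
        rw [coe_top, centralizer_univ]
      have h3 : ⁅⁅(⊤ : Subgroup P), (⊤ : Subgroup P)⁆, X⁆ = ⊥ := by
        refine commutator_commutator_eq_bot_of_rotate ?_ h2
        rw [commutator_comm (⊤ : Subgroup P) X]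
        exact h2
      have h4 : X ≤ centralizer ((⁅(⊤ : Subgroup P), (⊤ : Subgroup P)⁆ : Subgroup P) : Set P) := by
        rw [commutator_comm, commutator_eq_bot_iff_le_centralizer] at h3
        exact h3
      refine hch X hXc fun x hx y hy => ?_
      exact (mem_centralizer_iff.1 (h4 hx) y hy.2).symm
  obtain ⟨n, hn⟩ := Group.IsNilpotent.nilpotent P
  have := key n
  rwa [hn, top_inf_eq] at this

/-! ### The situation -/

/-- `Y` is one `H`-orbit of members (2-groups) of `Om`, `K ≤ H` for `K ∈ Y`, and `N = ⟨zz K : K ∈ Y⟩` is a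
2-group -/
structure Orb (Om : Set (Subgroup G)) (H N : Subgroup G) (Y : Set (Subgroup G)) : Prop where
  hyp : Hyp Om
  two : ∀ L ∈ Om, IsPGroup 2 L
  sub : Y ⊆ Om
  le : ∀ K ∈ Y, K ≤ H
  inv : ∀ K ∈ Y, ∀ g ∈ H, cj g K ∈ Y
  tr : ∀ K ∈ Y, ∀ L ∈ Y, ∃ g ∈ H, cj g K = L
  gen : N = closure (zz '' Y)
  pN : IsPGroup 2 N

/-- the orbit of one member -/
theorem Orb.of_orbit {Om : Set (Subgroup G)} {H : Subgroup G} (hyp : Hyp Om) (two : ∀ L ∈ Om, IsPGroup 2 L)
    {K : Subgroup G} (hK : K ∈ Om) (hKH : K ≤ H)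
    (pN : IsPGroup 2 (closure (zz '' {L | ∃ g ∈ H, cj g K = L}) : Subgroup G)) :
    Orb Om H (closure (zz '' {L | ∃ g ∈ H, cj g K = L})) {L | ∃ g ∈ H, cj g K = L} where
  hyp := hyp
  two := two
  sub := by rintro _ ⟨g, -, rfl⟩; exact hyp.conj K hK g
  le := by
    rintro _ ⟨g, hg, rfl⟩ x hx
    have h1 := H.mul_mem (H.mul_mem hg (hKH (mem_cj.1 hx))) (H.inv_mem hg)
    simpa [mul_assoc] using h1
  inv := by
    rintro _ ⟨g, hg, rfl⟩ x hx
    exact ⟨x * g, H.mul_mem hx hg, cj_mul x g K⟩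
  tr := by
    rintro _ ⟨g, hg, rfl⟩ _ ⟨g', hg', rfl⟩
    exact ⟨g' * g⁻¹, H.mul_mem hg' (H.inv_mem hg), by rw [cj_mul, cj_inv_cj]⟩
  gen := rfl
  pN := pN

namespace Orb

variable [Finite G] {Om : Set (Subgroup G)} {H N V K L : Subgroup G} {Y : Set (Subgroup G)}

theorem zz_mem (o : Orb Om H N Y) (hK : K ∈ Y) : zz K ∈ N := by
  rw [o.gen]; exact subset_closure ⟨K, hK, rfl⟩

theorem zz_sq (o : Orb Om H N Y) (hK : K ∈ Y) : zz K * zz K = 1 := o.hyp.zz_mul (o.sub hK)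

/-- `H` normalises `N` -/
theorem norm (o : Orb Om H N Y) : H ≤ normalizer (N : Set G) := by
  have key : ∀ g ∈ H, ∀ x ∈ N, g * x * g⁻¹ ∈ N := by
    intro g hg x hx
    rw [o.gen] at hx
    refine closure_induction (p := fun x _ => g * x * g⁻¹ ∈ N) ?_ ?_ ?_ ?_ hx
    · rintro _ ⟨K, hK, rfl⟩
      rw [← o.hyp.zz_cj (o.sub hK)]
      exact o.zz_mem (o.inv K hK g hg)
    · simp [N.one_mem]
    · intro a b _ _ ha hb
      have : g * (a * b) * g⁻¹ = (g * a * g⁻¹) * (g * b * g⁻¹) := by group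
      rw [this]; exact N.mul_mem ha hb
    · intro a _ ha
      have : g * a⁻¹ * g⁻¹ = (g * a * g⁻¹)⁻¹ := by group
      rw [this]; exact N.inv_mem ha
  intro g hg
  rw [mem_normalizer_iff]
  intro x
  refine ⟨key g hg x, fun hx => ?_⟩
  have := key g⁻¹ (inv_mem hg) _ hx
  simpa [mul_assoc] using this

theorem normK (o : Orb Om H N Y) (hK : K ∈ Y) : K ≤ normalizer (N : Set G) := (o.le K hK).trans o.norm

/-- an `H`-invariant 2-subgroup contains `N` or commutes with the members of `Y` -/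
theorem dich (o : Orb Om H N Y) (hV : H ≤ normalizer (V : Set G)) (pV : IsPGroup 2 V) :
    N ≤ V ∨ ∀ K ∈ Y, ∀ k ∈ K, ∀ v ∈ V, k * v = v * k := by
  by_cases h : ∃ K ∈ Y, zz K ∈ V
  · left
    obtain ⟨K, hK, hzK⟩ := h
    rw [o.gen, closure_le]
    rintro _ ⟨L, hL, rfl⟩
    obtain ⟨g, hg, rfl⟩ := o.tr K hK L hL
    rw [o.hyp.zz_cj (o.sub hK)]
    exact (mem_normalizer_iff.1 (hV hg) _).1 hzK
  · right
    push Not at h
    intro K hK
    exact o.hyp.lemma_one (o.sub hK) (o.two K (o.sub hK)) pV ((o.le K hK).trans hV) (h K hK)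

/-- elements which commute with the involutions commute with `N` -/
theorem comm_of_zz (o : Orb Om H N Y) {x : G} (hx : ∀ K ∈ Y, x * zz K = zz K * x) : ∀ n ∈ N, x * n = n * x := by
  intro n hn
  rw [o.gen] at hn
  refine closure_induction (p := fun n _ => x * n = n * x) ?_ (by simp) ?_ ?_ hn
  · rintro _ ⟨K, hK, rfl⟩
    exact hx K hK
  · intro a b _ _ ha hb
    rw [← mul_assoc, ha, mul_assoc, hb, mul_assoc]
  · intro a _ ha
    rw [eq_inv_mul_iff_mul_eq, ← mul_assoc, ← ha, mul_inv_cancel_right]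

theorem sq_of_comm (o : Orb Om H N Y) (hc : ∀ x ∈ N, ∀ y ∈ N, x * y = y * x) : ∀ x ∈ N, x * x = 1 := by
  intro x hx
  have hx' := hx
  rw [o.gen] at hx'
  refine (closure_induction (p := fun x _ => x ∈ N ∧ x * x = 1) ?_ ⟨N.one_mem, by simp⟩ ?_ ?_ hx').2
  · rintro _ ⟨K, hK, rfl⟩
    exact ⟨o.zz_mem hK, o.zz_sq hK⟩
  · rintro a b _ _ ⟨ha, ha2⟩ ⟨hb, hb2⟩
    refine ⟨N.mul_mem ha hb, ?_⟩
    calc a * b * (a * b) = a * (b * a) * b := by group
      _ = a * (a * b) * b := by rw [hc b hb a ha]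
      _ = (a * a) * (b * b) := by group
      _ = 1 := by rw [ha2, hb2, one_mul]
  · rintro a _ ⟨ha, ha2⟩
    refine ⟨N.inv_mem ha, ?_⟩
    rw [← mul_inv_rev, ha2, inv_one]

/-- a commutative `H`-invariant subgroup of `N` commutes with the members of `Y` if `N` is not commutative -/
theorem char_comm (o : Orb Om H N Y) (hnc : ¬ ∀ x ∈ N, ∀ y ∈ N, x * y = y * x) (hV : H ≤ normalizer (V : Set G))
    (hVN : V ≤ N) (hc : ∀ x ∈ V, ∀ y ∈ V, x * y = y * x) : ∀ K ∈ Y, ∀ k ∈ K, ∀ v ∈ V, k * v = v * k := by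
  rcases o.dich hV (o.pN.to_le hVN) with h | h
  · exact absurd (fun x hx y hy => hc x (h hx) y (h hy)) hnc
  · exact h

/-- the centre of `N` commutes with the members of `Y` -/
theorem centre (o : Orb Om H N Y) (hnc : ¬ ∀ x ∈ N, ∀ y ∈ N, x * y = y * x) (hK : K ∈ Y) {k v : G} (hk : k ∈ K)
    (hv : v ∈ N) (hc : ∀ x ∈ N, v * x = x * v) : k * v = v * k := by
  have h1 : normalizer (N : Set G) ≤ normalizer ((N ⊓ centralizer (N : Set G) : Subgroup G) : Set G) := by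
    have key : ∀ g ∈ normalizer (N : Set G), ∀ x ∈ N ⊓ centralizer (N : Set G),
        g * x * g⁻¹ ∈ N ⊓ centralizer (N : Set G) := by
      intro g hg x hx
      refine Subgroup.mem_inf.2 ⟨(mem_normalizer_iff.1 hg _).1 hx.1, ?_⟩
      rw [mem_centralizer_iff]
      intro n hn
      have h2 : g⁻¹ * n * g ∈ N := by
        have := (mem_normalizer_iff.1 (inv_mem hg) n).1 hn
        simpa using this
      have h3 := mem_centralizer_iff.1 hx.2 _ h2
      calc n * (g * x * g⁻¹) = g * ((g⁻¹ * n * g) * x) * g⁻¹ := by group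
        _ = g * (x * (g⁻¹ * n * g)) * g⁻¹ := by rw [h3]
        _ = _ := by group
    intro g hg
    rw [mem_normalizer_iff]
    intro x
    refine ⟨key g hg x, fun hx => ?_⟩
    have := key g⁻¹ (inv_mem hg) _ hx
    simpa [mul_assoc] using this
  refine o.char_comm hnc (o.norm.trans h1) inf_le_left ?_ K hK k hk v (Subgroup.mem_inf.2 ⟨hv, ?_⟩)
  · intro x hx y hy
    exact (mem_centralizer_iff.1 hx.2 y hy.1).symm
  · rw [mem_centralizer_iff]
    exact fun x hx => (hc x hx).symm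

/-- `zz K` is not central in `N` -/
theorem zz_not_central (o : Orb Om H N Y) (hnc : ¬ ∀ x ∈ N, ∀ y ∈ N, x * y = y * x) (hK : K ∈ Y) :
    ¬ ∀ x ∈ N, zz K * x = x * zz K := by
  intro h1
  obtain ⟨v, hv, c, hc, hvc⟩ := o.hyp.exists_comm_eq (o.sub hK) (o.two K (o.sub hK))
  apply hnc
  intro x hx y hy
  refine o.comm_of_zz (fun L hL => ?_) y hy
  obtain ⟨g, hg, rfl⟩ := o.tr K hK L hL
  rw [o.hyp.zz_cj (o.sub hK)]
  have h2 : g⁻¹ * x * g ∈ N := by
    have := (mem_normalizer_iff.1 (o.norm (inv_mem hg)) x).1 hx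
    simpa using this
  have h3 := h1 _ h2
  calc x * (g * zz K * g⁻¹) = g * ((g⁻¹ * x * g) * zz K) * g⁻¹ := by group
    _ = g * (zz K * (g⁻¹ * x * g)) * g⁻¹ := by rw [h3]
    _ = _ := by group

/-- **class two** -/
theorem class_two (o : Orb Om H N Y) (hnc : ¬ ∀ x ∈ N, ∀ y ∈ N, x * y = y * x) {a b x : G} (ha : a ∈ N)
    (hb : b ∈ N) (hx : x ∈ N) : (a * b * a⁻¹ * b⁻¹) * x = x * (a * b * a⁻¹ * b⁻¹) := by
  haveI : Fact (Nat.Prime 2) := ⟨Nat.prime_two⟩
  haveI : Group.IsNilpotent N := o.pN.isNilpotent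
  have h1 : ⁅(⊤ : Subgroup N), (⊤ : Subgroup N)⁆ ≤ center N := by
    refine commutator_le_center fun X hX hXc => ?_
    have h2 : ∀ K ∈ Y, ∀ k ∈ K, ∀ v ∈ X.map N.subtype, k * v = v * k := by
      refine o.char_comm hnc (o.norm.trans (normalizer_le_char hX)) (map_subtype_le X) ?_
      rintro _ ⟨x, hx, rfl⟩ _ ⟨y, hy, rfl⟩
      exact congrArg Subtype.val (hXc x hx y hy)
    intro v hv
    rw [mem_center_iff]
    intro n
    refine Subtype.ext ?_
    exact (o.comm_of_zz (fun L hL => (h2 L hL _ (o.hyp.zz_mem (o.sub hL)) _ ⟨v, hv, rfl⟩).symm) _ n.2).symm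
  have h2 : (⟨a, ha⟩ : N) * ⟨b, hb⟩ * (⟨a, ha⟩ : N)⁻¹ * (⟨b, hb⟩ : N)⁻¹ ∈ center N :=
    h1 (commutator_mem_commutator (mem_top _) (mem_top _))
  exact (congrArg Subtype.val (mem_center_iff.1 h2 ⟨x, hx⟩)).symm

/-- squares are central -/
theorem sq_comm (o : Orb Om H N Y) (hnc : ¬ ∀ x ∈ N, ∀ y ∈ N, x * y = y * x) {a x : G} (ha : a ∈ N)
    (hx : x ∈ N) : (a * a) * x = x * (a * a) := by
  have ha' := ha
  rw [o.gen] at ha'
  refine (closure_induction (p := fun a _ => a ∈ N ∧ ∀ x ∈ N, (a * a) * x = x * (a * a)) ?_ ?_ ?_ ?_ ha').2 x hx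
  · rintro _ ⟨K, hK, rfl⟩
    refine ⟨o.zz_mem hK, fun x _ => ?_⟩
    rw [o.zz_sq hK, one_mul, mul_one]
  · exact ⟨N.one_mem, fun x _ => by simp⟩
  · rintro a b _ _ ⟨ha, ha2⟩ ⟨hb, hb2⟩
    refine ⟨N.mul_mem ha hb, fun x hx => ?_⟩
    have h1 : a * b * (a * b) = (a * a) * ((a⁻¹ * b * a⁻¹⁻¹ * b⁻¹) * (b * b)) := by group
    rw [h1]
    have h2 := o.class_two hnc (N.inv_mem ha) hb hx
    have h3 := ha2 x hx
    have h4 := hb2 x hx
    set c := a⁻¹ * b * a⁻¹⁻¹ * b⁻¹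
    calc a * a * (c * (b * b)) * x = a * a * (c * (b * b * x)) := by group
      _ = a * a * (c * x * (b * b)) := by rw [h4]; group
      _ = (a * a * x) * (c * (b * b)) := by rw [h2]; group
      _ = _ := by rw [h3]; group
  · rintro a _ ⟨ha, ha2⟩
    refine ⟨N.inv_mem ha, fun x hx => ?_⟩
    have h1 : a⁻¹ * a⁻¹ = (a * a)⁻¹ := by group
    rw [h1, inv_mul_eq_iff_eq_mul, ← mul_assoc, ha2 x hx, mul_assoc, mul_inv_cancel, mul_one]

/-- `K ⊓ N = ⟨zz K⟩` -/
theorem mem_inf (o : Orb Om H N Y) (hK : K ∈ Y) {x : G} (hx : x ∈ K) (hxN : x ∈ N) : x = 1 ∨ x = zz K := by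
  have key : x * x = 1 := by
    by_cases hc : ∀ x ∈ N, ∀ y ∈ N, x * y = y * x
    · exact o.sq_of_comm hc x hxN
    · refine o.hyp.eq_one_of_mem (N := N ⊓ centralizer (N : Set G)) (o.sub hK) (o.two K (o.sub hK)) ?_
        (K.mul_mem hx hx) (Subgroup.mem_inf.2 ⟨N.mul_mem hxN hxN, ?_⟩)
      · intro h
        exact o.zz_not_central hc hK fun x hx => (mem_centralizer_iff.1 h.2 x hx).symm
      · rw [mem_centralizer_iff]
        exact fun y hy => (o.sq_comm hc hxN hy).symm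
  by_cases h1 : x = 1
  · exact Or.inl h1
  · exact Or.inr (o.hyp.eq_zz (o.sub hK) hx key h1)

/-- `w = zz K * zz (K^n)` is a commutator -/
theorem w_eq (o : Orb Om H N Y) (hK : K ∈ Y) (n : G) : zz K * zz (cj n K) = zz K * n * (zz K)⁻¹ * n⁻¹ := by
  rw [o.hyp.zz_cj (o.sub hK), o.hyp.zz_inv (o.sub hK)]; group

/-- `w = zz K * zz (K^n)` commutes with `N` (`n ∈ N`) -/
theorem w_comm (o : Orb Om H N Y) (hnc : ¬ ∀ x ∈ N, ∀ y ∈ N, x * y = y * x) (hK : K ∈ Y) {n x : G} (hn : n ∈ N)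
    (hx : x ∈ N) : (zz K * zz (cj n K)) * x = x * (zz K * zz (cj n K)) := by
  rw [o.w_eq hK n]
  exact o.class_two hnc (o.zz_mem hK) hn hx

theorem w_mem (o : Orb Om H N Y) (hK : K ∈ Y) {n : G} (hn : n ∈ N) : zz K * zz (cj n K) ∈ N := by
  rw [o.w_eq hK n]
  exact N.mul_mem (N.mul_mem (N.mul_mem (o.zz_mem hK) hn) (N.inv_mem (o.zz_mem hK))) (N.inv_mem hn)

/-- `w = zz K * zz (K^n)` commutes with the members of `Y` -/
theorem w_centre (o : Orb Om H N Y) (hnc : ¬ ∀ x ∈ N, ∀ y ∈ N, x * y = y * x) (hK : K ∈ Y) (hL : L ∈ Y) {n k : G}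
    (hn : n ∈ N) (hk : k ∈ L) : k * (zz K * zz (cj n K)) = (zz K * zz (cj n K)) * k :=
  o.centre hnc hL hk (o.w_mem hK hn) fun _ hx => o.w_comm hnc hK hn hx

/-- `K` and `K^n` commute (`n ∈ N`) if they are different -/
theorem comm_cj (o : Orb Om H N Y) (hnc : ¬ ∀ x ∈ N, ∀ y ∈ N, x * y = y * x) (hK : K ∈ Y) {n : G} (hn : n ∈ N)
    (hne : K ≠ cj n K) : ∀ a ∈ K, ∀ b ∈ cj n K, a * b = b * a := by
  have hKn := o.hyp.conj K (o.sub hK) n
  refine o.hyp.comm_of_zz_comm (o.sub hK) hKn (o.two K (o.sub hK)) (o.two _ hKn) ?_ hne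
  intro a ha
  have h1 := o.w_centre hnc hK hK hn ha
  have h2 := o.hyp.comm_zz (o.sub hK) (le_normalizer ha)
  have h3 : zz (cj n K) = zz K * (zz K * zz (cj n K)) := by rw [← mul_assoc, o.zz_sq hK, one_mul]
  rw [h3, ← mul_assoc, h2, mul_assoc, h1, ← mul_assoc]

/-- `K^m` and `K^n` commute (`m, n ∈ N`) if they are different -/
theorem comm_cj_cj (o : Orb Om H N Y) (hnc : ¬ ∀ x ∈ N, ∀ y ∈ N, x * y = y * x) (hK : K ∈ Y) {m n : G}
    (hm : m ∈ N) (hn : n ∈ N) (hne : cj m K ≠ cj n K) : ∀ a ∈ cj m K, ∀ b ∈ cj n K, a * b = b * a := by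
  have h1 : K ≠ cj (m⁻¹ * n) K := by
    intro h2
    apply hne
    rw [← cj_inj (g := m⁻¹), cj_inv_cj, ← cj_mul]
    exact h2
  intro a ha b hb
  have h2 := o.comm_cj hnc hK (N.mul_mem (N.inv_mem hm) hn) h1 (m⁻¹ * a * m) (mem_cj.1 ha) (m⁻¹ * b * m) (by
    rw [cj_mul]
    have := conj_mem_cj (g := m⁻¹) hb
    simpa using this)
  calc a * b = m * ((m⁻¹ * a * m) * (m⁻¹ * b * m)) * m⁻¹ := by group
    _ = m * ((m⁻¹ * b * m) * (m⁻¹ * a * m)) * m⁻¹ := by rw [h2]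
    _ = _ := by group

/-- `a⁻¹ k` -/
theorem diag_mem (o : Orb Om H N Y) (hK : K ∈ Y) {k n : G} (hk : k ∈ K) (hn : n ∈ N) :
    k * (n * k * n⁻¹)⁻¹ ∈ N := by
  have h1 : k * (n * k * n⁻¹)⁻¹ = (k * n * k⁻¹) * n⁻¹ := by group
  rw [h1]
  exact N.mul_mem ((mem_normalizer_iff.1 (o.normK hK hk) _).1 hn) (N.inv_mem hn)

/-- **the commutator `[zz K, n]`, `n ∈ N`, is unique**: the conjugates of `K` under `N` are `K` and one more member -/
theorem unique (o : Orb Om H N Y) (hnc : ¬ ∀ x ∈ N, ∀ y ∈ N, x * y = y * x) (hK : K ∈ Y) {m n : G}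
    (hm : m ∈ N) (hn : n ∈ N) (h1 : K ≠ cj m K) (h2 : K ≠ cj n K) : cj m K = cj n K := by
  by_contra hne
  have c1 := o.comm_cj hnc hK hm h1
  have c2 := o.comm_cj hnc hK hn h2
  have c3 := o.comm_cj_cj hnc hK hm hn hne
  obtain ⟨v, hv, c, hc, hvc⟩ := o.hyp.exists_comm_eq (o.sub hK) (o.two K (o.sub hK))
  refine o.zz_not_central hnc hK fun x hx => ?_
  have hv' := conj_mem_cj (g := m) hv
  have hc' := conj_mem_cj (g := n) hc
  have h3 := o.class_two hnc (o.diag_mem hK hv hm) (o.diag_mem hK hc hn) hx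
  have h4 : v * (m * v * m⁻¹)⁻¹ * (c * (n * c * n⁻¹)⁻¹) * (v * (m * v * m⁻¹)⁻¹)⁻¹ *
      (c * (n * c * n⁻¹)⁻¹)⁻¹ = zz K := by
    set v' := m * v * m⁻¹
    set c' := n * c * n⁻¹
    have e1 : v'⁻¹ * c = c * v'⁻¹ := (c1 c hc _ (inv_mem hv')).symm
    have e2 : v'⁻¹ * c'⁻¹ = c'⁻¹ * v'⁻¹ := c3 _ (inv_mem hv') _ (inv_mem hc')
    have e3 : c'⁻¹ * v⁻¹ = v⁻¹ * c'⁻¹ := (c2 _ (inv_mem hv) _ (inv_mem hc')).symm
    rw [← hvc]
    calc v * v'⁻¹ * (c * c'⁻¹) * (v * v'⁻¹)⁻¹ * (c * c'⁻¹)⁻¹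
        = v * (v'⁻¹ * c) * c'⁻¹ * v' * v⁻¹ * c' * c⁻¹ := by group
      _ = v * c * (v'⁻¹ * c'⁻¹) * v' * v⁻¹ * c' * c⁻¹ := by rw [e1]; group
      _ = v * c * (c'⁻¹ * v⁻¹) * c' * c⁻¹ := by rw [e2]; group
      _ = v * c * v⁻¹ * c⁻¹ := by rw [e3]; group
  rwa [h4] at h3

end Orb

end Cfsg.Agent.Cit.ROne
end

-- part: Cit/Nil/ROne/ClTwoW
section
set_option linter.all false
open scoped Cfsg.Agent.FastGrp

/-!
# (6b), `r = 1`, section 2 of helper545's text: the normal closures `N = ⟨y^{C(s)}⟩`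

`NC s y = ⟨y^{C(s)}⟩`, for `s` with `AN(s)` and `y ∈ Z(s)` : context `c : S2 Z K s y` (`w : W Z K`, `an : AN Z K s`,
`mem : y ∈ ZC Z K s`).

* `NC_norm`, `NC_le_of_norm`, `NC_le_NC`, `NC_conj`, `ZC_conj`;
* `c.pN` : `N = NC s y` is a 2-group; `c.conj`, `c.other` : the context for `g y g⁻¹`, `x ∈ Z(s)`;
* `c.comm_of_not_mem` (2.1); `c.mem_or`, `c.mem_of_ne` (2.4);
* `c.sq_of_comm`, `c.centre`, `c.class_two`, `c.sq_comm`, `c.not_central`, `c.K_inf` (2.2);
* `c.inner`, `c.not_trn`, `c.inn_or`, `c.cp_or_ti` (2.3);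
* `c.exists_w` (2.5), (2.6); `c.csw`, `c.wt_eq`, `c.wt_spec`, `c.wt_unique` : the same in terms of `CSw` and `wt`;
  `c.comm_of_orbit`, `c.comm_of_no_csw`.
* the same as `W.nc_*` with hypotheses `h : W Z K`, `ha : AN Z K s`, `hy : y ∈ ZC Z K s`.
-/

set_option autoImplicit false
set_option linter.style.haveILetI false
set_option linter.unusedSectionVars false

namespace Cfsg.Agent.Cit.Nil.ROne

open Subgroup Cfsg Cit

variable {G : Type*} [Group G]

theorem comm_inv {s g : G} (hg : g * s = s * g) : g⁻¹ * s = s * g⁻¹ := by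
  rw [inv_mul_eq_iff_eq_mul, ← mul_assoc, hg, mul_inv_cancel_right]

/-- `C(s)` normalises `NC s y` -/
theorem NC_norm (s y : G) : centralizer {s} ≤ normalizer (NC s y : Set G) := fun g hg => by
  rw [mem_normalizer_iff_cj, cj_NC (mem_centralizer_singleton_iff.1 hg)]

/-- the least `C(s)`-invariant subgroup -/
theorem NC_le_of_norm {s y : G} {N : Subgroup G} (hN : centralizer {s} ≤ normalizer (N : Set G)) (hy : y ∈ N) :
    NC s y ≤ N := by
  rw [NC, closure_le]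
  rintro _ ⟨g, hg, rfl⟩
  exact (mem_normalizer_iff.1 (hN (mem_centralizer_singleton_iff.2 hg)) _).1 hy

theorem NC_le_NC {s x y : G} (hx : x ∈ NC s y) : NC s x ≤ NC s y := NC_le_of_norm (NC_norm s y) hx

theorem NC_conj {s y g : G} (hg : g * s = s * g) : NC s (g * y * g⁻¹) = NC s y := by
  refine le_antisymm (NC_le_NC (conj_mem_NC hg)) (NC_le_NC ?_)
  have h1 := conj_mem_NC (y := g * y * g⁻¹) (comm_inv hg)
  simpa [mul_assoc] using h1

theorem comm_of_gens {s x y : G} (hx : ∀ g, g * s = s * g → x * (g * y * g⁻¹) = (g * y * g⁻¹) * x) :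
    ∀ n ∈ NC s y, x * n = n * x := by
  intro n hn
  refine closure_induction (p := fun n _ => x * n = n * x) ?_ (by simp) ?_ ?_ hn
  · rintro _ ⟨g, hg, rfl⟩
    exact hx g hg
  · intro a b _ _ ha hb
    rw [← mul_assoc, ha, mul_assoc, hb, mul_assoc]
  · intro a _ ha
    rw [eq_inv_mul_iff_mul_eq, ← mul_assoc, ← ha, mul_inv_cancel_right]

section

variable {Z : Set G} {K : G → Subgroup G} {s x y n k a b g : G}

/-- `Z(s)` is invariant under `C(s)` -/
theorem ZC_conj (h : W Z K) (hy : y ∈ ZC Z K s) (hg : g * s = s * g) : g * y * g⁻¹ ∈ ZC Z K s := by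
  refine ⟨h.conjZ y hy.1 g, ?_⟩
  have h1 := h.cen_conj hy.1 g hy.2
  rwa [hg, mul_inv_cancel_right] at h1

/-- `K x ≤ C(s)` -/
theorem K_le_cent (hc : x ∈ ZC Z K s) : K x ≤ centralizer {s} := fun k hk =>
  mem_centralizer_singleton_iff.2 (hc.2 k hk).symm

/-- the members over `Z(s)` normalise `N` -/
theorem K_norm (hc : x ∈ ZC Z K s) (y : G) : K x ≤ normalizer (NC s y : Set G) := (K_le_cent hc).trans (NC_norm s y)

/-- the orbit of `K y` under `C(s)` -/
def orbK (K : G → Subgroup G) (s y : G) : Set (Subgroup G) := {L | ∃ g ∈ centralizer {s}, cj g (K y) = L}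

theorem NC_eq (h : W Z K) [Finite G] (hy : y ∈ Z) : NC s y = closure (zz '' orbK K s y) := by
  rw [NC]
  congr 1
  ext x
  constructor
  · rintro ⟨g, hg, rfl⟩
    refine ⟨cj g (K y), ⟨g, mem_centralizer_singleton_iff.2 hg, rfl⟩, ?_⟩
    rw [h.hyp.zz_cj ⟨y, hy, rfl⟩, h.zz_K hy]
  · rintro ⟨_, ⟨g, hg, rfl⟩, rfl⟩
    refine ⟨g, mem_centralizer_singleton_iff.1 hg, ?_⟩
    rw [h.hyp.zz_cj ⟨y, hy, rfl⟩, h.zz_K hy]

end

/-- the context of section 2: `W`, `AN(s)`, `y ∈ Z(s)` -/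
structure S2 (Z : Set G) (K : G → Subgroup G) (s y : G) : Prop where
  w : W Z K
  an : AN Z K s
  mem : y ∈ ZC Z K s

namespace S2

variable [Finite G] {Z : Set G} {K : G → Subgroup G} {s x y n k a b g : G}

theorem conj (c : S2 Z K s y) (hg : g * s = s * g) : S2 Z K s (g * y * g⁻¹) := ⟨c.w, c.an, ZC_conj c.w c.mem hg⟩

/-- another element of `Z(s)` -/
theorem other (c : S2 Z K s y) (hx : x ∈ ZC Z K s) : S2 Z K s x := ⟨c.w, c.an, hx⟩

theorem pN (c : S2 Z K s y) : IsPGroup 2 (NC s y) := NC_two c.an c.mem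

theorem orb (c : S2 Z K s y) :
    Cfsg.Agent.Cit.ROne.Orb (K '' Z) (centralizer {s}) (NC s y) (orbK K s y) := by
  have h1 := Cfsg.Agent.Cit.ROne.Orb.of_orbit (H := centralizer {s}) c.w.hyp
    (by rintro _ ⟨x, hx, rfl⟩; exact c.w.two hx) (K := K y) ⟨y, c.mem.1, rfl⟩ (K_le_cent c.mem) (by
      have := c.pN
      rw [NC_eq c.w c.mem.1] at this
      exact this)
  rw [NC_eq c.w c.mem.1]
  exact h1

theorem orb_mem (c : S2 Z K s y) (hg : g * s = s * g) : K (g * y * g⁻¹) ∈ orbK K s y :=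
  ⟨g, mem_centralizer_singleton_iff.2 hg, (c.w.conjK y c.mem.1 g).symm⟩

theorem orb_self (c : S2 Z K s y) : K y ∈ orbK K s y := by
  simpa using c.orb_mem (g := 1) (by simp)

/-- **(2.4)** : `x ∈ Z(s)` lies in `N`, or `K x` commutes with `N` -/
theorem mem_or (c : S2 Z K s y) (hx : x ∈ ZC Z K s) : x ∈ NC s y ∨ ∀ k ∈ K x, ∀ n ∈ NC s y, k * n = n * k := by
  by_cases h1 : x ∈ NC s y
  · exact Or.inl h1
  right
  refine c.w.hyp.lemma_one ⟨x, hx.1, rfl⟩ (c.w.two hx.1) c.pN (K_norm hx y) ?_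
  rwa [c.w.zz_K hx.1]

theorem mem_of_ne (c : S2 Z K s y) (hx : x ∈ ZC Z K s) (hn : n ∈ NC s y) (hne : x * n ≠ n * x) : x ∈ NC s y := by
  rcases c.mem_or hx with h | h
  · exact h
  · exact absurd (h x (c.w.mem x hx.1) n hn) hne

/-- **(2.1)** : a `C(s)`-invariant subgroup of `N` without `y` commutes with `K y` -/
theorem comm_of_not_mem (c : S2 Z K s y) {V : Subgroup G} (hV : centralizer {s} ≤ normalizer (V : Set G))
    (hVN : V ≤ NC s y) (hy : y ∉ V) : ∀ k ∈ K y, ∀ n ∈ V, k * n = n * k := by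
  refine c.w.hyp.lemma_one ⟨y, c.mem.1, rfl⟩ (c.w.two c.mem.1) (c.pN.to_le hVN) ((K_le_cent c.mem).trans hV) ?_
  rwa [c.w.zz_K c.mem.1]

/-- `N` is commutative: then of exponent 2 -/
theorem sq_of_comm (c : S2 Z K s y) (hc : ∀ a ∈ NC s y, ∀ b ∈ NC s y, a * b = b * a) : ∀ a ∈ NC s y, a * a = 1 :=
  c.orb.sq_of_comm hc

section noncomm

variable (hnc : ¬ ∀ a ∈ NC s y, ∀ b ∈ NC s y, a * b = b * a)

include hnc

/-- the centre of `N` commutes with `K y` -/
theorem centre (c : S2 Z K s y) (hn : n ∈ NC s y) (hc : ∀ a ∈ NC s y, n * a = a * n) (hk : k ∈ K y) :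
    k * n = n * k := c.orb.centre hnc c.orb_self hk hn hc

theorem class_two (c : S2 Z K s y) (ha : a ∈ NC s y) (hb : b ∈ NC s y) (hn : n ∈ NC s y) :
    (a * b * a⁻¹ * b⁻¹) * n = n * (a * b * a⁻¹ * b⁻¹) := c.orb.class_two hnc ha hb hn

theorem sq_comm (c : S2 Z K s y) (ha : a ∈ NC s y) (hn : n ∈ NC s y) : (a * a) * n = n * (a * a) :=
  c.orb.sq_comm hnc ha hn

theorem not_central (c : S2 Z K s y) : ¬ ∀ n ∈ NC s y, y * n = n * y := by
  have h1 := c.orb.zz_not_central hnc c.orb_self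
  rwa [c.w.zz_K c.mem.1] at h1

end noncomm

/-- **`K x ⊓ N ≤ ⟨x⟩`** for `x ∈ Z` -/
theorem K_inf (c : S2 Z K s y) (hx : x ∈ Z) (ha : a ∈ K x) (haN : a ∈ NC s y) : a = 1 ∨ a = x := by
  by_cases hxN : x ∈ NC s y
  · by_contra hcon
    push Not at hcon
    have hsq := c.w.sq_eq hx ha hcon.1 hcon.2
    by_cases hc : ∀ a ∈ NC s y, ∀ b ∈ NC s y, a * b = b * a
    · exact c.w.ne x hx (hsq ▸ c.sq_of_comm hc a haN)
    -- `x = a²` is central in `N`
    have hxc : ∀ n ∈ NC s y, x * n = n * x := fun n hn => by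
      have := c.sq_comm hc haN hn
      rwa [hsq] at this
    -- `K y^g` commutes with `x`, so with `K x`
    have hKN : ∀ b ∈ K x, ∀ n ∈ NC s y, b * n = n * b := by
      intro b hb
      refine comm_of_gens fun g hg => ?_
      have cg := c.conj hg
      have h1 : Cen K x (g * y * g⁻¹) := fun k hk => (c.orb.centre hc (c.orb_mem hg) hk hxN hxc).symm
      rcases (c.w.cen_iff cg.mem.1 hx).1 h1 with h2 | h2
      · exfalso
        refine cg.not_central (by rwa [NC_conj hg]) fun n hn => ?_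
        rw [h2]
        rw [NC_conj hg] at hn
        exact hxc n hn
      · exact (h2.2 _ (c.w.mem _ cg.mem.1) b hb).symm
    -- `a` is central in `K x`
    obtain ⟨b, hb, -, -, -, -, h1⟩ := c.w.exists_inv hx ha hsq
    rw [hKN b hb a haN, mul_inv_cancel_right, eq_inv_iff_mul_eq_one, hsq] at h1
    exact c.w.ne x hx h1
  · left
    refine c.w.hyp.eq_one_of_mem (N := NC s y) ⟨x, hx, rfl⟩ (c.w.two hx) ?_ ha haN
    rwa [c.w.zz_K hx]

/-- **(2.3)** : `n ∈ N` commuting with `x ∈ Z(s)` acts on `K x` as an inner automorphism -/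
theorem inner (c : S2 Z K s y) (hx : x ∈ ZC Z K s) (hn : n ∈ NC s y) (hnx : n * x = x * n)
    (hk : k ∈ K x) : n * k * n⁻¹ = k ∨ n * k * n⁻¹ = k * x := by
  have h1 : k⁻¹ * (n * k * n⁻¹) ∈ K x := (K x).mul_mem ((K x).inv_mem hk) (c.w.norm_mem hx.1 hnx hk)
  have h2 : k⁻¹ * (n * k * n⁻¹) ∈ NC s y := by
    have h3 := (mem_normalizer_iff.1 (K_norm hx y ((K x).inv_mem hk)) n).1 hn
    have h4 : k⁻¹ * (n * k * n⁻¹) = (k⁻¹ * n * k⁻¹⁻¹) * n⁻¹ := by group
    rw [h4]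
    exact (NC s y).mul_mem h3 ((NC s y).inv_mem hn)
  rcases c.K_inf hx.1 h1 h2 with h3 | h3
  · left; rwa [inv_mul_eq_one, eq_comm] at h3
  · right; rwa [inv_mul_eq_iff_eq_mul] at h3

/-- `n` does not act as a transposition -/
theorem not_trn (c : S2 Z K s y) (hx : x ∈ ZC Z K s) (hn : n ∈ NC s y) (hnx : n * x = x * n) : ¬ Trn K n x a := by
  intro ht
  obtain ⟨b, hb, hbb, h1, h2, -, -⟩ := c.w.exists_inv hx.1 ht.mem ht.sq
  obtain ⟨h3, h4⟩ := ht.ne b hb hbb h1 h2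
  rcases c.inner hx hn hnx hb with h5 | h5
  · exact h3 h5
  · apply h4
    rw [h5, eq_inv_iff_mul_eq_one, mul_assoc, ← c.w.cent hx.1 hb, ← mul_assoc, hbb, c.w.sq x hx.1]

/-- (2.3): `n ∈ N` commuting with `x ∈ Z(s)` acts on `K x` as `1` or as an element of order 4 -/
theorem inn_or (c : S2 Z K s y) (hx : x ∈ ZC Z K s) (hn : n ∈ NC s y) (hnx : n * x = x * n) :
    Cen K n x ∨ ∃ i, Inn K n x i := by
  have h1 : Cen K (n * n) x := by
    intro k hk
    have key : n * n * k * (n * n)⁻¹ = k := by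
      have e : n * n * k * (n * n)⁻¹ = n * (n * k * n⁻¹) * n⁻¹ := by group
      rw [e]
      rcases c.inner hx hn hnx hk with h2 | h2
      · rw [h2, h2]
      · rw [h2]
        have e2 : n * (k * x) * n⁻¹ = (n * k * n⁻¹) * (n * x * n⁻¹) := by group
        rw [e2, h2, hnx, mul_inv_cancel_right, mul_assoc, c.w.sq x hx.1, mul_one]
    rwa [mul_inv_eq_iff_eq_mul] at key
  rcases c.w.inv_cases hx.1 hnx h1 with h2 | h2 | ⟨b, h2⟩
  · exact Or.inl h2
  · exact Or.inr h2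
  · exact absurd h2 (c.not_trn hx hn hnx)

/-- **(2.5), (2.6)** : `N` not commutative: `w` -/
theorem exists_w (c : S2 Z K s y) (hnc : ¬ ∀ a ∈ NC s y, ∀ b ∈ NC s y, a * b = b * a) :
    ∃ w, w ≠ 1 ∧ w * w = 1 ∧ w ∈ NC s y ∧ (∀ n ∈ NC s y, w * n = n * w) ∧ (∀ k ∈ K y, k * w = w * k) ∧
      CP K y (y * w) ∧ y * w ∈ Z ∧ (∀ n ∈ NC s y, n * y * n⁻¹ = y ∨ n * y * n⁻¹ = y * w) ∧
      ∃ g, g * s = s * g ∧ (g * y * g⁻¹) * y * (g * y * g⁻¹)⁻¹ = y * w := by
  have hyZ := c.mem.1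
  have hzK := c.w.zz_K hyZ
  have hyp := c.w.hyp
  -- a conjugate of `y` which does not commute with `y`
  obtain ⟨g, hg, hgy⟩ : ∃ g, g * s = s * g ∧ (g * y * g⁻¹) * y ≠ y * (g * y * g⁻¹) := by
    by_contra hcon
    push Not at hcon
    exact c.not_central hnc (comm_of_gens fun g hg => (hcon g hg).symm)
  set m := g * y * g⁻¹ with hm
  have hmN : m ∈ NC s y := conj_mem_NC hg
  have hKne : ∀ n, n * y * n⁻¹ ≠ y → K y ≠ cj n (K y) := by
    intro n h1 h2
    have h3 := congrArg zz h2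
    rw [hyp.zz_cj ⟨y, hyZ, rfl⟩, hzK] at h3
    exact h1 h3.symm
  have hmy : m * y * m⁻¹ ≠ y := by rwa [Ne, mul_inv_eq_iff_eq_mul]
  have hw1 : ∀ n ∈ NC s y, _ := fun n hn => c.orb.w_comm hnc c.orb_self hmN hn
  have hw2 := c.orb.w_mem c.orb_self hmN
  have hw3 := c.orb.comm_cj hnc c.orb_self hmN (hKne m hmy)
  rw [hyp.zz_cj ⟨y, hyZ, rfl⟩, hzK] at hw1 hw2
  have hyy := c.w.sq y hyZ
  have hyw : y * (y * (m * y * m⁻¹)) = m * y * m⁻¹ := by rw [← mul_assoc, hyy, one_mul]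
  have hw4 : ∀ k ∈ K y, k * (y * (m * y * m⁻¹)) = (y * (m * y * m⁻¹)) * k := fun k hk =>
    c.centre hnc hw2 hw1 hk
  refine ⟨y * (m * y * m⁻¹), ?_, ?_, hw2, hw1, hw4, ?_, ?_, ?_, g, hg, ?_⟩
  · intro h1
    apply hmy
    calc m * y * m⁻¹ = y * (y * (m * y * m⁻¹)) := hyw.symm
      _ = y := by rw [h1, mul_one]
  · have h1 := hw4 y (c.w.mem y hyZ)
    rw [hyw] at h1
    have h2 : (m * y * m⁻¹) * (m * y * m⁻¹) = 1 := by
      have : (m * y * m⁻¹) * (m * y * m⁻¹) = m * (y * y) * m⁻¹ := by group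
      rw [this, hyy]; group
    calc y * (m * y * m⁻¹) * (y * (m * y * m⁻¹)) = (y * (m * y * m⁻¹) * y) * (m * y * m⁻¹) := by group
      _ = (m * y * m⁻¹) * (m * y * m⁻¹) := by rw [← h1]
      _ = 1 := h2
  · rw [hyw]
    refine ⟨hmy.symm, ?_⟩
    rw [c.w.conjK y hyZ]
    exact hw3
  · rw [hyw]; exact c.w.conjZ y hyZ m
  · intro n hn
    rw [hyw]
    by_cases h1 : n * y * n⁻¹ = y
    · exact Or.inl h1
    right
    have h2 := c.orb.unique hnc c.orb_self hn hmN (hKne n h1) (hKne m hmy)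
    have h3 := congrArg zz h2
    rwa [hyp.zz_cj ⟨y, hyZ, rfl⟩, hyp.zz_cj ⟨y, hyZ, rfl⟩, hzK] at h3
  · rw [hyw]

/-- an element of `N` moving `y` -/
theorem ncomm_of_ne (hn : n ∈ NC s y) (hne : n * y * n⁻¹ ≠ y) :
    ¬ ∀ a ∈ NC s y, ∀ b ∈ NC s y, a * b = b * a := fun hc => hne (by
  rw [hc n hn y self_mem_NC, mul_inv_cancel_right])

/-- an element of `N` moving `y` moves it to a C-partner -/
theorem csw (c : S2 Z K s y) (hn : n ∈ NC s y) (hne : n * y * n⁻¹ ≠ y) : CSw K y n := by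
  obtain ⟨w, -, -, -, -, -, hcp, -, hw, -⟩ := c.exists_w (ncomm_of_ne hn hne)
  rw [CSw, (hw n hn).resolve_left hne]
  exact hcp

/-- `w(y, n)` does not depend on `n ∈ N` moving `y` -/
theorem wt_eq (c : S2 Z K s y) {m : G} (hn : n ∈ NC s y) (hne : n * y * n⁻¹ ≠ y) (hm : m ∈ NC s y)
    (hme : m * y * m⁻¹ ≠ y) : wt y n = wt y m := by
  obtain ⟨w, -, -, -, -, -, -, -, hw, -⟩ := c.exists_w (ncomm_of_ne hn hne)
  rw [wt, wt, (hw n hn).resolve_left hne, (hw m hm).resolve_left hme]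

/-- `N` is commutative if no conjugate of `y` under `C(s)` moves `y` -/
theorem comm_of_orbit (c : S2 Z K s y)
    (hc : ∀ g, g * s = s * g → (g * y * g⁻¹) * y = y * (g * y * g⁻¹)) : ∀ a ∈ NC s y, ∀ b ∈ NC s y, a * b = b * a := by
  by_contra hnc
  exact c.not_central hnc (comm_of_gens fun g hg => (hc g hg).symm)

/-- `N = ⟨y^{C(s)}⟩` is commutative if `y` is in no C-swap -/
theorem comm_of_no_csw (c : S2 Z K s y) (hc : ∀ v ∈ Z, ¬ CSw K y v) : ∀ a ∈ NC s y, ∀ b ∈ NC s y, a * b = b * a := by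
  refine c.comm_of_orbit fun g hg => ?_
  by_contra h1
  refine hc (g * y * g⁻¹) (c.w.conjZ y c.mem.1 g) (c.csw (conj_mem_NC hg) ?_)
  rwa [Ne, mul_inv_eq_iff_eq_mul]

/-- (3.3) -/
theorem wt_unique {u v v1 : G} (c : S2 Z K s u) (hv : v ∈ ZC Z K s) (hv1 : v1 ∈ ZC Z K s)
    (hne : v * u ≠ u * v) (hne1 : v1 * u ≠ u * v1) : wt u v = wt u v1 :=
  c.wt_eq (c.mem_of_ne hv self_mem_NC hne) (by rwa [Ne, mul_inv_eq_iff_eq_mul])
    (c.mem_of_ne hv1 self_mem_NC hne1) (by rwa [Ne, mul_inv_eq_iff_eq_mul])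

end S2

/-- `⟨y^{C(s)}⟩` is commutative -/
def NCab (s y : G) : Prop := ∀ a ∈ NC s y, ∀ b ∈ NC s y, a * b = b * a

namespace W

variable [Finite G] {Z : Set G} {K : G → Subgroup G} {s x y n k a b g : G}

section

variable (h : W Z K) (ha : AN Z K s) (hy : y ∈ ZC Z K s)

include h ha hy

/-- (2.4) -/
theorem nc_in_or (hx : x ∈ ZC Z K s) : x ∈ NC s y ∨ ∀ n ∈ NC s y, Cen K n x := by
  rcases (S2.mk h ha hy).mem_or hx with h1 | h1
  · exact Or.inl h1
  · exact Or.inr fun n hn k hk => (h1 k hk n hn).symm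

/-- (2.3) -/
theorem nc_inn (hn : n ∈ NC s y) (hc : n * y = y * n) : ∀ k ∈ K y, n * k * n⁻¹ = k ∨ n * k * n⁻¹ = k * y :=
  fun _ hk => (S2.mk h ha hy).inner hy hn hc hk

theorem nc_centre' (hc : ¬ NCab s y) {c : G} (hcN : c ∈ NC s y) (hcc : ∀ n ∈ NC s y, c * n = n * c) :
    Cen K c y := fun _ hk => ((S2.mk h ha hy).centre hc hcN hcc hk).symm

theorem nc_comm (hc : ¬ NCab s y) (haN : a ∈ NC s y) (hbN : b ∈ NC s y) :
    ∀ n ∈ NC s y, (a * b * a⁻¹ * b⁻¹) * n = n * (a * b * a⁻¹ * b⁻¹) :=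
  fun _ hn => (S2.mk h ha hy).class_two hc haN hbN hn

/-- (2.5) -/
theorem nc_uniq {n' : G} (hn : n ∈ NC s y) (hn' : n' ∈ NC s y) (hne : n * y * n⁻¹ ≠ y)
    (hne' : n' * y * n'⁻¹ ≠ y) : n * y * n⁻¹ = n' * y * n'⁻¹ := by
  have h1 := (S2.mk h ha hy).wt_eq hn hne hn' hne'
  exact mul_left_cancel h1

/-- (2.5) -/
theorem nc_csw (hn : n ∈ NC s y) (hne : n * y * n⁻¹ ≠ y) : CP K y (n * y * n⁻¹) := (S2.mk h ha hy).csw hn hne

end

end W

end Cfsg.Agent.Cit.Nil.ROne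

private theorem dce_cdfd3a339ae8 : _root_.True := by
  try have : _root_.True := by simp only [_root_.Cfsg.Agent.Cit.Nil.ROne.wt.eq_1]
  try have : _root_.True := by simp only [_root_.Cfsg.Agent.Cit.Nil.ROne.NC.eq_1]
  try have : _root_.True := by simp only [_root_.Cfsg.Agent.Cit.Nil.ROne.CSw.eq_1]
  exact _root_.True.intro
end

-- part: Cit/Nil/ROne/SwapN
section
set_option linter.all false
open scoped Cfsg.Agent.FastGrp

/-!
# (6b), `r = 1`, core-free: C-swaps (helper194)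

(3.2), (3.3), (3.4) of `blueprints/R18-6b-r1-helper545.md`. `ANT Z K` : `AN(s)` for all `s ∈ T_S`, `s ≠ 1`.
For a C-swap `(u, v)`, `w = wt u v`, `N = NC w u = NC w v`:

* `swap_an`, `swap_mem`, `swap_NC`, `swap_ncab`, `swap_act`, `swap_act'`, `swap_cent`, `swap_inn` : (3.2);
* `swap_uniq` : (3.3);
* `dg_mem`, `dg_conj`, `dg_conj'` : (3.4).
-/

set_option autoImplicit false
set_option linter.style.haveILetI false
set_option linter.unusedSectionVars false

namespace Cfsg.Agent.Cit.Nil.ROne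

open Subgroup Cfsg Cit

variable {G : Type*} [Group G]

/-- `AN(s)` for all `1 ≠ s ∈ T_S` -/
def ANT [Finite G] (Z : Set G) (K : G → Subgroup G) : Prop := ∀ S : Sylow 2 G, ∀ s ∈ TT Z K S, s ≠ 1 → AN Z K s

namespace W

variable [Finite G] {Z : Set G} {K : G → Subgroup G} {z u v g x y k l n m s : G} (h : W Z K) (ha : ANT Z K)

include h ha

theorem an_Z (hz : z ∈ Z) : AN Z K z := by
  obtain ⟨S, hS⟩ := h.exists_sylow hz
  exact ha S z (subset_closure hS) (h.ne z hz)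

section swap

variable (hu : u ∈ Z) (hv : v ∈ Z) (hs : CSw K u v)

include hu hv hs

theorem swap_an : AN Z K (wt u v) := by
  obtain ⟨S, -, -, h1⟩ := h.wt_mem_TT hu hv hs
  exact ha S _ h1 (h.wt_ne hu hv hs)

/-- **(3.2)** : `v ∈ N` -/
theorem swap_mem : v ∈ NC (wt u v) u := by
  rcases h.nc_in_or (h.swap_an ha hu hv hs) (h.mem_ZC_u hu hv hs) (h.mem_ZC_v hu hv hs) with h1 | h1
  · exact h1
  · exact absurd (h1 u self_mem_NC v (h.mem v hv)) (h.csw_not_comm hu hv hs)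

theorem swap_mem' : u ∈ NC (wt u v) v := by
  have h1 := h.swap_mem ha hv hu (h.csw_symm hu hv hs)
  rwa [h.wt_symm hu hv hs] at h1

/-- **(3.2)** : `N = ⟨v ^ H⟩` -/
theorem swap_NC : NC (wt u v) u = NC (wt u v) v :=
  le_antisymm (NC_le_NC (h.swap_mem' ha hu hv hs)) (NC_le_NC (h.swap_mem ha hu hv hs))

theorem conj_u_ne : v * u * v⁻¹ ≠ u := fun h1 => hs.1 h1.symm

theorem swap_ncab : ¬ NCab (wt u v) u := fun hc =>
  h.csw_not_comm hu hv hs (hc u self_mem_NC v (h.swap_mem ha hu hv hs))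

/-- **(3.2)** : `[u, N] = ⟨w⟩` -/
theorem swap_act (hn : n ∈ NC (wt u v) u) : n * u * n⁻¹ = u ∨ n * u * n⁻¹ = u * wt u v := by
  by_cases h1 : n * u * n⁻¹ = u
  · exact Or.inl h1
  right
  rw [h.nc_uniq (h.swap_an ha hu hv hs) (h.mem_ZC_u hu hv hs) hn (h.swap_mem ha hu hv hs) h1
    (h.conj_u_ne ha hu hv hs), h.conj_u hu hv hs]

/-- **(3.2)** : `K u` centralises `Z(N)` -/
theorem swap_cent (hn : n ∈ NC (wt u v) u) (hc : ∀ m ∈ NC (wt u v) u, n * m = m * n) : Cen K n u :=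
  h.nc_centre' (h.swap_an ha hu hv hs) (h.mem_ZC_u hu hv hs) (h.swap_ncab ha hu hv hs) hn hc

theorem swap_inn (hn : n ∈ NC (wt u v) u) (hnu : n * u = u * n) : Cen K n u ∨ ∃ y, Inn K n u y :=
  (S2.mk h (h.swap_an ha hu hv hs) (h.mem_ZC_u hu hv hs)).inn_or (h.mem_ZC_u hu hv hs) hn hnu

/-- (2.3) for `u` -/
theorem swap_in (hn : n ∈ NC (wt u v) u) (hnu : n * u = u * n) (hk : k ∈ K u) :
    n * k * n⁻¹ = k ∨ n * k * n⁻¹ = k * u :=
  h.nc_inn (h.swap_an ha hu hv hs) (h.mem_ZC_u hu hv hs) hn hnu k hk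

/-- an element of `Z(w)` lies in `N` or its member centralises `N` -/
theorem swap_or (hx : x ∈ Z) (hc : Cen K (wt u v) x) : x ∈ NC (wt u v) u ∨ ∀ n ∈ NC (wt u v) u, Cen K n x :=
  h.nc_in_or (h.swap_an ha hu hv hs) (h.mem_ZC_u hu hv hs) ⟨hx, hc⟩

/-! ### (3.4) -/

theorem K_norm_u (hk : k ∈ K u) (hn : n ∈ NC (wt u v) u) : k * n * k⁻¹ ∈ NC (wt u v) u :=
  mem_NC_conj (h.wt_cen_u hu hv hs k hk).symm hn

/-- `d_k ∈ N` for `k` of order 4 -/
theorem dg_mem (hk : k ∈ K u) (hkk : k * k = u) : dg v k ∈ NC (wt u v) u := by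
  have h1 := h.conj_k_v hu hv hs hk hkk
  have h2 := h.K_norm_u ha hu hv hs hk (h.swap_mem ha hu hv hs)
  rw [h1] at h2
  have h3 : dg v k = v⁻¹ * (v * dg v k * u) * u⁻¹ := by group
  rw [h3]
  exact mul_mem (mul_mem (inv_mem (h.swap_mem ha hu hv hs)) h2) (inv_mem self_mem_NC)

/-- `n ∈ C_N(u)` acts on `K u'` as on `K u` -/
theorem conj_vkv (hn : n ∈ NC (wt u v) u) (hk : k ∈ K u) :
    n * (v * k * v⁻¹) * n⁻¹ = v * (n * k * n⁻¹) * v⁻¹ := by
  have hN := h.swap_mem ha hu hv hs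
  -- `c = n⁻¹ v⁻¹ n v` is central in `N`
  have h1 := h.nc_comm (h.swap_an ha hu hv hs) (h.mem_ZC_u hu hv hs) (h.swap_ncab ha hu hv hs)
    (inv_mem hn) (inv_mem hN)
  have h2 : n⁻¹ * v⁻¹ * n⁻¹⁻¹ * v⁻¹⁻¹ ∈ NC (wt u v) u :=
    mul_mem (mul_mem (mul_mem (inv_mem hn) (inv_mem hN)) (inv_mem (inv_mem hn))) (inv_mem (inv_mem hN))
  have h3 := h.swap_cent ha hu hv hs h2 h1 k hk
  have h4 : v⁻¹ * n * v = n * (n⁻¹ * v⁻¹ * n⁻¹⁻¹ * v⁻¹⁻¹) := by group
  calc n * (v * k * v⁻¹) * n⁻¹ = v * ((v⁻¹ * n * v) * k * (v⁻¹ * n * v)⁻¹) * v⁻¹ := by group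
    _ = v * (n * ((n⁻¹ * v⁻¹ * n⁻¹⁻¹ * v⁻¹⁻¹) * k) * (n * (n⁻¹ * v⁻¹ * n⁻¹⁻¹ * v⁻¹⁻¹))⁻¹) * v⁻¹ := by
        rw [h4]; group
    _ = v * (n * (k * (n⁻¹ * v⁻¹ * n⁻¹⁻¹ * v⁻¹⁻¹)) * (n * (n⁻¹ * v⁻¹ * n⁻¹⁻¹ * v⁻¹⁻¹))⁻¹) * v⁻¹ := by rw [h3]
    _ = v * (n * k * n⁻¹) * v⁻¹ := by group

/-- **(3.4)** : `n ∈ N` centralising `k` centralises `d_k` -/
theorem dg_conj (hn : n ∈ NC (wt u v) u) (hk : k ∈ K u) (hc : n * k * n⁻¹ = k) : n * dg v k * n⁻¹ = dg v k := by
  have h1 := h.conj_vkv ha hu hv hs hn hk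
  unfold dg
  calc n * (k * (v * k * v⁻¹)) * n⁻¹ = (n * k * n⁻¹) * (n * (v * k * v⁻¹) * n⁻¹) := by group
    _ = k * (v * k * v⁻¹) := by rw [h1, hc]

/-- **(3.4)** : `k ^ n = k u` gives `d_k ^ n = d_k w` -/
theorem dg_conj' (hn : n ∈ NC (wt u v) u) (hk : k ∈ K u) (hc : n * k * n⁻¹ = k * u) :
    n * dg v k * n⁻¹ = dg v k * wt u v := by
  have h1 := h.conj_vkv ha hu hv hs hn hk
  have h2 := hs.2 u (h.mem u hu) (v * k * v⁻¹) (h.conj_mem_K hu v hk)
  unfold dg wt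
  calc n * (k * (v * k * v⁻¹)) * n⁻¹ = (n * k * n⁻¹) * (n * (v * k * v⁻¹) * n⁻¹) := by group
    _ = k * (u * (v * k * v⁻¹)) * (v * u * v⁻¹) := by rw [h1, hc]; group
    _ = k * (v * k * v⁻¹) * (u * (v * u * v⁻¹)) := by rw [h2]; group

end swap

omit ha in
/-- **(3.3)** -/
theorem swap_uniq (hAN : AN Z K s) {v' : G} (hu : u ∈ Z) (hv : v ∈ Z) (hv' : v' ∈ Z) (hs : CSw K u v)
    (hs' : CSw K u v') (h1 : Cen K s u) (h2 : Cen K s v) (h3 : Cen K s v') : wt u v = wt u v' :=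
  (S2.mk h hAN ⟨hu, h1⟩).wt_unique ⟨hv, h2⟩ ⟨hv', h3⟩ (fun h4 => h.csw_not_comm hu hv hs h4.symm)
    (fun h4 => h.csw_not_comm hu hv' hs' h4.symm)

end W

end Cfsg.Agent.Cit.Nil.ROne
end

-- part: Cit/Nil/Comp/ProdTwo
section
prune_inst 0x420100800410000000018001020003c4292000000000b0001f1400702068e9c4180020621f8600e0001102864003e8068138000590038000020008200411801a0140220c2b008b00001001640e807180c00000000000000000000000000041000000000000
set_option linter.all false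
open scoped Cfsg.Agent.FastGrp

-- part: Cit/Nil/Comp/Exch
section
/-!
# S1309 (6b), `r = 1`, COMP: classes in `C(z)` and the exchange lemma (helper454, bb R18 #15492 (E))

`Om Z K s` : the members centralised by `s`; `Cl Z K s u` : the class of `u` (connected component of the
non-commuting graph); `O₂(C(s)) = oP 2 (centralizer {s})`; a class is nil if it is contained in `O₂(C(s))`.

* `nil_cl` : nil is constant on classes; `L0`;
* `nil_down` : a class contained in a 2-group is nil; `nil_of_comm` : a class whose members commute with `u` is nil;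
* `exch` : **(E)** `(z, a)` a C-pair, `u ∈ Om z` not nil, `a ∉ cl_z(u)`: then `cl_a(u) = cl_z(u)` is a non-nil class of
  `C(a)` not containing `z`;
* `NN Z K s` : the set of non-nil classes; `NN_diff` : `N(z) \ {cl_z(a)} = N(a) \ {cl_a(z)}`; `nil_symm`.
-/

set_option autoImplicit false
set_option linter.style.haveILetI false
set_option linter.unusedSectionVars false

namespace Cfsg.Agent.Cit.Nil.Comp

open Subgroup Cfsg Cfsg.Agent.Cit Cfsg.Agent.Cit.Nil.ROne Cfsg.Agent.Cit.Nil.AN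
open Cfsg.Agent.OddOrderLocal.NilParts Cfsg.Agent.StdEven.Syl

variable {G : Type*} [Group G] {Z : Set G} {K : G → Subgroup G} {z u v x y g s a b c : G}

/-- the class of `u` is contained in that of `a`-members if all its elements are -/
theorem cl_mono (hu : Cl Z K s u ⊆ Om Z K a) : Cl Z K s u ⊆ Cl Z K a u := by
  intro v hv
  have hv' : Relation.ReflTransGen (St Z K s) u v := hv
  clear hv
  induction hv' with
  | refl => exact cl_refl _ _
  | tail h1 h2 ih => exact cl_step ih (hu (Relation.ReflTransGen.tail h1 h2)) h2.2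

/-- the set of non-nil classes of `C(s)` -/
def NN (Z : Set G) (K : G → Subgroup G) (s : G) : Set (Set G) :=
  {A | ∃ u ∈ Om Z K s, u ∉ oP 2 (centralizer {s}) ∧ A = Cl Z K s u}

/-- the dichotomy NIL / ONE for the classes of `C(s)` -/
def TPs (Z : Set G) (K : G → Subgroup G) (s : G) : Prop :=
  ∀ u ∈ Om Z K s, u ∈ oP 2 (centralizer {s}) ∨ OneC Z K s u

section basic

variable (h : W Z K)

include h

theorem not_cm_self (hz : z ∈ Z) : ¬ Cm (K z) (K z) := by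
  intro h1
  obtain ⟨i, hi, j, hj, -, -, hji, -⟩ := h.exists_ij hz
  apply h.ne z hz
  rw [h1 i hi j hj] at hji
  exact right_eq_mul.1 hji

theorem ne_of_cm (hz : z ∈ Z) (hc : Cm (K z) (K u)) : z ≠ u := by
  rintro rfl
  exact not_cm_self h hz hc

theorem cp_iff (hz : z ∈ Z) : CP K z u ↔ Cm (K z) (K u) := ⟨fun h1 => h1.2, fun h1 => ⟨ne_of_cm h hz h1, h1⟩⟩

theorem ce_of_cm (hu : u ∈ Z) (hc : Cm (K z) (K u)) : Ce u (K z) := fun k hk => (hc k hk u (h.mem u hu)).symm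

theorem ce_self (hz : z ∈ Z) : Ce z (K z) := fun _ hk => (h.cent hz hk).symm

theorem cm_conj (hz : z ∈ Z) (hu : u ∈ Z) (g : G) (hc : Cm (K z) (K u)) :
    Cm (K (g * z * g⁻¹)) (K (g * u * g⁻¹)) := by
  rw [h.conjK z hz, h.conjK u hu]
  exact hc.cj g

theorem cm_conj_iff (hz : z ∈ Z) (hu : u ∈ Z) (g : G) :
    Cm (K (g * z * g⁻¹)) (K (g * u * g⁻¹)) ↔ Cm (K z) (K u) := by
  refine ⟨fun h1 => ?_, cm_conj h hz hu g⟩
  have h2 := cm_conj h (h.conjZ z hz g) (h.conjZ u hu g) g⁻¹ h1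
  have e : ∀ x : G, g⁻¹ * (g * x * g⁻¹) * g⁻¹⁻¹ = x := fun x => by group
  rwa [e, e] at h2

theorem om_conj (hz : z ∈ Om Z K s) (g : G) : g * z * g⁻¹ ∈ Om Z K (g * s * g⁻¹) := by
  refine ⟨h.conjZ z hz.1 g, ?_⟩
  rw [h.conjK z hz.1]
  exact hz.2.cj g

theorem cl_conj (hz : z ∈ Om Z K s) (hu : u ∈ Cl Z K s z) (g : G) :
    g * u * g⁻¹ ∈ Cl Z K (g * s * g⁻¹) (g * z * g⁻¹) := by
  have hu' : Relation.ReflTransGen (St Z K s) z u := hu
  clear hu
  induction hu' with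
  | refl => exact cl_refl _ _
  | tail h1 h2 ih =>
    apply cl_step ih (om_conj h h2.1 g)
    intro h3
    exact h2.2 ((cm_conj_iff h (cl_sub hz h1).1 h2.1.1 g).1 h3)

/-- conjugation permutes the classes of `C(s)` -/
theorem cl_conj' (hz : z ∈ Om Z K s) (hg : g * s = s * g) (hu : u ∈ Cl Z K s z) :
    g * u * g⁻¹ ∈ Cl Z K s (g * z * g⁻¹) := by
  have h1 := cl_conj h hz hu g
  rwa [hg, mul_inv_cancel_right] at h1

theorem om_conj' (hz : z ∈ Om Z K s) (hg : g * s = s * g) : g * z * g⁻¹ ∈ Om Z K s := by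
  have h1 := om_conj h hz g
  rwa [hg, mul_inv_cancel_right] at h1

theorem gp_conj {A : Set G} (hA : A ⊆ Z) (hc : ∀ u ∈ A, c * u * c⁻¹ ∈ A) {x : G} (hx : x ∈ Gp K A) :
    c * x * c⁻¹ ∈ Gp K A := by
  have h1 : Gp K A ≤ (Gp K A).comap (MulAut.conj c).toMonoidHom := Gp_le fun u hu k hk => by
    show c * k * c⁻¹ ∈ Gp K A
    have h2 : c * k * c⁻¹ ∈ K (c * u * c⁻¹) := by
      rw [h.conjK u (hA hu)]
      exact conj_mem_cj hk
    exact le_Gp (hc u hu) h2
  exact h1 hx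

variable [Finite G]

/-- L0 -/
theorem L0 {N : Subgroup G} (hx : x ∈ Z) (hN : IsPGroup 2 N) (hK : K x ≤ normalizer (N : Set G)) (hxN : x ∉ N)
    {n : G} (hn : n ∈ N) : Ce n (K x) := fun k hk =>
  (h.hyp.lemma_one ⟨x, hx, rfl⟩ (h.two hx) hN hK (by rwa [h.zz_K hx]) k hk n hn).symm

theorem nil_step (hu : u ∈ Om Z K s) (hv : v ∈ Om Z K s) (hn : ¬ Cm (K u) (K v)) (h1 : u ∈ oP 2 (centralizer {s})) :
    v ∈ oP 2 (centralizer {s}) := by
  by_contra h2
  have h3 : K v ≤ normalizer (oP 2 (centralizer {s}) : Set G) := fun k hk =>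
    le_normalizer_oP 2 _ (mem_centralizer_singleton_iff.2 (hv.2 k hk).symm)
  have h4 := L0 h hv.1 (isPGroup_oP 2 _) h3 h2 h1
  have h5 : v ≠ u := fun e => h2 (e ▸ h1)
  exact hn (h.csymm hv.1 hu.1 h5 h4).symm.2

/-- nil is constant on classes -/
theorem nil_cl (hz : z ∈ Om Z K s) (hu : u ∈ Cl Z K s z) : u ∈ oP 2 (centralizer {s}) ↔ z ∈ oP 2 (centralizer {s}) := by
  have key : ∀ {z u : G}, z ∈ Om Z K s → u ∈ Cl Z K s z → z ∈ oP 2 (centralizer {s}) →
      u ∈ oP 2 (centralizer {s}) := by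
    intro z u hz hu h1
    have hu' : Relation.ReflTransGen (St Z K s) z u := hu
    clear hu
    induction hu' with
    | refl => exact h1
    | tail h2 h3 ih => exact nil_step h (cl_sub hz h2) h3.1 h3.2 ih
  exact ⟨key (cl_sub hz hu) (cl_symm hz hu), key hz hu⟩

/-- an element of `O₂(⟨class⟩)` lies in `O₂(C(s))` -/
theorem oP_up (hz : z ∈ Om Z K s) (hx : x ∈ oP 2 (Gp K (Cl Z K s z))) : x ∈ oP 2 (centralizer {s}) := by
  set B := Gp K (Cl Z K s z) with hB
  set X := Gp K (Om Z K s) with hX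
  have hOZ : Om Z K s ⊆ Z := fun u hu => hu.1
  have hBX : B ≤ X := Gp_le fun u hu => le_Gp (cl_sub hz hu)
  have hXC : X ≤ centralizer {s} := Gp_le fun u hu k hk => mem_centralizer_singleton_iff.2 (hu.2 k hk).symm
  have h1 : X ≤ normalizer (B : Set G) := Gp_le fun u hu k hk => by
    by_cases hc : u ∈ Cl Z K s z
    · exact le_normalizer (le_Gp hc hk)
    · apply mem_normalizer_of_conj_le
      intro b hb
      have h2 : Ce k B := Gp_ce fun v hv l hl => ((cl_cm hv hu hc) l hl k hk).symm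
      have : k * b * k⁻¹ = b := by rw [h2 b hb]; group
      rw [this]; exact hb
  have h2 : centralizer {s} ≤ normalizer (X : Set G) := fun c hc =>
    mem_normalizer_of_conj_le fun x hx =>
      gp_conj h hOZ (fun u hu => om_conj' h hu (mem_centralizer_singleton_iff.1 hc)) hx
  have h3 : oP 2 B ≤ oP 2 X := le_oP ((oP_le 2 B).trans hBX) (isPGroup_oP 2 B) (h1.trans (normalizer_le_oP 2 B))
  have h4 : oP 2 X ≤ oP 2 (centralizer {s}) :=
    le_oP ((oP_le 2 X).trans hXC) (isPGroup_oP 2 X) (h2.trans (normalizer_le_oP 2 X))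
  exact h4 (h3 hx)

/-- a class contained in a 2-group is nil -/
theorem nil_down (hu : u ∈ Om Z K s) {R : Subgroup G} (hR : IsPGroup 2 R) (hc : Cl Z K s u ⊆ R) :
    u ∈ oP 2 (centralizer {s}) := by
  apply oP_up h hu
  have hA : ∀ v ∈ Cl Z K s u, v ∈ Om Z K s := fun v hv => cl_sub hu hv
  have h1 : closure (Cl Z K s u) ≤ Gp K (Cl Z K s u) := (closure_le _).2 fun v hv =>
    le_Gp hv (h.mem v (hA v hv).1)
  have h2 : IsPGroup 2 (closure (Cl Z K s u)) := hR.to_le ((closure_le _).2 hc)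
  have h3 : Gp K (Cl Z K s u) ≤ normalizer (closure (Cl Z K s u) : Set G) := Gp_le fun v hv k hk => by
    have hks : k * s = s * k := ((hA v hv).2 k hk).symm
    have hkv : k * v * k⁻¹ = v := by rw [h.cent (hA v hv).1 hk, mul_inv_cancel_right]
    have hcl : ∀ w ∈ Cl Z K s u, k * w * k⁻¹ ∈ Cl Z K s u := by
      intro w hw
      have h4 : w ∈ Cl Z K s v := cl_trans (cl_symm hu hv) hw
      have h5 := cl_conj' h (hA v hv) hks h4
      rw [hkv] at h5
      exact cl_trans hv h5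
    apply mem_normalizer_of_conj_le
    intro x hx
    have h6 : closure (Cl Z K s u) ≤ (closure (Cl Z K s u)).comap (MulAut.conj k).toMonoidHom :=
      (closure_le _).2 fun w hw => subset_closure (hcl w hw)
    exact h6 hx
  exact le_oP h1 h2 h3 (subset_closure (cl_refl s u))

/-- a class whose members commute with `K u` is nil -/
theorem nil_of_comm (hu : u ∈ Om Z K s) (hc : ∀ v ∈ Cl Z K s u, v ≠ u → Cm (K u) (K v)) :
    u ∈ oP 2 (centralizer {s}) := by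
  have h1 : ∀ v ∈ Cl Z K s u, v = u := by
    intro v hv
    have hv' : Relation.ReflTransGen (St Z K s) u v := hv
    clear hv
    induction hv' with
    | refl => rfl
    | @tail b c h1 h2 ih =>
      by_contra hne
      rw [ih] at h2
      exact h2.2 (hc c (Relation.ReflTransGen.tail h1 (by rw [ih]; exact h2)) hne)
  refine nil_down h hu (R := K u) (h.two hu.1) fun v hv => ?_
  rw [h1 v hv]
  exact h.mem u hu.1

/-- a non-nil class contains a member not commuting with `K u` -/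
theorem exists_not_cm (hu : u ∈ Om Z K s) (hn : u ∉ oP 2 (centralizer {s})) :
    ∃ v ∈ Cl Z K s u, v ≠ u ∧ ¬ Cm (K u) (K v) := by
  by_contra hc
  push Not at hc
  exact hn (nil_of_comm h hu hc)

theorem mem_oP_self (hz : z ∈ Z) : z ∈ oP 2 (centralizer {z}) := by
  have h1 : centralizer {z} ≤ normalizer (zpowers z : Set G) := fun g hg => by
    apply mem_normalizer_of_conj_le
    rintro _ ⟨n, rfl⟩
    have hgz := mem_centralizer_singleton_iff.1 hg
    have h2 : Commute g (z ^ n) := (show Commute g z from hgz).zpow_right n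
    have h3 : g * z ^ n * g⁻¹ = z ^ n := by rw [h2.eq, mul_inv_cancel_right]
    change g * z ^ n * g⁻¹ ∈ _
    rw [h3]
    exact ⟨n, rfl⟩
  have h2 : zpowers z ≤ centralizer {z} := by
    rw [zpowers_le]
    exact mem_centralizer_singleton_iff.2 rfl
  have h3 : IsPGroup 2 (zpowers z) := (h.two hz).to_le (by rw [zpowers_le]; exact h.mem z hz)
  exact le_oP h2 h3 h1 (mem_zpowers z)

/-- if `a` centralises the whole class of `a` in `C(s)`, it is nil -/
theorem nil_of_ce (ha : a ∈ Om Z K s) (hc : ∀ x ∈ Cl Z K s a, Ce a (K x)) : a ∈ oP 2 (centralizer {s}) :=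
  nil_of_comm h ha fun x hx hne => (h.csymm (cl_sub ha hx).1 ha.1 hne (hc x hx)).symm.2

/-- a non-nil class of `C(z)` does not contain `z` -/
theorem not_mem_of_not_nil (hz : z ∈ Z) (hu : u ∈ Om Z K z) (hn : u ∉ oP 2 (centralizer {z})) : z ∉ Cl Z K z u :=
  fun h1 => hn ((nil_cl h hu h1).1 (mem_oP_self h hz))

/-- members of `C(z)` different from `z` are C-partners -/
theorem cm_of_om (hz : z ∈ Z) (hu : u ∈ Om Z K z) (hne : u ≠ z) : Cm (K z) (K u) := (h.csymm hu.1 hz hne hu.2).symm.2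

theorem om_of_cm (hz : z ∈ Z) (hu : u ∈ Z) (hc : Cm (K z) (K u)) : u ∈ Om Z K z := ⟨hu, ce_of_cm h hz hc.symm⟩

/-- **(E)** -/
theorem exch (hz : z ∈ Z) (ha : a ∈ Z) (hza : Cm (K z) (K a)) (hT : TPs Z K a) (hu : u ∈ Om Z K z)
    (hn : u ∉ oP 2 (centralizer {z})) (hau : a ∉ Cl Z K z u) :
    u ∈ Om Z K a ∧ u ∉ oP 2 (centralizer {a}) ∧ Cl Z K a u = Cl Z K z u ∧ z ∉ Cl Z K a u := by
  have haO : a ∈ Om Z K z := om_of_cm h hz ha hza
  have hzO : z ∈ Om Z K a := om_of_cm h ha hz hza.symm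
  have hsub : Cl Z K z u ⊆ Om Z K a := fun v hv =>
    om_of_cm h ha (cl_sub hu hv).1 (cl_cm hv haO hau).symm
  have hin : Cl Z K z u ⊆ Cl Z K a u := cl_mono hsub
  have huO : u ∈ Om Z K a := hsub (cl_refl z u)
  have hna : u ∉ oP 2 (centralizer {a}) := by
    intro h1
    apply hn
    refine nil_down h hu (isPGroup_oP 2 (centralizer {a})) fun v hv => ?_
    exact (nil_cl h huO (hin hv)).2 h1
  have hzn : z ∉ Cl Z K a u := by
    intro h1
    have hone := (hT u huO).resolve_left hna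
    apply hn
    have hzu : ∀ b ∈ Cl Z K z u, Cm (K z) (K b) := fun b hb => by
      apply cm_of_om h hz (cl_sub hu hb)
      rintro rfl
      exact not_mem_of_not_nil h hz hu hn hb
    refine nil_of_comm h hu fun v hv hne => ?_
    have h2 := hone z h1 u (cl_refl a u) (hzu u (cl_refl z u)) u (cl_refl a u)
    have h3 := hone z h1 v (hin hv) (hzu v hv) u (cl_refl a u)
    have h4 : z * u = u * z := hu.2 u (h.mem u hu.1)
    have h5 : Ce (u * v) (K u) := by
      have h6 : (z * u) * (z * v) = u * v := by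
        rw [h4]
        calc u * z * (z * v) = u * (z * z) * v := by group
          _ = u * v := by rw [h.sq z hz, mul_one]
      rw [← h6]
      exact h2.mul h3
    have h6 : Ce v (K u) := by
      have h7 : u * (u * v) = v := by rw [← mul_assoc, h.sq u hu.1, one_mul]
      rw [← h7]
      exact (ce_self h hu.1).mul h5
    exact (h.csymm hu.1 (cl_sub hu hv).1 hne.symm h6).2
  have hsub' : Cl Z K a u ⊆ Om Z K z := fun v hv =>
    om_of_cm h hz (cl_sub huO hv).1 (cl_cm hv hzO hzn).symm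
  exact ⟨huO, hna, Set.Subset.antisymm (cl_mono hsub') hin, hzn⟩

/-! ### The sets of non-nil classes -/

theorem NN_cl {A : Set G} (hA : A ∈ NN Z K s) (hu : u ∈ A) : u ∈ Om Z K s ∧ u ∉ oP 2 (centralizer {s}) ∧ A = Cl Z K s u := by
  obtain ⟨v, hv, hn, rfl⟩ := hA
  exact ⟨cl_sub hv hu, fun h1 => hn ((nil_cl h hv hu).1 h1), (cl_eq hv hu).symm⟩

theorem cl_mem_NN (hu : u ∈ Om Z K s) : Cl Z K s u ∈ NN Z K s ↔ u ∉ oP 2 (centralizer {s}) :=
  ⟨fun h1 => (NN_cl h h1 (cl_refl s u)).2.1, fun h1 => ⟨u, hu, h1, rfl⟩⟩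

theorem NN_nonempty {A : Set G} (hA : A ∈ NN Z K s) : A.Nonempty := by
  obtain ⟨v, -, -, rfl⟩ := hA
  exact ⟨v, cl_refl _ _⟩

theorem NN_not_mem (hz : z ∈ Z) {A : Set G} (hA : A ∈ NN Z K z) : z ∉ A := by
  obtain ⟨v, hv, hn, rfl⟩ := hA
  exact not_mem_of_not_nil h hz hv hn

theorem NN_exch (hz : z ∈ Z) (ha : a ∈ Z) (hza : Cm (K z) (K a)) (hT : TPs Z K a) {A : Set G} (hA : A ∈ NN Z K z)
    (haA : a ∉ A) : A ∈ NN Z K a := by
  obtain ⟨u, hu, hn, rfl⟩ := hA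
  obtain ⟨h1, h2, h3, -⟩ := exch h hz ha hza hT hu hn haA
  exact ⟨u, h1, h2, h3.symm⟩

/-- `N(z) \ {cl_z(a)} = N(a) \ {cl_a(z)}` -/
theorem NN_diff (hz : z ∈ Z) (ha : a ∈ Z) (hza : Cm (K z) (K a)) (hTz : TPs Z K z) (hTa : TPs Z K a) :
    NN Z K z \ {Cl Z K z a} = NN Z K a \ {Cl Z K a z} := by
  have key : ∀ {z a : G}, z ∈ Z → a ∈ Z → Cm (K z) (K a) → TPs Z K a →
      NN Z K z \ {Cl Z K z a} ⊆ NN Z K a \ {Cl Z K a z} := by
    intro z a hz ha hza hTa A hA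
    have haA : a ∉ A := fun h1 => hA.2 (NN_cl h hA.1 h1).2.2
    refine ⟨NN_exch h hz ha hza hTa hA.1 haA, fun h1 => ?_⟩
    apply NN_not_mem h hz hA.1
    rw [Set.mem_singleton_iff.1 h1]
    exact cl_refl a z
  exact Set.Subset.antisymm (key hz ha hza hTa) (key ha hz hza.symm hTz)

omit h [Finite G] in
theorem cj_oP_le (g : G) (X : Subgroup G) : cj g (oP 2 X) ≤ oP 2 (cj g X) := by
  refine le_oP (cj_mono g (oP_le 2 X)) (isPGroup_cj (isPGroup_oP 2 X)) ?_
  intro x hx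
  rw [mem_cj] at hx
  have h1 := mem_normalizer_iff_cj.1 (le_normalizer_oP 2 X hx)
  have e : x * g = g * (g⁻¹ * x * g) := by group
  rw [mem_normalizer_iff_cj, ← cj_mul, e, cj_mul, h1]

omit h [Finite G] in
theorem oP_conj (g : G) (hx : x ∈ oP 2 (centralizer {s})) : g * x * g⁻¹ ∈ oP 2 (centralizer {g * s * g⁻¹}) := by
  rw [← cj_centralizer]
  exact cj_oP_le g _ (conj_mem_cj hx)

theorem NN_conj {A : Set G} (hA : A ∈ NN Z K s) (g : G) :
    (fun x => g * x * g⁻¹) '' A ∈ NN Z K (g * s * g⁻¹) := by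
  obtain ⟨u, hu, hn, rfl⟩ := hA
  refine ⟨g * u * g⁻¹, om_conj h hu g, ?_, ?_⟩
  · intro h1
    apply hn
    have h2 := oP_conj g⁻¹ h1
    have e : ∀ x : G, g⁻¹ * (g * x * g⁻¹) * g⁻¹⁻¹ = x := fun x => by group
    rwa [e, e] at h2
  · apply Set.Subset.antisymm
    · rintro _ ⟨v, hv, rfl⟩
      exact cl_conj h hu hv g
    · intro v hv
      have h1 := cl_conj h (om_conj h hu g) hv g⁻¹
      have e : ∀ x : G, g⁻¹ * (g * x * g⁻¹) * g⁻¹⁻¹ = x := fun x => by group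
      rw [e, e] at h1
      exact ⟨_, h1, by group⟩

end basic

end Cfsg.Agent.Cit.Nil.Comp
end

-- part: Cit/Nil/Comp/Frame
section
/-!
# S1309 (6b), `r = 1`, COMP: frames (helper454, bb R18 #15492 (E), consequences)

* `Frm Z K F` : `F` is a frame: at least two pairwise commuting classes, and `N(x) = F \ {A}` for `x ∈ A ∈ F`;
  `Frm.uniq` : a frame is determined by one of its points; `Frm.conj`;
* `AllOne Z K` : all C-pairs are not nil, `a₀(z)` is one class of `C(z)`, it is `ONE`, and three pairwise commuting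
  members have product `1`;
* `trich` : all C-pairs are nil, or every `z` lies in a frame, or `AllOne`.
-/

set_option autoImplicit false
set_option linter.style.haveILetI false
set_option linter.unusedSectionVars false

namespace Cfsg.Agent.Cit.Nil.Comp

open Subgroup Cfsg Cfsg.Agent.Cit Cfsg.Agent.Cit.Nil.ROne Cfsg.Agent.Cit.Nil.AN
open Cfsg.Agent.OddOrderLocal.NilParts Cfsg.Agent.StdEven.Syl

variable {G : Type*} [Group G] {Z : Set G} {K : G → Subgroup G} {z u v x y g s a b c : G} {A B : Set G}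
  {F F' : Set (Set G)}

/-- the hypothesis: every class of `C(s)`, `s` a nontrivial product of elements of a clique, is NIL or ONE -/
def TP (Z : Set G) (K : G → Subgroup G) : Prop := ∀ S : Sylow 2 G, ∀ s ∈ TT Z K S, s ≠ 1 → TPs Z K s

/-- a frame -/
structure Frm (Z : Set G) (K : G → Subgroup G) (F : Set (Set G)) : Prop where
  two : ∃ A ∈ F, ∃ B ∈ F, A ≠ B
  sub : ∀ A ∈ F, A ⊆ Z
  ne : ∀ A ∈ F, A.Nonempty
  cm : ∀ A ∈ F, ∀ B ∈ F, A ≠ B → ∀ a ∈ A, ∀ b ∈ B, Cm (K a) (K b)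
  nn : ∀ A ∈ F, ∀ x ∈ A, NN Z K x = F \ {A}

/-- all C-pairs are ONE -/
structure AllOne (Z : Set G) (K : G → Subgroup G) : Prop where
  not_nil : ∀ z ∈ Z, ∀ u ∈ Z, CP K z u → u ∉ oP 2 (centralizer {z})
  cls : ∀ z ∈ Z, ∀ u ∈ Z, ∀ v ∈ Z, CP K z u → CP K z v → v ∈ Cl Z K z u
  one : ∀ z ∈ Z, ∀ u ∈ Z, CP K z u → OneC Z K z u
  three : ∀ z ∈ Z, ∀ a ∈ Z, ∀ b ∈ Z, CP K z a → CP K z b → CP K a b → z * a * b = 1

namespace Frm

theorem other (f : Frm Z K F) (hA : A ∈ F) : ∃ B ∈ F, B ≠ A := by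
  obtain ⟨C, hC, D, hD, hne⟩ := f.two
  by_cases h1 : C = A
  · exact ⟨D, hD, fun e => hne (h1.trans e.symm)⟩
  · exact ⟨C, hC, h1⟩

variable [Finite G] (h : W Z K)

include h

/-- a class of a frame is the class of each of its points in the centraliser of a point of another class -/
theorem cl_eq (f : Frm Z K F) (hA : A ∈ F) (hB : B ∈ F) (hAB : A ≠ B) (hx : x ∈ A) (hb : b ∈ B) : A = Cl Z K b x := by
  have h1 : A ∈ NN Z K b := by rw [f.nn B hB b hb]; exact ⟨hA, hAB⟩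
  exact (NN_cl h h1 hx).2.2

theorem disj (f : Frm Z K F) (hA : A ∈ F) (hB : B ∈ F) (hx : x ∈ A) (hx' : x ∈ B) : A = B := by
  by_contra hne
  exact not_cm_self h (f.sub A hA hx) (f.cm A hA B hB hne x hx x hx')

theorem uniq (f : Frm Z K F) (f' : Frm Z K F') (hA : A ∈ F) (hB : B ∈ F') (hx : x ∈ A) (hx' : x ∈ B) :
    F = F' ∧ A = B := by
  obtain ⟨C, hC, hCA⟩ := f.other hA
  have h1 := f.nn A hA x hx
  have h2 := f'.nn B hB x hx'
  have hC1 : C ∈ F' \ {B} := by rw [← h2, h1]; exact ⟨hC, hCA⟩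
  obtain ⟨c, hc⟩ := f.ne C hC
  have h3 : A = B := by
    rw [f.cl_eq h hA hC hCA.symm hx hc, f'.cl_eq h hB hC1.1 (fun e => hC1.2 e.symm) hx' hc]
  refine ⟨?_, h3⟩
  rw [← h3, h1] at h2
  ext D
  by_cases hD : D = A
  · rw [hD]
    exact ⟨fun _ => h3 ▸ hB, fun _ => hA⟩
  · constructor
    · intro h4
      have : D ∈ F' \ {A} := by rw [← h2]; exact ⟨h4, hD⟩
      exact this.1
    · intro h4
      have : D ∈ F \ {A} := by rw [h2]; exact ⟨h4, hD⟩
      exact this.1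

/-- the points of a class do not commute all with a given one -/
theorem exists_not_cm (f : Frm Z K F) (hA : A ∈ F) (hx : x ∈ A) : ∃ y ∈ A, y ≠ x ∧ ¬ Cm (K x) (K y) := by
  obtain ⟨B, hB, hBA⟩ := f.other hA
  obtain ⟨b, hb⟩ := f.ne B hB
  have h1 : A ∈ NN Z K b := by rw [f.nn B hB b hb]; exact ⟨hA, hBA.symm⟩
  obtain ⟨h2, h3, h4⟩ := NN_cl h h1 hx
  rw [h4]
  exact Comp.exists_not_cm h h2 h3

theorem conj (f : Frm Z K F) (g : G) : Frm Z K ((fun A => (fun x => g * x * g⁻¹) '' A) '' F) := by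
  have inj : Function.Injective (fun x : G => g * x * g⁻¹) := fun x y hxy => by
    have := mul_right_cancel hxy
    exact mul_left_cancel this
  refine ⟨?_, ?_, ?_, ?_, ?_⟩
  · obtain ⟨A, hA, B, hB, hne⟩ := f.two
    exact ⟨_, ⟨A, hA, rfl⟩, _, ⟨B, hB, rfl⟩, fun e => hne (inj.image_injective e)⟩
  · rintro _ ⟨A, hA, rfl⟩ _ ⟨x, hx, rfl⟩
    exact h.conjZ x (f.sub A hA hx) g
  · rintro _ ⟨A, hA, rfl⟩
    exact (f.ne A hA).image _
  · rintro _ ⟨A, hA, rfl⟩ _ ⟨B, hB, rfl⟩ hne _ ⟨a, ha, rfl⟩ _ ⟨b, hb, rfl⟩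
    exact cm_conj h (f.sub A hA ha) (f.sub B hB hb) g (f.cm A hA B hB (fun e => hne (by rw [e])) a ha b hb)
  · rintro _ ⟨A, hA, rfl⟩ _ ⟨x, hx, rfl⟩
    have e1 : (fun x : G => g⁻¹ * x * g⁻¹⁻¹) ∘ (fun x : G => g * x * g⁻¹) = id := by
      ext x
      simp only [Function.comp_apply, id_eq]
      group
    have e2 : (fun x : G => g * x * g⁻¹) ∘ (fun x : G => g⁻¹ * x * g⁻¹⁻¹) = id := by
      ext x
      simp only [Function.comp_apply, id_eq]
      group
    ext C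
    constructor
    · intro hC
      have h1 := NN_conj h hC g⁻¹
      have e : g⁻¹ * (g * x * g⁻¹) * g⁻¹⁻¹ = x := by group
      rw [e, f.nn A hA x hx] at h1
      have h2 : (fun x : G => g * x * g⁻¹) '' ((fun x : G => g⁻¹ * x * g⁻¹⁻¹) '' C) = C := by
        rw [← Set.image_comp, e2, Set.image_id]
      refine ⟨⟨_, h1.1, h2⟩, fun h3 => h1.2 ?_⟩
      rw [Set.mem_singleton_iff] at h3 ⊢
      rw [h3, ← Set.image_comp, e1, Set.image_id]
    · rintro ⟨⟨C, hC, rfl⟩, h3⟩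
      apply NN_conj h
      rw [f.nn A hA x hx]
      exact ⟨hC, fun h4 => h3 (by rw [Set.mem_singleton_iff] at h4 ⊢; rw [h4])⟩

end Frm

section

variable [Finite G] (h : W Z K) (cls : OneCls Z) (tp : TP Z K)

include h

/-- `T'` for `s ∈ Z` -/
theorem TP.of_mem (tp : TP Z K) (hz : z ∈ Z) : TPs Z K z := by
  obtain ⟨S, hS⟩ := h.exists_sylow hz
  exact tp S z (subset_closure hS) (h.ne z hz)

/-- `T'` for the product of a C-pair -/
theorem TP.of_mul (tp : TP Z K) (hz : z ∈ Z) (hu : u ∈ Z) (hc : CP K z u) : TPs Z K (z * u) := by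
  obtain ⟨S, h1, h2⟩ := h.exists_sylow_of_cp hz hu hc
  exact tp S _ (mul_mem (subset_closure h1) (subset_closure h2)) (h.cp_mul_ne hu hc)

theorem NN_ncard_conj (g : G) : (NN Z K (g * s * g⁻¹)).ncard = (NN Z K s).ncard := by
  have key : ∀ (g s : G), (NN Z K s).ncard ≤ (NN Z K (g * s * g⁻¹)).ncard := by
    intro g s
    have inj : Function.Injective (fun x : G => g * x * g⁻¹) := fun x y hxy => by
      have := mul_right_cancel hxy
      exact mul_left_cancel this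
    rw [← Set.ncard_image_of_injective (NN Z K s) inj.image_injective]
    refine Set.ncard_le_ncard ?_ (Set.toFinite _)
    rintro _ ⟨A, hA, rfl⟩
    exact NN_conj h hA g
  apply le_antisymm _ (key g s)
  have h1 := key g⁻¹ (g * s * g⁻¹)
  have e : g⁻¹ * (g * s * g⁻¹) * g⁻¹⁻¹ = s := by group
  rwa [e] at h1

include cls

theorem NN_ncard (hz : z ∈ Z) (hu : u ∈ Z) : (NN Z K u).ncard = (NN Z K z).ncard := by
  obtain ⟨g, rfl⟩ := cls z hz u hu
  exact NN_ncard_conj h g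

include tp

/-- nil is symmetric -/
theorem nil_symm (hz : z ∈ Z) (ha : a ∈ Z) (hza : Cm (K z) (K a)) (h1 : a ∈ oP 2 (centralizer {z})) :
    z ∈ oP 2 (centralizer {a}) := by
  by_contra h2
  have hd := NN_diff h hz ha hza (TP.of_mem h tp hz) (TP.of_mem h tp ha)
  have haO := om_of_cm h hz ha hza
  have hzO := om_of_cm h ha hz hza.symm
  have h3 : Cl Z K z a ∉ NN Z K z := fun h4 => (cl_mem_NN h haO).1 h4 h1
  have h4 : Cl Z K a z ∈ NN Z K a := (cl_mem_NN h hzO).2 h2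
  have h5 := NN_ncard h cls hz ha
  rw [Set.sdiff_singleton_eq_self h3] at hd
  rw [hd] at h5
  have h6 := Set.ncard_diff_singleton_lt_of_mem h4 (Set.toFinite _)
  omega

/-- at least two non-nil classes: a frame -/
theorem frame_of_two (hz : z ∈ Z) (h2 : ∃ A ∈ NN Z K z, ∃ B ∈ NN Z K z, A ≠ B) : ∃ F, Frm Z K F ∧ ∃ A ∈ F, z ∈ A := by
  obtain ⟨A, hA, B, hB, hAB⟩ := h2
  have hT := fun {x : G} (hx : x ∈ Z) => TP.of_mem h tp hx
  -- facts about points of the classes of `C(z)`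
  have pt : ∀ {C : Set G} {x : G}, C ∈ NN Z K z → x ∈ C →
      x ∈ Om Z K z ∧ x ∉ oP 2 (centralizer {z}) ∧ Cm (K z) (K x) ∧ C = Cl Z K z x ∧ z ∉ oP 2 (centralizer {x}) ∧
        Cl Z K x z ∈ NN Z K x ∧ z ∈ Om Z K x := by
    intro C x hC hx
    obtain ⟨h1, h2, h3⟩ := NN_cl h hC hx
    have hne : x ≠ z := by
      rintro rfl
      exact h2 (mem_oP_self h hz)
    have h4 := cm_of_om h hz h1 hne
    have h5 : z ∉ oP 2 (centralizer {x}) := fun h5 => h2 (nil_symm h cls tp h1.1 hz h4.symm h5)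
    have h6 := om_of_cm h h1.1 hz h4.symm
    exact ⟨h1, h2, h4, h3, h5, (cl_mem_NN h h6).2 h5, h6⟩
  -- two different classes of `C(z)`: `cl_a(z) = cl_b(z)`
  have step : ∀ {C D : Set G} {x y : G}, C ∈ NN Z K z → D ∈ NN Z K z → C ≠ D → x ∈ C → y ∈ D →
      Cl Z K x z = Cl Z K y z := by
    intro C D x y hC hD hCD hx hy
    obtain ⟨c1, c2, c3, c4, c5, c6, c7⟩ := pt hC hx
    obtain ⟨d1, d2, d3, d4, d5, d6, d7⟩ := pt hD hy
    have hyC : y ∉ C := fun h1 => hCD (c4.trans (by rw [d4]; exact (cl_eq c1 (c4 ▸ h1)).symm))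
    have hxD : x ∉ D := fun h1 => hCD ((c4.trans (cl_eq d1 (d4 ▸ h1))).trans d4.symm)
    have hxy : Cm (K x) (K y) := cl_cm (s := z) (z := x) (cl_refl z x) d1 (by rw [← c4]; exact hyC)
    -- `D` is a class of `C(x)`
    have hDx : D ∈ NN Z K x := NN_exch h hz c1.1 c3 (hT c1.1) hD hxD
    have hCy : C ∈ NN Z K y := NN_exch h hz d1.1 d3 (hT d1.1) hC hyC
    have hd := NN_diff h c1.1 d1.1 hxy (hT c1.1) (hT d1.1)
    have e1 : Cl Z K x y = D := (NN_cl h hDx hy).2.2.symm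
    have e2 : Cl Z K y x = C := (NN_cl h hCy hx).2.2.symm
    rw [e1, e2] at hd
    have h3 : Cl Z K x z ∈ NN Z K x \ {D} := ⟨c6, fun h4 => by
      rw [Set.mem_singleton_iff] at h4
      exact NN_not_mem h hz hD (by rw [← h4]; exact cl_refl x z)⟩
    rw [hd] at h3
    exact (NN_cl h h3.1 (cl_refl x z)).2.2
  obtain ⟨a0, ha0⟩ := NN_nonempty h hA
  obtain ⟨b0, hb0⟩ := NN_nonempty h hB
  set K0 := Cl Z K a0 z with hK0
  have hall : ∀ {C : Set G} {x : G}, C ∈ NN Z K z → x ∈ C → Cl Z K x z = K0 := by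
    intro C x hC hx
    by_cases hCA : C = A
    · rw [step hC hB (hCA ▸ hAB) hx hb0, hK0, step hA hB hAB ha0 hb0]
    · rw [hK0, step hA hC (Ne.symm hCA) ha0 hx]
  have hzK0 : z ∈ K0 := cl_refl a0 z
  have hK0n : ∀ {C : Set G}, C ∈ NN Z K z → K0 ≠ C := fun {C} hC e => NN_not_mem h hz hC (e ▸ hzK0)
  have hK0Z : K0 ⊆ Z := fun y hy => (cl_sub (pt hA ha0).2.2.2.2.2.2 hy).1
  -- points of `K0` commute with those of the other classes
  have hcm0 : ∀ {C : Set G} {x y : G}, C ∈ NN Z K z → x ∈ C → y ∈ K0 → Cm (K x) (K y) := by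
    intro C x y hC hx hy
    obtain ⟨c1, c2, c3, c4, c5, c6, c7⟩ := pt hC hx
    rw [← hall hC hx] at hy
    refine cm_of_om h c1.1 (cl_sub c7 hy) ?_
    rintro rfl
    exact c5 ((nil_cl h c7 hy).1 (mem_oP_self h c1.1))
  have hnnA : ∀ {C : Set G} {x : G}, C ∈ NN Z K z → x ∈ C → NN Z K x = insert K0 (NN Z K z \ {C}) := by
    intro C x hC hx
    obtain ⟨c1, c2, c3, c4, c5, c6, c7⟩ := pt hC hx
    have hd := NN_diff h hz c1.1 c3 (hT hz) (hT c1.1)
    rw [← c4] at hd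
    rw [hd, hall hC hx, Set.insert_diff_singleton, Set.insert_eq_of_mem]
    rw [← hall hC hx]
    exact c6
  have hnn0 : ∀ {y : G}, y ∈ K0 → NN Z K y = NN Z K z := by
    intro y hy
    have h1 : NN Z K z ⊆ NN Z K y := by
      intro C hC
      -- a class `D ≠ C`
      obtain ⟨D, hD, hDC⟩ : ∃ D ∈ NN Z K z, D ≠ C := by
        by_cases hCA : C = A
        · exact ⟨B, hB, fun e => hAB (hCA.symm.trans e.symm)⟩
        · exact ⟨A, hA, Ne.symm hCA⟩
      obtain ⟨x, hx⟩ := NN_nonempty h hD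
      obtain ⟨c1, -⟩ := pt hD hx
      have hCx : C ∈ NN Z K x := by rw [hnnA hD hx]; exact Or.inr ⟨hC, fun e => hDC e.symm⟩
      have hyZ := hK0Z hy
      refine NN_exch h c1.1 hyZ (hcm0 hD hx hy) (hT hyZ) hCx fun h4 => ?_
      -- `y ∈ C ∩ K0`
      exact not_cm_self h hyZ (hcm0 hC h4 hy)
    have h2 := NN_ncard h cls (hK0Z hy) hz
    exact (Set.eq_of_subset_of_ncard_le h1 (by rw [h2]) (Set.toFinite _)).symm
  refine ⟨insert K0 (NN Z K z), ⟨⟨A, Or.inr hA, B, Or.inr hB, hAB⟩, ?_, ?_, ?_, ?_⟩, K0, Or.inl rfl, hzK0⟩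
  · rintro C (rfl | hC)
    · exact hK0Z
    · exact fun x hx => (pt hC hx).1.1
  · rintro C (rfl | hC)
    · exact ⟨z, hzK0⟩
    · exact NN_nonempty h hC
  · rintro C (rfl | hC) D (rfl | hD) hne x hx y hy
    · exact (hne rfl).elim
    · exact (hcm0 hD hy hx).symm
    · exact hcm0 hC hx hy
    · obtain ⟨c1, c2, c3, c4, c5, c6, c7⟩ := pt hC hx
      obtain ⟨d1, d2, d3, d4, d5, d6, d7⟩ := pt hD hy
      refine cl_cm (s := z) (z := x) (cl_refl z x) d1 fun h1 => hne ?_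
      rw [c4, d4, cl_eq c1 h1]
  · rintro C (rfl | hC) x hx
    · rw [hnn0 hx]
      ext D
      constructor
      · exact fun hD => ⟨Or.inr hD, fun e => hK0n hD e.symm⟩
      · rintro ⟨rfl | hD, h1⟩
        · exact (h1 rfl).elim
        · exact hD
    · rw [hnnA hC hx]
      ext D
      constructor
      · rintro (rfl | hD)
        · exact ⟨Or.inl rfl, fun e => hK0n hC e⟩
        · exact ⟨Or.inr hD.1, hD.2⟩
      · rintro ⟨rfl | hD, h1⟩
        · exact Or.inl rfl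
        · exact Or.inr ⟨hD, h1⟩

/-- one non-nil class and a nil C-pair: a frame -/
theorem frame_of_nil (h1 : ∀ z ∈ Z, (NN Z K z).ncard = 1) (hz : z ∈ Z) (hu : u ∈ Z) (hzu : Cm (K z) (K u))
    (hn : u ∈ oP 2 (centralizer {z})) : ∃ F, Frm Z K F ∧ ∃ A ∈ F, z ∈ A := by
  have hT := fun {x : G} (hx : x ∈ Z) => TP.of_mem h tp hx
  have hun : ∀ {x : G} {A B : Set G}, x ∈ Z → A ∈ NN Z K x → B ∈ NN Z K x → A = B := by
    intro x A B hx hA hB
    obtain ⟨C, hC⟩ := Set.ncard_eq_one.1 (h1 x hx)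
    rw [hC] at hA hB
    exact hA.trans hB.symm
  -- the classes of `C(z)` and `C(u)`
  have huz : u ∈ Om Z K z := om_of_cm h hz hu hzu
  have hzO : z ∈ Om Z K u := om_of_cm h hu hz hzu.symm
  obtain ⟨B, hB⟩ := Set.ncard_eq_one.1 (h1 z hz)
  have hBz : B ∈ NN Z K z := by rw [hB]; rfl
  have hBu : B ∈ NN Z K u := by
    have hd := NN_diff h hz hu hzu (hT hz) (hT hu)
    have h2 : B ∈ NN Z K z \ {Cl Z K z u} := ⟨hBz, fun e => by
      rw [Set.mem_singleton_iff] at e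
      exact (cl_mem_NN h huz).1 (e ▸ hBz) hn⟩
    rw [hd] at h2
    exact h2.1
  obtain ⟨a, haB⟩ := NN_nonempty h hBz
  obtain ⟨az, azn, aze⟩ := NN_cl h hBz haB
  obtain ⟨au, aun, aue⟩ := NN_cl h hBu haB
  have haZ := az.1
  have hza : Cm (K z) (K a) := cm_of_om h hz az (by rintro rfl; exact azn (mem_oP_self h haZ))
  have hua : Cm (K u) (K a) := cm_of_om h hu au (by rintro rfl; exact aun (mem_oP_self h haZ))
  have zOa : z ∈ Om Z K a := om_of_cm h haZ hz hza.symm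
  have uOa : u ∈ Om Z K a := om_of_cm h haZ hu hua.symm
  have znn : z ∉ oP 2 (centralizer {a}) := fun h2 => azn (nil_symm h cls tp haZ hz hza.symm h2)
  have unn : u ∉ oP 2 (centralizer {a}) := fun h2 => aun (nil_symm h cls tp haZ hu hua.symm h2)
  set A := Cl Z K a z with hA
  have hAa : A ∈ NN Z K a := (cl_mem_NN h zOa).2 znn
  have hAu : A = Cl Z K a u := hun haZ hAa ((cl_mem_NN h uOa).2 unn)
  have huA : u ∈ A := by rw [hAu]; exact cl_refl a u
  have hzA : z ∈ A := cl_refl a z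
  have oneA : OneC Z K a z := (hT haZ z zOa).resolve_left znn
  -- `e = z u` centralises both
  set e := z * u with he
  have hBe : ∀ x ∈ B, x ∈ Om Z K e := fun x hx =>
    ⟨(NN_cl h hBz hx).1.1, (NN_cl h hBz hx).1.2.mul (NN_cl h hBu hx).1.2⟩
  have hAe : ∀ x ∈ A, x ∈ Om Z K e := fun x hx =>
    ⟨(cl_sub zOa hx).1, oneA z (cl_refl a z) u huA hzu x hx⟩
  have hBe' : B ⊆ Cl Z K e a := by rw [aze]; exact cl_mono fun x hx => hBe x (aze ▸ hx)
  have hAe' : A ⊆ Cl Z K e z := cl_mono hAe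
  have aOe := hBe a haB
  have zOe := hAe z hzA
  have hTe : TPs Z K e := TP.of_mul h tp hz hu ⟨ne_of_cm h hz hzu, hzu⟩
  have ane : a ∉ oP 2 (centralizer {e}) := by
    intro h2
    apply azn
    refine nil_down h az (isPGroup_oP 2 (centralizer {e})) fun x hx => ?_
    rw [← aze] at hx
    exact (nil_cl h aOe (hBe' hx)).2 h2
  have onee : OneC Z K e a := (hTe a aOe).resolve_left ane
  have zne : z ∉ Cl Z K e a := by
    intro h2
    apply azn
    refine nil_of_ce h az fun x hx => ?_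
    rw [← aze] at hx
    have h3 := onee z h2 a (cl_refl e a) hza x (hBe' hx)
    have h4 : Ce z (K x) := (NN_cl h hBz hx).1.2
    have h5 : z * (z * a) = a := by rw [← mul_assoc, h.sq z hz, one_mul]
    rw [← h5]
    exact h4.mul h3
  have hab : ∀ x ∈ A, ∀ y ∈ B, Cm (K x) (K y) := by
    intro x hx y hy
    have h2 : Cl Z K e a ∩ Cl Z K e z = ∅ := by
      rw [Set.eq_empty_iff_forall_notMem]
      rintro w ⟨h3, h4⟩
      exact zne (cl_trans h3 (cl_symm zOe h4))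
    refine (cl_cm (hBe' hy) (hAe x hx) fun h3 => ?_).symm
    have : x ∈ Cl Z K e a ∩ Cl Z K e z := ⟨h3, hAe' hx⟩
    rw [h2] at this
    exact this
  -- sizes
  have size : ∀ {x y : G} {C D : Set G}, x ∈ Z → y ∈ Z → C ∈ NN Z K x → D ∈ NN Z K y → C.ncard = D.ncard := by
    intro x y C D hx hy hC hD
    obtain ⟨g, rfl⟩ := cls x hx y hy
    rw [← hun hy (NN_conj h hC g) hD]
    refine (Set.ncard_image_of_injective C fun x y hxy => ?_).symm
    exact mul_left_cancel (mul_right_cancel hxy)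
  have hAZ : A ⊆ Z := fun x hx => (cl_sub zOa hx).1
  have hBZ : B ⊆ Z := fun x hx => (NN_cl h hBz hx).1.1
  have hNA : ∀ x ∈ A, NN Z K x = {B} := by
    intro x hx
    have hxZ := hAZ hx
    have h2 : ∀ y ∈ B, y ∈ Om Z K x := fun y hy => om_of_cm h hxZ (hBZ hy) (hab x hx y hy)
    have h3 : a ∉ oP 2 (centralizer {x}) := by
      intro h4
      obtain ⟨-, h5, -⟩ := NN_cl h hAa hx
      exact h5 (nil_symm h cls tp hxZ haZ (hab x hx a haB) h4)
    have h4 : Cl Z K x a ∈ NN Z K x := (cl_mem_NN h (h2 a haB)).2 h3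
    have h5 : B ⊆ Cl Z K x a := by rw [aze]; exact cl_mono fun y hy => h2 y (aze ▸ hy)
    have h6 : B = Cl Z K x a := Set.eq_of_subset_of_ncard_le h5 (size hxZ hz h4 hBz).le (Set.toFinite _)
    obtain ⟨D, hD⟩ := Set.ncard_eq_one.1 (h1 x hxZ)
    rw [hD] at h4 ⊢
    rw [h6, h4]
  have hNB : ∀ x ∈ B, NN Z K x = {A} := by
    intro x hx
    have hxZ := hBZ hx
    have h2 : ∀ y ∈ A, y ∈ Om Z K x := fun y hy => om_of_cm h hxZ (hAZ hy) (hab y hy x hx).symm
    have h3 : z ∉ oP 2 (centralizer {x}) := by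
      intro h4
      obtain ⟨-, h5, -⟩ := NN_cl h hBz hx
      exact h5 (nil_symm h cls tp hxZ hz (hab z hzA x hx).symm h4)
    have h4 : Cl Z K x z ∈ NN Z K x := (cl_mem_NN h (h2 z hzA)).2 h3
    have h5 : A ⊆ Cl Z K x z := cl_mono h2
    have h6 : A = Cl Z K x z := Set.eq_of_subset_of_ncard_le h5 (size hxZ haZ h4 hAa).le (Set.toFinite _)
    obtain ⟨D, hD⟩ := Set.ncard_eq_one.1 (h1 x hxZ)
    rw [hD] at h4 ⊢
    rw [h6, h4]
  have hABne : A ≠ B := fun e => not_cm_self h hz (hab z hzA z (e ▸ hzA))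
  refine ⟨{A, B}, ⟨⟨A, Or.inl rfl, B, Or.inr rfl, hABne⟩, ?_, ?_, ?_, ?_⟩, A, Or.inl rfl, hzA⟩
  · rintro C (rfl | rfl)
    · exact hAZ
    · exact hBZ
  · rintro C (rfl | rfl)
    · exact ⟨z, hzA⟩
    · exact ⟨a, haB⟩
  · rintro C (rfl | rfl) D (rfl | rfl) hne x hx y hy
    · exact (hne rfl).elim
    · exact hab x hx y hy
    · exact (hab y hy x hx).symm
    · exact (hne rfl).elim
  · rintro C (rfl | rfl) x hx
    · rw [hNA x hx, Set.insert_sdiff_of_mem _ (Set.mem_singleton A), Set.sdiff_singleton_eq_self]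
      exact fun e => hABne e
    · rw [hNB x hx]
      ext D
      constructor
      · rintro rfl
        exact ⟨Or.inl rfl, hABne⟩
      · rintro ⟨rfl | rfl, h2⟩
        · rfl
        · exact (h2 rfl).elim

/-- one non-nil class and no nil C-pair -/
theorem allOne (h1 : ∀ z ∈ Z, (NN Z K z).ncard = 1) (h2 : ∀ z ∈ Z, ∀ u ∈ Z, CP K z u → u ∉ oP 2 (centralizer {z})) :
    AllOne Z K := by
  have hT := fun {x : G} (hx : x ∈ Z) => TP.of_mem h tp hx
  have hun : ∀ {x : G} {A B : Set G}, x ∈ Z → A ∈ NN Z K x → B ∈ NN Z K x → A = B := by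
    intro x A B hx hA hB
    obtain ⟨C, hC⟩ := Set.ncard_eq_one.1 (h1 x hx)
    rw [hC] at hA hB
    exact hA.trans hB.symm
  have hcls : ∀ {z u v : G}, z ∈ Z → u ∈ Z → v ∈ Z → CP K z u → CP K z v → v ∈ Cl Z K z u := by
    intro z u v hz hu hv h3 h4
    have h5 : Cl Z K z u ∈ NN Z K z := (cl_mem_NN h (om_of_cm h hz hu h3.2)).2 (h2 z hz u hu h3)
    have h6 : Cl Z K z v ∈ NN Z K z := (cl_mem_NN h (om_of_cm h hz hv h4.2)).2 (h2 z hz v hv h4)
    rw [hun hz h5 h6]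
    exact cl_refl z v
  have hone : ∀ {z u : G}, z ∈ Z → u ∈ Z → CP K z u → OneC Z K z u := fun {z u} hz hu h3 =>
    (hT hz u (om_of_cm h hz hu h3.2)).resolve_left (h2 z hz u hu h3)
  refine ⟨h2, fun z hz u hu v hv => hcls hz hu hv, fun z hz u hu => hone hz hu, ?_⟩
  intro z hz a ha b hb hza hzb hab
  by_contra ht
  set t := z * a * b with htd
  have cza := h.comm_of_cp hz ha hza
  have czb := h.comm_of_cp hz hb hzb
  have cab := h.comm_of_cp ha hb hab
  have haz : CP K a z := hza.symm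
  -- `t` centralises the classes `cl_z(a)` and `cl_a(z)`
  have haO := om_of_cm h hz ha hza.2
  have hbO := om_of_cm h hz hb hzb.2
  have hzO := om_of_cm h ha hz haz.2
  have s1 : Cl Z K z a ⊆ Om Z K t := fun x hx => by
    have h3 := hone hz ha hza a (cl_refl z a) b (hcls hz ha hb hza hzb) hab.2 x hx
    have h4 := (cl_sub haO hx).2
    refine ⟨(cl_sub haO hx).1, ?_⟩
    rw [htd, mul_assoc]
    exact h4.mul h3
  have s2 : Cl Z K a z ⊆ Om Z K t := fun x hx => by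
    have h3 := hone ha hz haz z (cl_refl a z) b (hcls ha hz hb haz hab) hzb.2 x hx
    have h4 := (cl_sub hzO hx).2
    refine ⟨(cl_sub hzO hx).1, ?_⟩
    rw [htd, cza, mul_assoc]
    exact h4.mul h3
  have i1 : Cl Z K z a ⊆ Cl Z K t a := cl_mono s1
  have i2 : Cl Z K a z ⊆ Cl Z K t z := cl_mono s2
  have b1 : b ∈ Cl Z K t a := i1 (hcls hz ha hb hza hzb)
  have b2 : b ∈ Cl Z K t z := i2 (hcls ha hz hb haz hab)
  have aOt := s1 (cl_refl z a)
  have zOt := s2 (cl_refl a z)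
  have hz1 : z ∈ Cl Z K t a := cl_trans b1 (cl_symm zOt b2)
  -- `T'` for `t`
  obtain ⟨S, hS⟩ : ∃ S : Sylow 2 G, z ∈ CS Z K S ∧ a ∈ CS Z K S ∧ b ∈ CS Z K S := by
    classical
    obtain ⟨S, hS⟩ := (h.isPGroup_clique {z, a, b} (by
      intro x hx
      simp only [Finset.mem_insert, Finset.mem_singleton] at hx
      rcases hx with rfl | rfl | rfl
      · exact hz
      · exact ha
      · exact hb) (by
      intro x hx y hy hne
      simp only [Finset.mem_insert, Finset.mem_singleton] at hx hy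
      rcases hx with rfl | rfl | rfl <;> rcases hy with rfl | rfl | rfl
      · exact (hne rfl).elim
      · exact hza
      · exact hzb
      · exact hza.symm
      · exact (hne rfl).elim
      · exact hab
      · exact hzb.symm
      · exact hab.symm
      · exact (hne rfl).elim)).exists_le_sylow
    have h3 : ∀ x ∈ ({z, a, b} : Finset G), K x ≤ S := fun x hx => (le_iSup₂_of_le x hx le_rfl).trans hS
    exact ⟨S, ⟨hz, h3 z (by simp)⟩, ⟨ha, h3 a (by simp)⟩, ⟨hb, h3 b (by simp)⟩⟩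
  have hTt : TPs Z K t := tp S t (mul_mem (mul_mem (subset_closure hS.1) (subset_closure hS.2.1))
    (subset_closure hS.2.2)) ht
  have ann := h2 z hz a ha hza
  rcases hTt a aOt with h3 | h3
  · apply ann
    refine nil_down h haO (isPGroup_oP 2 (centralizer {t})) fun x hx => ?_
    exact (nil_cl h aOt (i1 hx)).2 h3
  · apply ann
    refine nil_of_ce h haO fun x hx => ?_
    have h4 := h3 z hz1 a (cl_refl t a) hza.2 x (i1 hx)
    have h5 : z * (z * a) = a := by rw [← mul_assoc, h.sq z hz, one_mul]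
    rw [← h5]
    exact (cl_sub haO hx).2.mul h4

/-- **the trichotomy** -/
theorem trich : (∀ z ∈ Z, ∀ u ∈ Z, CP K z u → u ∈ oP 2 (centralizer {z})) ∨
    (∀ z ∈ Z, ∃ F, Frm Z K F ∧ ∃ A ∈ F, z ∈ A) ∨ AllOne Z K := by
  by_cases h0 : ∀ z ∈ Z, (NN Z K z).ncard = 0
  · left
    intro z hz u hu hc
    by_contra hn
    have h1 : Cl Z K z u ∈ NN Z K z := (cl_mem_NN h (om_of_cm h hz hu hc.2)).2 hn
    rw [(Set.ncard_eq_zero (Set.toFinite _)).1 (h0 z hz)] at h1
    exact h1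
  · right
    push Not at h0
    obtain ⟨z0, hz0, h0⟩ := h0
    by_cases h1 : (NN Z K z0).ncard = 1
    · have h1' : ∀ z ∈ Z, (NN Z K z).ncard = 1 := fun z hz => by rw [NN_ncard h cls hz0 hz, h1]
      by_cases h2 : ∀ z ∈ Z, ∀ u ∈ Z, CP K z u → u ∉ oP 2 (centralizer {z})
      · exact Or.inr (allOne h cls tp h1' h2)
      · left
        push Not at h2
        obtain ⟨z, hz, u, hu, hc, hn⟩ := h2
        obtain ⟨F, hF, A, hA, hzA⟩ := frame_of_nil h cls tp h1' hz hu hc.2 hn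
        intro y hy
        obtain ⟨g, rfl⟩ := cls z hz y hy
        exact ⟨_, hF.conj h g, _, ⟨A, hA, rfl⟩, ⟨z, hzA, rfl⟩⟩
    · left
      intro z hz
      apply frame_of_two h cls tp hz
      have h2 : 1 < (NN Z K z).ncard := by
        rw [NN_ncard h cls hz0 hz]
        omega
      obtain ⟨A, hA, B, hB, hAB⟩ := (Set.one_lt_ncard (Set.toFinite _)).1 h2
      exact ⟨A, hA, B, hB, hAB⟩

end

end Cfsg.Agent.Cit.Nil.Comp
end

-- part: Cit/Nil/Comp/ProdFour
section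
/-!
# COMP, `r = 1`, the product situation: (F4) of helper454's text (bb R18 #15492)

`Fram Z K Sg Kl` : the product situation after (F1)-(F3): `Sg z` is the union of the frame of `z`, `Kl z` the class of `z`
in the frame.

* `Fram.MM` : the stabiliser `M` of the frame of `z`;
* `Fram.om_sub` : the members of `C(h)`, `h ∈ T_S`, `h ≠ 1`, are in the frame of `S`;
* `Fram.cent_le` : `C(h) ≤ M`;
* `Fram.mem_MM_of_conj` : `g h g⁻¹ ∈ M` implies `g ∈ M`.
-/

set_option autoImplicit false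
set_option linter.style.haveILetI false
set_option linter.unusedSectionVars false

namespace Cfsg.Agent.Cit.Nil.Comp

open Subgroup Cfsg Cit Cfsg.Agent.Cit.Nil.ROne Cfsg.Agent.OddOrderLocal.NilParts
open Cfsg.Agent.Cit.Nil.AN (Om Cl OneC Ce Cm)

variable {G : Type*} [Group G]

/-- the product situation, output of (F1)-(F3) -/
structure Fram (Z : Set G) (K : G → Subgroup G) (Sg Kl : G → Set G) : Prop where
  subZ : ∀ z ∈ Z, Sg z ⊆ Z
  self : ∀ z ∈ Z, z ∈ Kl z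
  sub : ∀ z ∈ Z, Kl z ⊆ Sg z
  sgEq : ∀ z ∈ Z, ∀ u ∈ Sg z, Sg u = Sg z
  klEq : ∀ z ∈ Z, ∀ u ∈ Kl z, Kl u = Kl z
  conj : ∀ z ∈ Z, ∀ g : G, ∀ u ∈ Sg z, g * u * g⁻¹ ∈ Sg (g * z * g⁻¹)
  /-- different classes of a frame commute -/
  cm : ∀ z ∈ Z, ∀ u ∈ Sg z, u ∉ Kl z → CP K z u
  /-- there are at least two classes -/
  ex : ∀ z ∈ Z, ∃ u ∈ Sg z, u ∉ Kl z
  /-- a class is not a commuting family -/
  nc : ∀ z ∈ Z, ∃ b ∈ Kl z, ∃ b' ∈ Kl z, b ≠ b' ∧ ¬ CP K b b'
  /-- (F1) -/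
  f1 : ∀ u ∈ Z, ∀ v ∈ Z, CP K u v → v ∈ Sg u
  /-- (F2) -/
  f2 : ∀ x ∈ Z, ∀ u ∈ Z, CP K u (x * u * x⁻¹) → x ∈ Sg u
  /-- (F3) -/
  f3 : ∀ z ∈ Z, ∀ x ∈ Z, x * z * x⁻¹ ∈ Sg z → x ∈ Sg z

/-- `T'` for `S`: the classes of `C(s)`, `s ∈ T_S`, `s ≠ 1`, are nil or `ONE` -/
def TPS (Z : Set G) (K : G → Subgroup G) (S : Subgroup G) : Prop := ∀ s ∈ TT Z K S, s ≠ 1 → TPs Z K s

theorem TP.tps {Z : Set G} {K : G → Subgroup G} (h : TP Z K) (S : Sylow 2 G) : TPS Z K (S : Subgroup G) := h S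

/-- `m = 2`: the case which needs the structure of the class of `C(z₁ z₂)` -/
def MTwo (Z : Set G) (K : G → Subgroup G) (S : Subgroup G) : Prop :=
  ∀ z₁ z₂, z₁ ≠ z₂ → CS Z K S = {z₁, z₂} → (∀ u ∈ Om Z K (z₁ * z₂), u ∈ Cl Z K (z₁ * z₂) z₁) →
    OneC Z K (z₁ * z₂) z₁ → False

namespace Fram

variable {Z : Set G} {K : G → Subgroup G} {Sg Kl : G → Set G} {z u v g h x : G}

section basic

variable (f : Fram Z K Sg Kl)

include f

theorem mem_Z (hz : z ∈ Z) (hu : u ∈ Sg z) : u ∈ Z := f.subZ z hz hu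

theorem selfS (hz : z ∈ Z) : z ∈ Sg z := f.sub z hz (f.self z hz)

theorem sg_symm (hz : z ∈ Z) (hu : u ∈ Sg z) : z ∈ Sg u := by
  rw [f.sgEq z hz u hu]; exact f.selfS hz

theorem kl_mem_Z (hz : z ∈ Z) (hu : u ∈ Kl z) : u ∈ Z := f.subZ z hz (f.sub z hz hu)

theorem kl_symm (hz : z ∈ Z) (hu : u ∈ Kl z) : z ∈ Kl u := by
  rw [f.klEq z hz u hu]; exact f.self z hz

theorem kl_sub (hz : z ∈ Z) (hu : u ∈ Sg z) : Kl u ⊆ Sg z := by
  rw [← f.sgEq z hz u hu]; exact f.sub u (f.mem_Z hz hu)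

theorem cm' (hz : z ∈ Z) (hu : u ∈ Sg z) (hv : v ∈ Sg z) (hn : v ∉ Kl u) : CP K u v :=
  f.cm u (f.mem_Z hz hu) v (by rw [f.sgEq z hz u hu]; exact hv) hn

/-- the stabiliser of the frame of `z` -/
def MM (hz : z ∈ Z) : Subgroup G where
  carrier := {g | g * z * g⁻¹ ∈ Sg z}
  one_mem' := by
    change 1 * z * 1⁻¹ ∈ Sg z
    rw [one_mul, inv_one, mul_one]; exact f.selfS hz
  mul_mem' {a b} ha hb := by
    change a * b * z * (a * b)⁻¹ ∈ Sg z
    have h1 := f.conj z hz a _ hb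
    rw [f.sgEq z hz _ ha] at h1
    have e : a * b * z * (a * b)⁻¹ = a * (b * z * b⁻¹) * a⁻¹ := by group
    rwa [e]
  inv_mem' {a} ha := by
    change a⁻¹ * z * a⁻¹⁻¹ ∈ Sg z
    have h1 := f.conj _ (f.mem_Z hz ha) a⁻¹ z (f.sg_symm hz ha)
    have e : a⁻¹ * (a * z * a⁻¹) * a⁻¹⁻¹ = z := by group
    rwa [e] at h1

theorem mem_MM (hz : z ∈ Z) : g ∈ f.MM hz ↔ g * z * g⁻¹ ∈ Sg z := Iff.rfl

/-- `g` stabilises the frame iff it maps some element of the frame into the frame -/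
theorem mem_MM_of (hz : z ∈ Z) (hu : u ∈ Sg z) (hg : g * u * g⁻¹ ∈ Sg z) : g ∈ f.MM hz := by
  rw [f.mem_MM hz]
  have h1 := f.conj u (f.mem_Z hz hu) g z (f.sg_symm hz hu)
  rwa [f.sgEq z hz _ hg] at h1

theorem mem_MM_conj (hz : z ∈ Z) (hg : g ∈ f.MM hz) (hu : u ∈ Sg z) : g * u * g⁻¹ ∈ Sg z := by
  have h1 := f.conj z hz g u hu
  rwa [f.sgEq z hz _ hg] at h1

theorem mem_MM_of_comm (hz : z ∈ Z) (hu : u ∈ Sg z) (hg : g * u = u * g) : g ∈ f.MM hz := by
  refine f.mem_MM_of hz hu ?_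
  rw [hg, mul_inv_cancel_right]; exact hu

/-- (F3) -/
theorem mem_of_MM (hz : z ∈ Z) (hx : x ∈ Z) (h1 : x ∈ f.MM hz) : x ∈ Sg z := f.f3 z hz x hx h1

/-- two frames with commuting involutions.. an element of `Z` commuting with an element of the frame is in the frame -/
theorem mem_of_comm (hz : z ∈ Z) (hu : u ∈ Sg z) (hx : x ∈ Z) (h1 : x * u = u * x) : x ∈ Sg z :=
  f.mem_of_MM hz hx (f.mem_MM_of_comm hz hu h1)

end basic

section syl

variable (f : Fram Z K Sg Kl) (w : W Z K) {S : Subgroup G}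

include f w

/-- the members of `S` are in one frame -/
theorem cs_sub [Finite G] (hS : IsPGroup 2 S) (hz : z ∈ CS Z K S) (hu : u ∈ CS Z K S) : u ∈ Sg z := by
  by_cases hne : z = u
  · rw [← hne]; exact f.selfS hz.1
  · exact f.f1 z hz.1 u hu.1 (w.com hz.1 hu.1 hS hz.2 hu.2 hne)

theorem cs_conj (hz : z ∈ CS Z K S) (hg : g ∈ S) : g * z * g⁻¹ ∈ CS Z K S := by
  refine ⟨w.conjZ z hz.1 g, ?_⟩
  rw [w.conjK z hz.1]
  intro x hx
  rw [mem_cj] at hx
  have h1 : x = g * (g⁻¹ * x * g) * g⁻¹ := by group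
  rw [h1]
  exact mul_mem (mul_mem hg (hz.2 hx)) (inv_mem hg)

theorem S_le [Finite G] (hS : IsPGroup 2 S) (hz : z ∈ CS Z K S) : S ≤ f.MM hz.1 := fun _ hg =>
  f.cs_sub w hS hz (f.cs_conj w hz hg)

/-- every class of the frame of `S` has a member in `S` -/
theorem meets [Finite G] (S : Sylow 2 G) (hz : z ∈ CS Z K (S : Subgroup G)) (hu : u ∈ Sg z) :
    ∃ v ∈ Kl u, v ∈ CS Z K (S : Subgroup G) := by
  by_contra hcon
  push Not at hcon
  have huZ := f.mem_Z hz.1 hu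
  refine hcon u (f.self u huZ) (w.mem_CS_of_clique S huZ fun v hv => Or.inr ?_)
  have hv1 : v ∈ Sg z := f.cs_sub w S.isPGroup' hz hv
  exact (f.cm' hz.1 hu hv1 fun h1 => hcon v h1 hv).symm

/-- an element centralising a class of the frame and having only one class, which is `ONE` -/
theorem false_of_one (hz : z ∈ Z) (hone : OneC Z K h z) (hall : ∀ x ∈ Om Z K h, x ∈ Cl Z K h z) {t : G}
    (ht : t ∈ Sg z) (htz : z ∉ Kl t) (hc : ∀ b ∈ Kl t, Cen K h b) : False := by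
  have htZ := f.mem_Z hz ht
  have hK : ∀ b ∈ Kl t, b ∈ Cl Z K h z := fun b hb => hall b ⟨f.kl_mem_Z htZ hb, hc b hb⟩
  have hcp : ∀ b ∈ Kl t, CP K z b := fun b hb => by
    have hb1 : b ∈ Sg z := f.kl_sub hz ht hb
    refine (f.cm' hz hb1 (f.selfS hz) ?_).symm
    rw [f.klEq t htZ b hb]
    exact htz
  obtain ⟨b, hb, b', hb', hne, hnc⟩ := f.nc t htZ
  have hbZ := f.kl_mem_Z htZ hb
  have hbZ' := f.kl_mem_Z htZ hb'
  apply hnc
  have h1 : Cen K (z * b) b' := hone z (AN.cl_refl h z) b (hK b hb) (hcp b hb).2 b' (hK b' hb')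
  have h2 : Cen K z b' := w.cen_of_cp hz (hcp b' hb').symm
  have h3 : Cen K b b' := by
    have h4 := h2.inv.mul h1
    rwa [inv_mul_cancel_left] at h4
  exact (w.csymm hbZ' hbZ hne.symm h3).symm

end syl

section main

variable [Finite G] (f : Fram Z K Sg Kl) (w : W Z K) (S : Sylow 2 G)

include f w

/-- the members of `C(h)` are in the frame, if `C(h)` has no class which is `ONE` and contains everything -/
theorem om_sub_of (hz : z ∈ CS Z K (S : Subgroup G)) (hh : h ∈ TT Z K (S : Subgroup G)) (hh1 : h ≠ 1)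
    (tp : TPS Z K (S : Subgroup G))
    (hno : (∀ x ∈ Om Z K h, x ∈ Cl Z K h z) → OneC Z K h z → Om Z K h ⊆ Sg z) : Om Z K h ⊆ Sg z := by
  intro u hu
  have hzh : z ∈ Om Z K h := ⟨hz.1, w.TT_cen S.isPGroup' hz hh⟩
  by_cases hall : ∀ x ∈ Om Z K h, x ∈ Cl Z K h z
  · rcases tp h hh hh1 z hzh with h1 | h1
    · -- nil
      have hKu : K u ≤ centralizer {h} := fun k hk => mem_centralizer_singleton_iff.2 (hu.2 k hk).symm
      have hP : IsPGroup 2 (K u ⊔ oP 2 (centralizer {h}) : Subgroup G) :=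
        OneBasic.isPGroup_sup_of_normalizes (w.two hu.1) (isPGroup_oP 2 _) (hKu.trans (le_normalizer_oP 2 _))
      have hzP : z ∈ (K u ⊔ oP 2 (centralizer {h}) : Subgroup G) := mem_sup_right h1
      have h2 : K (z * u * z⁻¹) ≤ (K u ⊔ oP 2 (centralizer {h}) : Subgroup G) := by
        rw [w.conjK u hu.1]
        intro x hx
        rw [mem_cj] at hx
        have h3 : x = z * (z⁻¹ * x * z) * z⁻¹ := by group
        rw [h3]
        exact mul_mem (mul_mem hzP (mem_sup_left hx)) (inv_mem hzP)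
      by_cases hne : u = z * u * z⁻¹
      · refine f.mem_of_comm hz.1 (f.selfS hz.1) hu.1 ?_
        rw [eq_mul_inv_iff_mul_eq] at hne
        exact hne
      · have h3 := w.com hu.1 (w.conjZ u hu.1 z) hP le_sup_left h2 hne
        exact f.sg_symm hu.1 (f.f2 z hz.1 u hu.1 h3)
    · exact hno hall h1 hu
  · push Not at hall
    obtain ⟨u0, hu0, hn0⟩ := hall
    have key : ∀ a b, a ∈ Cl Z K h z → b ∈ Om Z K h → b ∉ Cl Z K h z → CP K a b := by
      intro a b ha hb hbn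
      refine ⟨fun e => hbn (e ▸ ha), AN.cl_cm ha hb hbn⟩
    have h0 : u0 ∈ Sg z := f.f1 z hz.1 u0 hu0.1 (key z u0 (AN.cl_refl h z) hu0 hn0)
    by_cases hun : u ∈ Cl Z K h z
    · have h1 : u0 ∈ Sg u := f.f1 u hu.1 u0 hu0.1 (key u u0 hun hu0 hn0)
      have h2 : u ∈ Sg u0 := f.sg_symm hu.1 h1
      rwa [f.sgEq z hz.1 u0 h0] at h2
    · exact f.f1 z hz.1 u hu.1 (key z u (AN.cl_refl h z) hu hun)

/-- an element of `T_S` centralising a class of the frame -/
theorem om_sub_of_cent (hz : z ∈ CS Z K (S : Subgroup G)) (hh : h ∈ TT Z K (S : Subgroup G)) (hh1 : h ≠ 1)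
    (tp : TPS Z K (S : Subgroup G)) {t : G} (ht : t ∈ Sg z) (hc : ∀ b ∈ Kl t, Cen K h b) : Om Z K h ⊆ Sg z := by
  -- an element of `C_S` outside the class of `t`
  have htZ := f.mem_Z hz.1 ht
  obtain ⟨s, hs, hst⟩ := f.ex t htZ
  have hsz : s ∈ Sg z := by rwa [f.sgEq z hz.1 t ht] at hs
  obtain ⟨v, hv, hvS⟩ := f.meets w S hz hsz
  have hvz : v ∈ Sg z := f.kl_sub hz.1 hsz hv
  have hvt : v ∉ Kl t := fun h1 => hst (by
    have h2 : s ∈ Kl v := f.kl_symm (f.mem_Z hz.1 hsz) hv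
    rw [f.klEq t htZ v h1] at h2
    exact h2)
  have h1 : Om Z K h ⊆ Sg v := by
    refine f.om_sub_of w S hvS hh hh1 tp fun hall hone => ?_
    exact (f.false_of_one w hvS.1 hone hall (by rw [f.sgEq z hz.1 v hvz]; exact ht) hvt hc).elim
  rwa [f.sgEq z hz.1 v hvz] at h1

/-- **(F4), members**: the members of `C(h)`, `h ∈ T_S`, `h ≠ 1`, are in the frame of `S` -/
theorem om_sub (hz : z ∈ CS Z K (S : Subgroup G)) (hh : h ∈ TT Z K (S : Subgroup G)) (hh1 : h ≠ 1)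
    (tp : TPS Z K (S : Subgroup G)) (m2 : MTwo Z K (S : Subgroup G)) : Om Z K h ⊆ Sg z := by
  refine f.om_sub_of w S hz hh hh1 tp fun hall hone => ?_
  -- a member of `S` in another class
  obtain ⟨s, hs, hsn⟩ := f.ex z hz.1
  obtain ⟨v, hv, hvS⟩ := f.meets w S hz hs
  have hvz : v ∈ Sg z := f.kl_sub hz.1 hs hv
  have hvn : v ∉ Kl z := fun h1 => hsn (by
    have h2 : s ∈ Kl v := f.kl_symm (f.mem_Z hz.1 hs) hv
    rw [f.klEq z hz.1 v h1] at h2
    exact h2)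
  have hzv : z ∉ Kl v := fun h1 => hvn (f.kl_symm hvS.1 h1)
  have hne : z ≠ v := fun e => hvn (e ▸ f.self z hz.1)
  have hS := S.isPGroup'
  -- the product of two members of `S`
  have key : ∀ a ∈ CS Z K (S : Subgroup G), ∀ b ∈ CS Z K (S : Subgroup G), a ≠ b → ∀ t ∈ CS Z K (S : Subgroup G),
      t ∉ Kl a → t ∉ Kl b → Om Z K h ⊆ Sg z := by
    intro a ha b hb hab t ht hta htb
    have hcab := w.com ha.1 hb.1 hS ha.2 hb.2 hab
    have h1 : a * b ∈ TT Z K (S : Subgroup G) := mul_mem (subset_closure ha) (subset_closure hb)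
    have h2 : a * b ≠ 1 := w.cp_mul_ne hb.1 hcab
    have haS : ∀ {x}, x ∈ CS Z K (S : Subgroup G) → x ∈ Sg z := fun hx => f.cs_sub w hS hz hx
    have h3 : ∀ c ∈ CS Z K (S : Subgroup G), t ∉ Kl c → ∀ x ∈ Kl t, Cen K c x := by
      intro c hc htc x hx
      have hxz : x ∈ Sg z := f.kl_sub hz.1 (haS ht) hx
      refine w.cen_of_cp hc.1 (f.cm' hz.1 hxz (haS hc) fun h4 => htc ?_)
      rw [f.klEq t ht.1 x hx] at h4
      exact f.kl_symm ht.1 h4
    have h4 := f.om_sub_of_cent w S hz h1 h2 tp (haS ht) fun x hx => (h3 a ha hta x hx).mul (h3 b hb htb x hx)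
    -- `Om h ⊆ Om (a b)`
    have hah : ∀ {x}, x ∈ CS Z K (S : Subgroup G) → x ∈ Cl Z K h z := fun hx =>
      hall _ ⟨hx.1, w.TT_cen hS hx hh⟩
    exact fun x hx => h4 ⟨hx.1, hone a (hah ha) b (hah hb) hcab.2 x (hall x hx)⟩
  by_cases h3 : ∃ t ∈ CS Z K (S : Subgroup G), t ≠ z ∧ t ≠ v
  · obtain ⟨t, ht, htz, htv⟩ := h3
    by_cases c1 : t ∈ Kl z
    · refine key z hz t ht htz.symm v hvS hvn ?_
      rw [f.klEq z hz.1 t c1]; exact hvn
    · by_cases c2 : t ∈ Kl v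
      · refine key v hvS t ht htv.symm z hz hzv ?_
        rw [f.klEq v hvS.1 t c2]; exact hzv
      · exact key z hz v hvS hne t ht c1 c2
  · -- `m = 2`
    push Not at h3
    have hCS : CS Z K (S : Subgroup G) = {z, v} := by
      ext x
      constructor
      · intro hx
        by_cases hxz : x = z
        · exact Or.inl hxz
        · exact Or.inr (h3 x hx hxz)
      · rintro (rfl | rfl)
        · exact hz
        · exact hvS
    -- `h ∈ {z, v, z v}`
    have hcomm : z * v = v * z := w.comm_of_cp hz.1 hvS.1 (w.com hz.1 hvS.1 hS hz.2 hvS.2 hne)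
    have hcases : h = 1 ∨ h = z ∨ h = v ∨ h = z * v := by
      have hh' : h ∈ closure (CS Z K (S : Subgroup G)) := hh
      rw [hCS] at hh'
      have hzz := w.sq z hz.1
      have hvv := w.sq v hvS.1
      refine closure_induction (p := fun x _ => x = 1 ∨ x = z ∨ x = v ∨ x = z * v) ?_ ?_ ?_ ?_ hh'
      · rintro x (rfl | rfl)
        · exact Or.inr (Or.inl rfl)
        · exact Or.inr (Or.inr (Or.inl rfl))
      · exact Or.inl rfl
      · have e1 : z * (z * v) = v := by rw [← mul_assoc, hzz, one_mul]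
        have e2 : v * (z * v) = z := by rw [hcomm, ← mul_assoc, hvv, one_mul]
        have e3 : z * v * z = v := by rw [hcomm, mul_assoc, hzz, mul_one]
        have e4 : z * v * v = z := by rw [mul_assoc, hvv, mul_one]
        have e5 : z * v * (z * v) = 1 := by rw [← mul_assoc, e3, hvv]
        rintro x y - - (rfl | rfl | rfl | rfl) (rfl | rfl | rfl | rfl)
        all_goals simp only [one_mul, mul_one, hzz, hvv, e1, e2, e3, e4, e5, hcomm.symm]
        all_goals simp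
      · have hzi := w.inv hz.1
        have hvi := w.inv hvS.1
        rintro x - (rfl | rfl | rfl | rfl)
        · simp
        · simp [hzi]
        · simp [hvi]
        · right; right; right
          rw [mul_inv_rev, hzi, hvi, hcomm]
    rcases hcases with h4 | h4 | h4 | h4
    · exact absurd h4 hh1
    · intro x hx
      refine f.mem_of_comm hz.1 (f.selfS hz.1) hx.1 ?_
      have h5 := hx.2 x (w.mem x hx.1)
      rw [h4] at h5
      exact h5.symm
    · intro x hx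
      refine f.mem_of_comm hz.1 hvz hx.1 ?_
      have h5 := hx.2 x (w.mem x hx.1)
      rw [h4] at h5
      exact h5.symm
    · subst h4
      exact (m2 z v hne hCS hall hone).elim

/-- **(F4)**: `C(h) ≤ M` -/
theorem cent_le (hz : z ∈ CS Z K (S : Subgroup G)) (hh : h ∈ TT Z K (S : Subgroup G)) (hh1 : h ≠ 1)
    (tp : TPS Z K (S : Subgroup G)) (m2 : MTwo Z K (S : Subgroup G)) (hg : g * h = h * g) : g ∈ f.MM hz.1 := by
  rw [f.mem_MM hz.1]
  refine f.om_sub w S hz hh hh1 tp m2 ⟨w.conjZ z hz.1 g, ?_⟩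
  have h1 : Cen K (g * h * g⁻¹) (g * z * g⁻¹) := w.cen_conj hz.1 g (w.TT_cen S.isPGroup' hz hh)
  rwa [hg, mul_inv_cancel_right] at h1

omit f w in
/-- Sylow's theorem in a subgroup containing a Sylow subgroup of `G` -/
theorem exists_conj_into {M D : Subgroup G} (hS : (S : Subgroup G) ≤ M) (hD : IsPGroup 2 D) (hDM : D ≤ M) :
    ∃ m ∈ M, ∀ d ∈ D, m * d * m⁻¹ ∈ (S : Subgroup G) := by
  have h1 := StdEven.Syl.isSyl_top_of_sylow S
  have h2 : StdEven.Syl.IsSyl (S : Subgroup G) M := ⟨hS, h1.two, fun X hX _ hSX => h1.max X hX le_top hSX⟩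
  exact h2.exists_conj hD hDM

omit [Finite G] f w in
theorem comm_aux {k b : G} (hbb : b * b = 1) (h1 : k * (b * k * b⁻¹) = b * k * b⁻¹ * k) :
    k * (b * k * b⁻¹) * b = b * (k * (b * k * b⁻¹)) := by
  have hbi : b⁻¹ = b := inv_eq_of_mul_eq_one_right hbb
  rw [hbi] at h1 ⊢
  calc k * (b * k * b) * b = k * b * k * (b * b) := by group
    _ = k * b * k := by rw [hbb, mul_one]
    _ = (k * (b * k * b)) * b := by
      calc k * b * k = k * b * k * (b * b) := by rw [hbb, mul_one]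
        _ = (k * (b * k * b)) * b := by group
    _ = b * k * b * k * b := by rw [h1]
    _ = b * (k * (b * k * b)) := by group

/-- **(F4)**: `g h g⁻¹ ∈ M` implies `g ∈ M` -/
theorem mem_MM_of_conj (hz : z ∈ CS Z K (S : Subgroup G)) (hh : h ∈ TT Z K (S : Subgroup G)) (hh1 : h ≠ 1)
    (tp : TPS Z K (S : Subgroup G)) (m2 : MTwo Z K (S : Subgroup G)) (hg : g * h * g⁻¹ ∈ f.MM hz.1) :
    g ∈ f.MM hz.1 := by
  by_contra hgn
  have hS := S.isPGroup'
  have hhh : h * h = 1 := w.TT_sq hS hh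
  -- we may assume `g h g⁻¹ ∈ S`
  have hzp : IsPGroup 2 (zpowers (g * h * g⁻¹)) := by
    have h1 : (g * h * g⁻¹) ^ 2 = 1 := by
      rw [pow_two]
      calc g * h * g⁻¹ * (g * h * g⁻¹) = g * (h * h) * g⁻¹ := by group
        _ = 1 := by rw [hhh]; group
    rw [IsPGroup.iff_card]
    rcases (Nat.dvd_prime Nat.prime_two).1 (orderOf_dvd_of_pow_eq_one h1) with h2 | h2
    · exact ⟨0, by rw [Nat.card_zpowers, h2, pow_zero]⟩
    · exact ⟨1, by rw [Nat.card_zpowers, h2, pow_one]⟩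
  obtain ⟨m, hm, hmS⟩ := exists_conj_into S (f.S_le w hS hz) hzp (by rw [zpowers_le]; exact hg)
  have hb : m * g * h * (m * g)⁻¹ ∈ (S : Subgroup G) := by
    have h1 := hmS _ (mem_zpowers _)
    have e : m * g * h * (m * g)⁻¹ = m * (g * h * g⁻¹) * m⁻¹ := by group
    rwa [e]
  have hgn' : m * g ∉ f.MM hz.1 := fun h1 => hgn (by
    have h2 := mul_mem (inv_mem hm) h1
    rwa [inv_mul_cancel_left] at h2)
  clear hgn hg hzp hmS
  generalize m * g = g at hb hgn'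
  set b := g * h * g⁻¹ with hbdef
  have hbb : b * b = 1 := by
    calc b * b = g * (h * h) * g⁻¹ := by rw [hbdef]; group
      _ = 1 := by rw [hhh]; group
  have hgz : g * z * g⁻¹ ∈ Z := w.conjZ z hz.1 g
  -- `C(b) ≤ M ^ g`
  have hCb : ∀ x, x * b = b * x → x ∈ f.MM hgz := by
    intro x hx
    have h1 : (g⁻¹ * x * g) * h = h * (g⁻¹ * x * g) := by
      calc (g⁻¹ * x * g) * h = g⁻¹ * (x * b) * g := by rw [hbdef]; group
        _ = g⁻¹ * (b * x) * g := by rw [hx]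
        _ = h * (g⁻¹ * x * g) := by rw [hbdef]; group
    have h2 := f.cent_le w S hz hh hh1 tp m2 h1
    rw [f.mem_MM hz.1] at h2
    rw [f.mem_MM hgz]
    have h3 := f.conj z hz.1 g _ h2
    have e : g * (g⁻¹ * x * g * z * (g⁻¹ * x * g)⁻¹) * g⁻¹ = x * (g * z * g⁻¹) * x⁻¹ := by group
    rwa [e] at h3
  -- different frames
  have hdis : ∀ y, y ∈ Sg z → y ∈ Sg (g * z * g⁻¹) → False := by
    intro y hy1 hy2
    apply hgn'
    rw [f.mem_MM hz.1, ← f.sgEq z hz.1 y hy1, f.sgEq _ hgz y hy2]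
    exact f.selfS hgz
  -- `b` commutes with no member of `S`
  have hmv : ∀ y ∈ CS Z K (S : Subgroup G), b * y * b⁻¹ ≠ y := by
    intro y hy he
    have h1 : y * b = b * y := (mul_inv_eq_iff_eq_mul.1 he).symm
    exact hdis y (f.cs_sub w hS hz hy) (f.mem_of_MM hgz hy.1 (hCb y h1))
  -- the Sylow subgroup `S'`
  have hgS : ((g • S : Sylow 2 G) : Subgroup G) = cj g (S : Subgroup G) := rfl
  have hzg : g * z * g⁻¹ ∈ CS Z K ((g • S : Sylow 2 G) : Subgroup G) := by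
    rw [hgS]
    exact (w.cj_CS g _ hz.1).2 hz
  have hDM : (S : Subgroup G) ⊓ centralizer {b} ≤ f.MM hgz := fun x hx =>
    hCb x (mem_centralizer_singleton_iff.1 (mem_inf.1 hx).2)
  obtain ⟨n, hn, hnS⟩ := exists_conj_into (g • S) (f.S_le w (g • S).isPGroup' hzg) (hS.to_le inf_le_left) hDM
  set S' : Sylow 2 G := n⁻¹ • (g • S) with hS'
  have hS'e : (S' : Subgroup G) = cj n⁻¹ ((g • S : Sylow 2 G) : Subgroup G) := rfl
  have hDS' : (S : Subgroup G) ⊓ centralizer {b} ≤ S' := by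
    intro x hx
    rw [hS'e, mem_cj, inv_inv]
    exact hnS x hx
  have hCS' : ∀ y ∈ CS Z K (S' : Subgroup G), y ∈ Sg (g * z * g⁻¹) := by
    intro y hy
    rw [hS'e] at hy
    have e : y = n⁻¹ * (n * y * n⁻¹) * n⁻¹⁻¹ := by group
    have hyZ : n * y * n⁻¹ ∈ Z := w.conjZ y hy.1 n
    rw [e] at hy
    have h1 := (w.cj_CS n⁻¹ _ hyZ).1 hy
    rw [e]
    exact f.mem_MM_conj hgz (inv_mem hn) (f.cs_sub w (g • S).isPGroup' hzg h1)
  -- members
  have hmem : ∀ L ∈ OmS (K '' Z) (S : Subgroup G), ∃ y ∈ CS Z K (S : Subgroup G), K y = L := by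
    rintro _ ⟨⟨y, hy, rfl⟩, h2⟩
    exact ⟨y, ⟨hy, Cfsg.Agent.Cit.ROne.le_of_OmS (w.two hy) hS (Om := K '' Z) ⟨⟨y, hy, rfl⟩, h2⟩⟩, rfl⟩
  have hmem' : ∀ L ∈ OmS (K '' Z) (S' : Subgroup G), ∃ y ∈ CS Z K (S' : Subgroup G), K y = L := by
    rintro _ ⟨⟨y, hy, rfl⟩, h2⟩
    exact ⟨y, ⟨hy, Cfsg.Agent.Cit.ROne.le_of_OmS (w.two hy) S'.isPGroup' (Om := K '' Z) ⟨⟨y, hy, rfl⟩, h2⟩⟩, rfl⟩
  have hKzz : ∀ y ∈ Z, zz (K y) = y := fun y hy => w.zz_K hy
  have M : Cfsg.Agent.Cit.ROne.Mv (K '' Z) S S' b :=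
    { hyp := w.hyp
      two := by
        rintro _ ⟨y, hy, rfl⟩
        exact w.two hy
      inj := by
        rintro _ ⟨y, hy, rfl⟩ _ ⟨y', hy', rfl⟩ he
        rw [hKzz y hy, hKzz y' hy'] at he
        rw [he]
      ne := ⟨K z, mem_OmS_of_le ⟨z, hz.1, rfl⟩ ⟨le_rfl, w.two hz.1, by rw [relIndex_self]; omega⟩ hz.2⟩
      mem := hb
      sq := hbb
      mv := by
        intro L hL he
        obtain ⟨y, hy, rfl⟩ := hmem L hL
        apply hmv y hy
        rw [← w.conjK y hy.1] at he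
        exact w.K_inj (w.conjZ y hy.1 b) hy.1 he
      le := by
        intro L hL k hk
        obtain ⟨y, hy, rfl⟩ := hmem L hL
        apply hDS'
        have hbk : b * k * b⁻¹ ∈ (S : Subgroup G) := mul_mem (mul_mem hb (hy.2 hk)) (inv_mem hb)
        refine mem_inf.2 ⟨mul_mem (hy.2 hk) hbk, mem_centralizer_singleton_iff.2 ?_⟩
        have hy' := f.cs_conj w hy hb
        have hcp := w.com hy.1 hy'.1 hS hy.2 hy'.2 (fun e => hmv y hy e.symm)
        have h1 : k * (b * k * b⁻¹) = b * k * b⁻¹ * k := hcp.2 k hk _ (w.conj_mem_K hy.1 b hk)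
        exact comm_aux hbb h1
      fx := by
        intro x hx hx1 L hL he
        obtain ⟨y, hy, rfl⟩ := hmem' L hL
        rw [← w.conjK y hy.1] at he
        have h1 : x * y * x⁻¹ = y := w.K_inj (w.conjZ y hy.1 x) hy.1 he
        have h2 : y * x = x * y := (mul_inv_eq_iff_eq_mul.1 h1).symm
        have hxT : x ∈ TT Z K (S : Subgroup G) := by
          have h3 : closure {x | ∃ L ∈ OmS (K '' Z) (S : Subgroup G), x = zz L * (b * zz L * b⁻¹)} ≤
              TT Z K (S : Subgroup G) := by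
            rw [closure_le]
            rintro _ ⟨L', hL', rfl⟩
            obtain ⟨y', hy', rfl⟩ := hmem L' hL'
            rw [hKzz y' hy'.1]
            exact mul_mem (subset_closure hy') (subset_closure (f.cs_conj w hy' hb))
          exact h3 hx
        have h3 := f.cent_le w S hz hxT hx1 tp m2 h2
        exact hdis y (f.mem_of_MM hz.1 hy.1 h3) (hCS' y hy) }
  exact M.false

end main

/-! ### The forms used in (F5) -/

section forms

variable [Finite G] (f : Fram Z K Sg Kl) (w : W Z K)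

theorem MM_eq (f : Fram Z K Sg Kl) (hz : z ∈ Z) (hu : u ∈ Sg z) : f.MM (f.mem_Z hz hu) = f.MM hz := by
  ext g
  rw [f.mem_MM hz, f.mem_MM (f.mem_Z hz hu), f.sgEq z hz u hu]
  constructor
  · intro h1
    exact f.mem_MM_of hz hu h1
  · intro h1
    exact f.mem_MM_conj hz h1 hu

/-- every Sylow subgroup contains a member -/
theorem cs_nonempty (w : W Z K) (hz : z ∈ Z) (S : Sylow 2 G) : ∃ u, u ∈ CS Z K (S : Subgroup G) := by
  obtain ⟨S₀, h0⟩ := w.exists_sylow hz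
  obtain ⟨g, rfl⟩ := MulAction.exists_smul_eq G S₀ S
  exact ⟨g * z * g⁻¹, (w.cj_CS g _ hz).2 h0⟩

include w

/-- a member of a Sylow subgroup of `M` -/
theorem exists_cs (hz : z ∈ Z) (S : Sylow 2 G) (hS : (S : Subgroup G) ≤ f.MM hz) :
    ∃ u, ∃ hu : u ∈ CS Z K (S : Subgroup G), u ∈ Sg z ∧ f.MM hu.1 = f.MM hz := by
  obtain ⟨u, hu⟩ := cs_nonempty w hz S
  have h1 : u ∈ Sg z := f.mem_of_MM hz hu.1 (hS (hu.2 (w.mem u hu.1)))
  exact ⟨u, hu, h1, f.MM_eq hz h1⟩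

/-- **(F4)**: `S ≤ M`, `s ∈ T_S`, `s ≠ 1`: `C(s) ≤ M` -/
theorem cen (hz : z ∈ Z) (S : Sylow 2 G) (hS : (S : Subgroup G) ≤ f.MM hz) (tp : TPS Z K (S : Subgroup G))
    (m2 : MTwo Z K (S : Subgroup G)) {s : G} (hs : s ∈ TT Z K (S : Subgroup G)) (hs1 : s ≠ 1) :
    centralizer {s} ≤ f.MM hz := by
  obtain ⟨u, hu, -, he⟩ := f.exists_cs w hz S hS
  rw [← he]
  exact fun g hg => f.cent_le w S hu hs hs1 tp m2 (mem_centralizer_singleton_iff.1 hg)

/-- **(F4)**: `S ≤ M`, `s ∈ T_S`, `s ≠ 1`, `g s g⁻¹ ∈ M`: `g ∈ M` -/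
theorem mem' (hz : z ∈ Z) (S : Sylow 2 G) (hS : (S : Subgroup G) ≤ f.MM hz) (tp : TPS Z K (S : Subgroup G))
    (m2 : MTwo Z K (S : Subgroup G)) {s : G} (hs : s ∈ TT Z K (S : Subgroup G)) (hs1 : s ≠ 1)
    (hg : g * s * g⁻¹ ∈ f.MM hz) : g ∈ f.MM hz := by
  obtain ⟨u, hu, -, he⟩ := f.exists_cs w hz S hS
  rw [← he] at hg ⊢
  exact f.mem_MM_of_conj w S hu hs hs1 tp m2 hg

omit [Finite G] in
/-- an element fusing an element of `Z ∩ M` into `M` lies in `M` -/
theorem mem_of_fus (hz : z ∈ Z) (hx : x ∈ Sg z) (hg : g * x * g⁻¹ ∈ f.MM hz) : g ∈ f.MM hz :=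
  f.mem_MM_of hz hx (f.mem_of_MM hz (w.conjZ x (f.mem_Z hz hx) g) hg)

/-- `S ≤ M` if `M` contains a member of `S` -/
theorem S_le_of_mem (hz : z ∈ Z) (S : Sylow 2 G) (hx : x ∈ Sg z) (hxS : K x ≤ (S : Subgroup G)) :
    (S : Subgroup G) ≤ f.MM hz := by
  rw [← f.MM_eq hz hx]
  exact f.S_le w S.isPGroup' ⟨f.mem_Z hz hx, hxS⟩

end forms

end Fram

end Cfsg.Agent.Cit.Nil.Comp
end

-- part: Cit/Nil/Comp/ProdTwo
section
/-!
# COMP, `r = 1`, the product situation: the case `m = 2` of (F4)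

* `zstar_mod` : Glauberman's Z*-theorem modulo a central involution;
* `Fram.mTwo` : `MTwo`, if `O(C(z₁ z₂)) = 1` for the C-pairs `z₁, z₂`.
-/

set_option autoImplicit false
set_option linter.style.haveILetI false
set_option linter.unusedSectionVars false

namespace Cfsg.Agent.Cit.Nil.Comp

open Subgroup Cfsg Cit Cfsg.Agent.Cit.Nil.ROne Cfsg.Agent.OddOrderLocal.NilParts
open Cfsg.Agent.Cit.Nil.AN (Om Cl OneC Ce Cm)

/-- Z* modulo a central involution `h` of a group without core -/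
theorem zstar_quot {X : Type*} [Group X] [Finite X] (hO : Cfsg.oddCore X = ⊥) {h z : X} (hc : h ∈ center X)
    (h2 : orderOf h = 2) (zz : z * z = 1) (z1 : z ≠ 1) (zh : z ≠ h)
    (iso : ∀ g : X, (z * (g * z * g⁻¹) = g * z * g⁻¹ * z ∨ z * (g * z * g⁻¹) = h * (g * z * g⁻¹ * z)) →
      g * z * g⁻¹ = z ∨ g * z * g⁻¹ = h * z) (g : X) : g * z * g⁻¹ = z ∨ g * z * g⁻¹ = h * z := by
  have hZc : zpowers h ≤ center X := by rw [zpowers_le]; exact hc
  haveI : (zpowers h).Normal := ⟨fun n hn g => by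
    have h3 := mem_center_iff.1 (hZc hn) g
    rw [h3, mul_inv_cancel_right]; exact hn⟩
  have hmem : ∀ x : X, x ∈ zpowers h → x = 1 ∨ x = h := by
    intro x hx
    obtain ⟨n, rfl⟩ := mem_zpowers_iff.1 hx
    have hhh : h * h = 1 := by rw [← pow_two, ← h2, pow_orderOf_eq_one]
    rcases Int.even_or_odd' n with ⟨k, rfl | rfl⟩
    · left
      rw [zpow_mul, zpow_two, hhh, one_zpow]
    · right
      rw [zpow_add, zpow_mul, zpow_two, hhh, one_zpow, one_mul, zpow_one]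
  have hmk : ∀ x y : X, (x : X ⧸ zpowers h) = (y : X ⧸ zpowers h) → x = y ∨ x = h * y := by
    intro x y hxy
    have h3 := hmem _ (QuotientGroup.eq.1 hxy.symm)
    rcases h3 with h3 | h3
    · left
      rw [inv_mul_eq_one] at h3
      exact h3.symm
    · right
      rw [inv_mul_eq_iff_eq_mul] at h3
      rw [h3]
      exact mem_center_iff.1 hc y
  have hQ := Cfsg.Agent.TwoFusion.QuatQuotient.oddCore_quotient_eq_bot hO h hc h2
  set zb : X ⧸ zpowers h := (z : X ⧸ zpowers h) with hzb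
  have zb1 : zb ≠ 1 := by
    intro h3
    rcases hmk z 1 h3 with h4 | h4
    · exact z1 h4
    · rw [mul_one] at h4
      exact zh h4
  have zb2 : zb * zb = 1 := by
    rw [hzb, ← QuotientGroup.mk_mul, zz]; rfl
  have hiso : Cfsg.IsIsolatedInvolution zb := by
    refine ⟨orderOf_eq_prime (by rw [pow_two]; exact zb2) zb1, ?_⟩
    intro gb hcm
    obtain ⟨g, rfl⟩ := QuotientGroup.mk_surjective gb
    have h3 : ((z * (g * z * g⁻¹) : X) : X ⧸ zpowers h) = ((g * z * g⁻¹ * z : X) : X ⧸ zpowers h) := hcm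
    have h4 : g * z * g⁻¹ = z ∨ g * z * g⁻¹ = h * z := iso g (hmk _ _ h3)
    have hh1 : ((h : X) : X ⧸ zpowers h) = 1 := by
      rw [QuotientGroup.eq_one_iff]; exact mem_zpowers h
    change ((g * z * g⁻¹ : X) : X ⧸ zpowers h) = zb
    rcases h4 with h4 | h4
    · rw [h4]
    · rw [h4, QuotientGroup.mk_mul, hh1, one_mul]
  have hI : Cfsg.Agent.Involutions.ZStar.Iso zb := by
    refine ⟨zb2, fun g => ?_⟩
    have h1 := Cfsg.Agent.TwoFusion.Isolated.odd_orderOf_conj_mul hiso g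
    have h2 : zb * (g * zb * g⁻¹) = zb * (g * zb * g⁻¹ * zb) * zb⁻¹ := by group
    rw [h2]
    have h3 := (MulAut.conj zb).orderOf_eq (g * zb * g⁻¹ * zb)
    rw [MulAut.conj_apply] at h3
    rw [h3]
    exact h1
  have h5 := Cfsg.Agent.S0215.iso_commutator zb hI (g : X ⧸ zpowers h)
  have h6 : pPrimeCore 2 (X ⧸ zpowers h) = ⊥ := hQ
  rw [h6, mem_bot] at h5
  have h7 : ((g * z * g⁻¹ : X) : X ⧸ zpowers h) = ((z : X) : X ⧸ zpowers h) := by
    change (g : X ⧸ zpowers h) * zb * (g : X ⧸ zpowers h)⁻¹ = zb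
    rw [mul_inv_eq_iff_eq_mul]
    rw [mul_inv_eq_one, mul_inv_eq_iff_eq_mul] at h5
    exact h5.symm
  exact hmk _ _ h7

variable {G : Type*} [Group G]

/-- Z* modulo an involution `h`, in `C(h)` -/
theorem zstar_mod [Finite G] {h z : G} (hh : h * h = 1) (h1 : h ≠ 1)
    (hO : ∀ N : Subgroup G, N ≤ centralizer {h} → centralizer {h} ≤ normalizer (N : Set G) → Odd (Nat.card N) →
      N = ⊥) (hz : z * h = h * z) (zz : z * z = 1) (z1 : z ≠ 1) (zh : z ≠ h)
    (iso : ∀ g : G, g * h = h * g → (z * (g * z * g⁻¹) = g * z * g⁻¹ * z ∨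
      z * (g * z * g⁻¹) = h * (g * z * g⁻¹ * z)) → g * z * g⁻¹ = z ∨ g * z * g⁻¹ = h * z) (g : G)
    (hg : g * h = h * g) : g * z * g⁻¹ = z ∨ g * z * g⁻¹ = h * z := by
  set X : Subgroup G := centralizer {h} with hX
  have hm : ∀ {x : G}, x ∈ X ↔ x * h = h * x := mem_centralizer_singleton_iff
  have hhX : h ∈ X := hm.2 rfl
  have hOX : Cfsg.oddCore X = ⊥ := by
    have h2 : (Cfsg.oddCore X).map X.subtype = ⊥ := by
      refine hO _ (map_subtype_le _) ?_ ?_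
      · intro x hx
        rw [mem_normalizer_iff]
        have key : ∀ y : G, y ∈ (Cfsg.oddCore X).map X.subtype → ∀ x ∈ X,
            x * y * x⁻¹ ∈ (Cfsg.oddCore X).map X.subtype := by
          rintro _ ⟨n, hn, rfl⟩ x hx
          exact ⟨⟨x, hx⟩ * n * ⟨x, hx⟩⁻¹,
            (Cfsg.Agent.Lib.Cores.pPrimeCore_normal 2 : (pPrimeCore 2 X).Normal).conj_mem n hn ⟨x, hx⟩, rfl⟩
        intro y
        constructor
        · exact fun hy => key y hy x hx
        · intro hy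
          have h3 := key _ hy x⁻¹ (inv_mem hx)
          have e : x⁻¹ * (x * y * x⁻¹) * x⁻¹⁻¹ = y := by group
          rwa [e] at h3
      · rw [card_map_of_injective X.subtype_injective]
        exact Nat.coprime_two_right.mp (Cfsg.Agent.Lib.Cores.pPrimeCore_coprime (G := X) 2)
    exact (map_eq_bot_iff_of_injective _ X.subtype_injective).mp h2
  have hc : (⟨h, hhX⟩ : X) ∈ center X := mem_center_iff.2 fun x => Subtype.ext (hm.1 x.2)
  have ho : orderOf (⟨h, hhX⟩ : X) = 2 := by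
    refine orderOf_eq_prime (Subtype.ext ?_) fun h3 => h1 (congrArg Subtype.val h3)
    rw [pow_two]; exact hh
  have h4 := zstar_quot hOX (z := (⟨z, hm.2 hz⟩ : X)) hc ho (Subtype.ext zz)
    (fun h3 => z1 (congrArg Subtype.val h3)) (fun h3 => zh (congrArg Subtype.val h3))
    (fun g hg' => by
      have h5 := iso g.1 (hm.1 g.2) (hg'.imp (fun e => congrArg Subtype.val e) fun e => congrArg Subtype.val e)
      exact h5.imp (fun e => Subtype.ext e) fun e => Subtype.ext e) ⟨g, hm.2 hg⟩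
  exact h4.imp (fun e => congrArg Subtype.val e) fun e => congrArg Subtype.val e

namespace Fram

variable {Z : Set G} {K : G → Subgroup G} {Sg Kl : G → Set G}

/-- **`m = 2`** -/
theorem mTwo [Finite G] (f : Fram Z K Sg Kl) (w : W Z K) (S : Sylow 2 G)
    (cf : ∀ z ∈ Z, ∀ u ∈ Z, CP K z u → ∀ N : Subgroup G, N ≤ centralizer {z * u} →
      centralizer {z * u} ≤ normalizer (N : Set G) → Odd (Nat.card N) → N = ⊥) : MTwo Z K (S : Subgroup G) := by
  intro z₁ z₂ hne hCS hall hone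
  have hS := S.isPGroup'
  have hz1 : z₁ ∈ CS Z K (S : Subgroup G) := by rw [hCS]; exact Or.inl rfl
  have hz2 : z₂ ∈ CS Z K (S : Subgroup G) := by rw [hCS]; exact Or.inr rfl
  have hcp := w.com hz1.1 hz2.1 hS hz1.2 hz2.2 hne
  have hcomm : z₁ * z₂ = z₂ * z₁ := w.comm_of_cp hz1.1 hz2.1 hcp
  have hzz1 := w.sq z₁ hz1.1
  have hzz2 := w.sq z₂ hz2.1
  set h := z₁ * z₂ with hh
  have h_ne : h ≠ 1 := w.cp_mul_ne hz2.1 hcp
  have hh2 : h * h = 1 := by
    rw [hh]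
    calc z₁ * z₂ * (z₁ * z₂) = z₁ * (z₂ * z₁) * z₂ := by group
      _ = z₁ * (z₁ * z₂) * z₂ := by rw [← hcomm]
      _ = (z₁ * z₁) * (z₂ * z₂) := by group
      _ = 1 := by rw [hzz1, hzz2, one_mul]
  have e1 : h * z₁ = z₂ := by rw [hcomm, mul_assoc, hzz1, mul_one]
  have e2 : h * z₂ = z₁ := by rw [hh, mul_assoc, hzz2, mul_one]
  have e3 : z₁ * h = z₂ := by rw [hh, ← mul_assoc, hzz1, one_mul]
  have hz1h : z₁ * h = h * z₁ := e3.trans e1.symm
  have hz1S : z₂ ∈ Sg z₁ := f.cs_sub w hS hz1 hz2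
  -- `z₂` is in another class
  have hn : z₂ ∉ Kl z₁ := by
    intro h3
    obtain ⟨s, hs, hsn⟩ := f.ex z₁ hz1.1
    obtain ⟨v, hv, hvS⟩ := f.meets w S hz1 hs
    have hvn : v ∉ Kl z₁ := fun h4 => hsn (by
      have h5 : s ∈ Kl v := f.kl_symm (f.mem_Z hz1.1 hs) hv
      rw [f.klEq z₁ hz1.1 v h4] at h5
      exact h5)
    rw [hCS] at hvS
    rcases hvS with rfl | rfl
    · exact hvn (f.self _ hz1.1)
    · exact hvn h3
  -- the main claim
  have key : ∀ c ∈ Sg z₁, Cen K h c → c = z₁ ∨ c = z₂ := by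
    intro c hc hch
    have hcZ := f.mem_Z hz1.1 hc
    have h3 : c ∈ CS Z K (S : Subgroup G) := by
      obtain ⟨v, hv, hvS⟩ := f.meets w S hz1 hc
      have hcv : c ∈ Kl v := f.kl_symm hcZ hv
      refine w.mem_CS_of_clique S hcZ fun y hy => ?_
      by_cases hyc : y = c
      · exact Or.inl hyc
      · right
        -- the element of `{z₁, z₂}` outside the class of `c`
        have main : ∀ a ∈ CS Z K (S : Subgroup G), ∀ b ∈ CS Z K (S : Subgroup G), h * b = a → c ∈ Kl a → b ∉ Kl a →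
            ∀ y, y = a ∨ y = b → y ≠ c → CP K y c := by
          intro a ha b hb hab hca hba y hy hyc
          have hcS : c ∈ Sg b := by
            rw [f.sgEq z₁ hz1.1 b (f.cs_sub w hS hz1 hb)]
            exact hc
          have h4 : CP K b c := f.cm b hb.1 c hcS fun h5 => hba (by
            have h6 : b ∈ Kl c := f.kl_symm hb.1 h5
            rwa [f.klEq a ha.1 c hca] at h6)
          rcases hy with rfl | rfl
          · have h5 : Cen K (h * b) c := hch.mul (w.cen_of_cp hb.1 h4.symm)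
            rw [hab] at h5
            exact w.csymm hcZ ha.1 (Ne.symm hyc) h5 |>.symm
          · exact h4
        rw [hCS] at hvS hy
        rcases hvS with rfl | rfl
        · exact main _ hz1 z₂ hz2 e2 hcv hn y hy hyc
        · refine main _ hz2 z₁ hz1 e1 hcv (fun h4 => hn (f.kl_symm hz2.1 h4)) y ?_ hyc
          exact hy.symm
    rw [hCS] at h3
    exact h3
  have inX : ∀ g : G, g * h = h * g → Cen K h (g * z₁ * g⁻¹) := by
    intro g hg
    have h3 := w.cen_conj hz1.1 g (show Cen K h z₁ from w.TT_cen hS hz1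
      (mul_mem (subset_closure hz1) (subset_closure hz2)))
    have e : g * h * g⁻¹ = h := by rw [hg, mul_inv_cancel_right]
    rwa [e] at h3
  -- Z*
  have inv : ∀ g : G, g * h = h * g → g * z₁ * g⁻¹ = z₁ ∨ g * z₁ * g⁻¹ = z₂ := by
    intro g hg
    rw [← e1]
    have hz1n : z₁ ≠ 1 := w.ne z₁ hz1.1
    have hz2n : z₂ ≠ 1 := w.ne z₂ hz2.1
    refine zstar_mod hh2 h_ne (cf z₁ hz1.1 z₂ hz2.1 hcp) hz1h hzz1 hz1n (fun h3 => hz2n ?_) ?_ g hg
    · rw [← e3, ← h3, hzz1]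
    · intro g hg h3
      rw [e1]
      have hcZ : g * z₁ * g⁻¹ ∈ Z := w.conjZ z₁ hz1.1 g
      refine key _ ?_ (inX g hg)
      apply f.f3 z₁ hz1.1 _ hcZ
      have hci : (g * z₁ * g⁻¹)⁻¹ = g * z₁ * g⁻¹ := w.inv hcZ
      rcases h3 with h3 | h3
      · rw [← h3, mul_inv_cancel_right]
        exact f.selfS hz1.1
      · have h4 : g * z₁ * g⁻¹ * z₁ = h * (z₁ * (g * z₁ * g⁻¹)) := by
          rw [h3, ← mul_assoc, hh2, one_mul]
        have h5 : g * z₁ * g⁻¹ * z₁ * (g * z₁ * g⁻¹)⁻¹ = z₂ := by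
          rw [h4, ← mul_assoc, e1, mul_assoc z₂, mul_inv_cancel, mul_one]
        rw [h5]
        exact hz1S
  have inv2 : ∀ g : G, g * h = h * g → g * z₂ * g⁻¹ = z₁ ∨ g * z₂ * g⁻¹ = z₂ := by
    intro g hg
    have h3 : g * z₂ * g⁻¹ = h * (g * z₁ * g⁻¹) := by
      rw [← e1]
      calc g * (h * z₁) * g⁻¹ = (g * h) * z₁ * g⁻¹ := by group
        _ = h * (g * z₁ * g⁻¹) := by rw [hg]; group
    rcases inv g hg with h4 | h4
    · right
      rw [h3, h4, e1]
    · left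
      rw [h3, h4, e2]
  -- `S ≤ C(h)`
  have hSX : (S : Subgroup G) ≤ centralizer {h} := by
    intro s hs
    rw [mem_centralizer_singleton_iff]
    have h3 := f.cs_conj w hz1 hs
    have h4 := f.cs_conj w hz2 hs
    rw [hCS] at h3 h4
    have inj : s * z₁ * s⁻¹ ≠ s * z₂ * s⁻¹ := fun h5 => hne (mul_left_cancel (mul_right_cancel h5))
    have h5 : s * h * s⁻¹ = h := by
      have e : s * h * s⁻¹ = (s * z₁ * s⁻¹) * (s * z₂ * s⁻¹) := by rw [hh]; group
      rw [e]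
      rcases h3 with h3 | h3 <;> rcases h4 with h4 | h4
      · exact absurd (h3.trans h4.symm) inj
      · rw [h3, h4]
      · rw [h3, h4, ← hcomm]
      · exact absurd (h3.trans h4.symm) inj
    rw [mul_inv_eq_iff_eq_mul] at h5
    exact h5
  -- `Om h = {z₁, z₂}`
  have hOm : ∀ c ∈ Om Z K h, c = z₁ ∨ c = z₂ := by
    intro c hc
    have hcX : K c ≤ centralizer {h} := fun k hk => mem_centralizer_singleton_iff.2 (hc.2 k hk).symm
    obtain ⟨m, hm, hmS⟩ := exists_conj_into S hSX (w.two hc.1) hcX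
    have h3 : m * c * m⁻¹ ∈ CS Z K (S : Subgroup G) := by
      refine ⟨w.conjZ c hc.1 m, ?_⟩
      rw [w.conjK c hc.1]
      intro x hx
      rw [mem_cj] at hx
      have h4 := hmS _ hx
      have e : m * (m⁻¹ * x * m) * m⁻¹ = x := by group
      rwa [e] at h4
    have hm' : m⁻¹ * h = h * m⁻¹ := by
      have h4 := mem_centralizer_singleton_iff.1 (inv_mem hm)
      exact h4
    have e : c = m⁻¹ * (m * c * m⁻¹) * m⁻¹⁻¹ := by group
    rw [hCS] at h3
    rcases h3 with h3 | h3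
    · rw [h3] at e
      rw [e]
      exact inv m⁻¹ hm'
    · have h3' : m * c * m⁻¹ = z₂ := h3
      rw [h3'] at e
      rw [e]
      exact inv2 m⁻¹ hm'
  -- the class of `z₁` in `C(h)` is `{z₁}`
  have hcl : ∀ c ∈ Cl Z K h z₁, c = z₁ := by
    intro c hc
    have hc' : Relation.ReflTransGen (AN.St Z K h) z₁ c := hc
    clear hc
    induction hc' with
    | refl => rfl
    | tail h3 h4 ih =>
      rw [ih] at h4
      rcases hOm _ h4.1 with h5 | h5
      · exact h5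
      · rw [h5] at h4
        exact absurd hcp.2 h4.2
  have hz2O : z₂ ∈ Om Z K h := ⟨hz2.1, w.TT_cen hS hz2 (mul_mem (subset_closure hz1) (subset_closure hz2))⟩
  exact hne (hcl z₂ (hall z₂ hz2O)).symm

end Fram

end Cfsg.Agent.Cit.Nil.Comp
end
end

-- part: Cit/Nil/Comp/ProdFrm
section
set_option linter.all false
open scoped Cfsg.Agent.FastGrp

/-!
# COMP, `r = 1`, the product situation: from frames (helper164's `Frm`) to `Fram`

`sgOf z` : the points of the frames containing `z`; `klOf z` : the class of `z`.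

* `Fram.of_frm` : `Fram Z K (sgOf Z K) (klOf Z K)` if every `z` lies in a frame and (F1), (F2), (F3) hold.
-/

set_option autoImplicit false
set_option linter.style.haveILetI false
set_option linter.unusedSectionVars false

namespace Cfsg.Agent.Cit.Nil.Comp

open Subgroup Cfsg Cit Cfsg.Agent.Cit.Nil.ROne Cfsg.Agent.OddOrderLocal.NilParts
open Cfsg.Agent.Cit.Nil.AN (Om Cl OneC Ce Cm)

variable {G : Type*} [Group G] {Z : Set G} {K : G → Subgroup G}

/-- the points of the frame of `z` -/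
def sgOf (Z : Set G) (K : G → Subgroup G) (z : G) : Set G :=
  {x | ∃ F, Frm Z K F ∧ (∃ A ∈ F, z ∈ A) ∧ ∃ B ∈ F, x ∈ B}

/-- the class of `z` in its frame -/
def klOf (Z : Set G) (K : G → Subgroup G) (z : G) : Set G := {x | ∃ F, Frm Z K F ∧ ∃ A ∈ F, z ∈ A ∧ x ∈ A}

theorem Fram.of_frm [Finite G] (h : W Z K) (fr : ∀ z ∈ Z, ∃ F, Frm Z K F ∧ ∃ A ∈ F, z ∈ A)
    (f1 : ∀ u ∈ Z, ∀ v ∈ Z, CP K u v → ∃ F, Frm Z K F ∧ (∃ A ∈ F, u ∈ A) ∧ ∃ B ∈ F, v ∈ B)
    (f2 : ∀ x ∈ Z, ∀ u ∈ Z, CP K u (x * u * x⁻¹) → ∃ F, Frm Z K F ∧ (∃ A ∈ F, u ∈ A) ∧ ∃ B ∈ F, x ∈ B)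
    (f3 : ∀ z ∈ Z, ∀ x ∈ Z, (∃ F, Frm Z K F ∧ (∃ A ∈ F, z ∈ A) ∧ ∃ B ∈ F, x * z * x⁻¹ ∈ B) →
      ∃ F, Frm Z K F ∧ (∃ A ∈ F, z ∈ A) ∧ ∃ B ∈ F, x ∈ B) :
    Fram Z K (sgOf Z K) (klOf Z K) := by
  refine ⟨?_, ?_, ?_, ?_, ?_, ?_, ?_, ?_, ?_, f1, f2, f3⟩
  · rintro z - x ⟨F, f, -, B, hB, hx⟩
    exact f.sub B hB hx
  · intro z hz
    obtain ⟨F, f, A, hA, hzA⟩ := fr z hz
    exact ⟨F, f, A, hA, hzA, hzA⟩
  · rintro z - x ⟨F, f, A, hA, hzA, hxA⟩
    exact ⟨F, f, ⟨A, hA, hzA⟩, A, hA, hxA⟩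
  · rintro z - u ⟨F, f, ⟨A, hA, hzA⟩, B, hB, huB⟩
    ext x
    constructor
    · rintro ⟨F', f', ⟨C, hC, huC⟩, D, hD, hxD⟩
      obtain ⟨rfl, -⟩ := f.uniq h f' hB hC huB huC
      exact ⟨F, f, ⟨A, hA, hzA⟩, D, hD, hxD⟩
    · rintro ⟨F', f', ⟨C, hC, hzC⟩, D, hD, hxD⟩
      obtain ⟨rfl, -⟩ := f.uniq h f' hA hC hzA hzC
      exact ⟨F, f, ⟨B, hB, huB⟩, D, hD, hxD⟩
  · rintro z - u ⟨F, f, A, hA, hzA, huA⟩
    ext x
    constructor
    · rintro ⟨F', f', C, hC, huC, hxC⟩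
      obtain ⟨rfl, rfl⟩ := f.uniq h f' hA hC huA huC
      exact ⟨F, f, A, hA, hzA, hxC⟩
    · rintro ⟨F', f', C, hC, hzC, hxC⟩
      obtain ⟨rfl, rfl⟩ := f.uniq h f' hA hC hzA hzC
      exact ⟨F, f, A, hA, huA, hxC⟩
  · rintro z - g u ⟨F, f, ⟨A, hA, hzA⟩, B, hB, huB⟩
    exact ⟨_, f.conj h g, ⟨_, ⟨A, hA, rfl⟩, ⟨z, hzA, rfl⟩⟩, _, ⟨B, hB, rfl⟩, ⟨u, huB, rfl⟩⟩
  · rintro z hz u ⟨F, f, ⟨A, hA, hzA⟩, B, hB, huB⟩ hn
    have hne : A ≠ B := by
      rintro rfl
      exact hn ⟨F, f, A, hA, hzA, huB⟩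
    exact (cp_iff h hz).2 (f.cm A hA B hB hne z hzA u huB)
  · intro z hz
    obtain ⟨F, f, A, hA, hzA⟩ := fr z hz
    obtain ⟨B, hB, hBA⟩ := f.other hA
    obtain ⟨b, hb⟩ := f.ne B hB
    refine ⟨b, ⟨F, f, ⟨A, hA, hzA⟩, B, hB, hb⟩, ?_⟩
    rintro ⟨F', f', C, hC, hzC, hbC⟩
    obtain ⟨rfl, rfl⟩ := f.uniq h f' hA hC hzA hzC
    exact hBA (f.disj h hB hA hb hbC)
  · intro z hz
    obtain ⟨F, f, A, hA, hzA⟩ := fr z hz
    obtain ⟨y, hyA, hyz, hn⟩ := f.exists_not_cm h hA hzA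
    exact ⟨z, ⟨F, f, A, hA, hzA, hzA⟩, y, ⟨F, f, A, hA, hzA, hyA⟩, Ne.symm hyz, fun h1 => hn h1.2⟩

/-- a class of a frame is `ONE` -/
theorem one_of_frm [Finite G] (h : W Z K) (tp : TP Z K) {F : Set (Set G)} (f : Frm Z K F) {A : Set G} (hA : A ∈ F)
    {x y v : G} (hx : x ∈ A) (hy : y ∈ A) (hv : v ∈ A) (hc : CP K x y) : Cen K (x * y) v := by
  obtain ⟨B, hB, hBA⟩ := f.other hA
  obtain ⟨b, hb⟩ := f.ne B hB
  have h1 : A ∈ NN Z K b := by rw [f.nn B hB b hb]; exact ⟨hA, hBA.symm⟩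
  obtain ⟨h2, h3, h4⟩ := NN_cl h h1 hx
  have h5 : OneC Z K b x := (TP.of_mem h tp (f.sub B hB hb) x h2).resolve_left h3
  exact h5 x (AN.cl_refl b x) y (by rw [← h4]; exact hy) hc.2 v (by rw [← h4]; exact hv)

/-- a class of the frame is `ONE` -/
theorem one_of_klOf [Finite G] (h : W Z K) (tp : TP Z K) {x y v : G} (hy : y ∈ klOf Z K x) (hv : v ∈ klOf Z K x)
    (hc : CP K x y) : Cen K (x * y) v := by
  obtain ⟨F, f, A, hA, hxA, hyA⟩ := hy
  obtain ⟨F', f', A', hA', hxA', hvA'⟩ := hv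
  obtain ⟨rfl, rfl⟩ := f.uniq h f' hA hA' hxA hxA'
  exact one_of_frm h tp f hA hxA hyA hvA' hc

/-- conjugation of classes -/
theorem klOf_conj [Finite G] (h : W Z K) {x z : G} (g : G) (hx : x ∈ klOf Z K z) :
    g * x * g⁻¹ ∈ klOf Z K (g * z * g⁻¹) := by
  obtain ⟨F, f, A, hA, hzA, hxA⟩ := hx
  exact ⟨_, f.conj h g, _, ⟨A, hA, rfl⟩, ⟨z, hzA, rfl⟩, ⟨x, hxA, rfl⟩⟩

end Cfsg.Agent.Cit.Nil.Comp
end

-- part: Cit/Nil/RG/TypeI
section
prune_inst 0x420100c00512200000018001022003c4292000002004b0001f140070206ce9c41a0070621f8600e1081102c64283c806813dc0159421000000a008a00411c01a014020002b008b000010016408007180c00000000000000000000000000041000000000000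
set_option linter.all false
open scoped Cfsg.Agent.FastGrp

/-!
# (6b), general `r`: pairs of type I (helper488)

`Ax t K y` : `t` acts on `K` as the element `y ∈ K` of order four.

* `TI.exists_ax`, `Ax.comm`, `Ax.y_comm`, `Ax.conj_u`, `Ax.conj_s`, `Ax.conj_y` : the relations of a pair of type I;
* `WR.move` : `u u'` moves the member `K` over `s` to another member, with axis `x x' y`;
* `WR.four` : three members over `s` and over `t`: exactly four members over `t`; `WR.noTI`.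
-/

set_option autoImplicit false
set_option linter.style.haveILetI false
set_option linter.unusedSectionVars false

namespace Cfsg.Agent.Cit.Nil.RG

open Subgroup Cfsg Cit QuaternionGroup
open Cfsg.Agent.Cit.Nil.ROne

variable {G : Type*} [Group G]

/-- `t` acts on `K` as the element `y` of order four -/
structure Ax (t : G) (K : Subgroup G) (y : G) : Prop where
  mem : y ∈ K
  sq : y * y = zz K
  act : ∀ k ∈ K, t * k * t⁻¹ = y * k * y⁻¹

namespace QE

open QEight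

/-- the square of `F p q` is conjugation by `x` -/
def Sqr (p q x : Q) : Prop := ∀ w : Q, F p q (F p q w) = x * w * x⁻¹

instance (p q x : Q) : Decidable (Sqr p q x) := by unfold Sqr; infer_instance

/-- `F p q` turns `u` by a quarter -/
def Rot (p q x u : Q) : Prop :=
  u * u = QuaternionGroup.a 2 → u ≠ x → u ≠ x⁻¹ → F p q u = u * x ∨ F p q u = u * x⁻¹

instance (p q x u : Q) : Decidable (Rot p q x u) := by unfold Rot; infer_instance

set_option maxRecDepth 100000 in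
theorem rt_aux : ∀ p q : Q, Ok p q → ∀ x : Q, x * x = QuaternionGroup.a 2 → Sqr p q x → ∀ u : Q, Rot p q x u := by
  decide +kernel

theorem rt (α : MulAut Q) (x : Q) (hx : x * x = QuaternionGroup.a 2) (h : ∀ w, α (α w) = x * w * x⁻¹) (u : Q)
    (hu : u * u = QuaternionGroup.a 2) (h1 : u ≠ x) (h2 : u ≠ x⁻¹) : α u = u * x ∨ α u = u * x⁻¹ := by
  have h3 := rt_aux _ _ (aut_ok α) x hx
  unfold Sqr Rot at h3
  rw [← funF α] at h3
  exact h3 h u hu h1 h2

end QE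

theorem Ax.comm {t y : G} {K : Subgroup G} (a : Ax t K y) : t * y = y * t := by
  have h1 := a.act y a.mem
  rw [mul_inv_cancel_right, mul_inv_eq_iff_eq_mul] at h1
  exact h1

theorem TI.exists_ax {Om : Set (Subgroup G)} {s t : G} (h : TI Om s t) {K : Subgroup G} (hK : K ∈ Ov Om s) :
    ∃ y, Ax t K y := by
  obtain ⟨y, hy, hyy, h1⟩ := h.2 K hK
  exact ⟨y, hy, by rw [hyy, hK.2], h1⟩

namespace WR

variable {Om : Set (Subgroup G)} {𝒦 𝒦' : Set (Subgroup G)} {K K' L L' M : Subgroup G}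
  {z x x' y y' g g' u u' v w a a' b k l r s t i p q c : G}

section

variable (h : WR Om)

include h

theorem Ax.ti_inn (hK : K ∈ Om) (a : Ax t K y) (hL : L ∈ Ov Om t) : cj y L = L :=
  h.h3 K hK L hL.1 y a.mem a.sq (by rw [hL.2]; exact a.comm.symm)

/-- two elements inducing the same automorphism -/
theorem Ax.uniq (hK : K ∈ Ov Om s) (a : Ax t K y) (a' : Ax t K y') : y' = y ∨ y' = s * y := by
  have h1 : y⁻¹ * y' = 1 ∨ y⁻¹ * y' = s := by
    refine h.Ov_central hK (mul_mem (inv_mem a.mem) a'.mem) fun k hk => ?_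
    have h2 : y * k * y⁻¹ = y' * k * y'⁻¹ := by rw [← a.act k hk, ← a'.act k hk]
    have h3 : k = y⁻¹ * y' * k * (y⁻¹ * y')⁻¹ := by
      calc k = y⁻¹ * (y * k * y⁻¹) * y := by group
        _ = y⁻¹ * (y' * k * y'⁻¹) * y := by rw [h2]
        _ = _ := by group
    nth_rw 2 [h3]; group
  rcases h1 with h1 | h1
  · left; rw [inv_mul_eq_one] at h1; exact h1.symm
  · right; rw [inv_mul_eq_iff_eq_mul] at h1; rw [h1, h.Ov_cen hK a.mem]

/-- the quarter turn -/
theorem Ax.conj_u (hK : K ∈ Ov Om s) (hL : L ∈ Ov Om t) (a : Ax t K y) (b : Ax s L x) (hu : u ∈ L) (huu : u * u = zz L)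
    (h1 : u ≠ x) (h2 : u ≠ x⁻¹) : y * u * y⁻¹ = u * x ∨ y * u * y⁻¹ = u * x⁻¹ := by
  have hc := Ax.ti_inn h hK.1 a hL
  have h3 := QE.rt (h.rho hL.1 hc) (h.e hL.1 ⟨x, b.mem⟩)
    (by rw [← h.e_mul hL.1 b.mem b.mem, ← h.e_z hL.1, h.e_eq hL.1]; exact b.sq) ?_ (h.e hL.1 ⟨u, hu⟩)
    (by rw [← h.e_mul hL.1 hu hu, ← h.e_z hL.1, h.e_eq hL.1]; exact huu) (by rw [Ne, h.e_eq hL.1]; exact h1)
    (by rw [← h.e_inv hL.1 b.mem, Ne, h.e_eq hL.1]; exact h2)
  · rw [h.rho_e, ← h.e_inv hL.1 b.mem, ← h.e_mul hL.1 hu b.mem, ← h.e_mul hL.1 hu (inv_mem b.mem), h.e_eq hL.1,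
      h.e_eq hL.1] at h3
    exact h3
  · intro p
    obtain ⟨k, hk, rfl⟩ := h.exists_e hL.1 p
    rw [h.rho_e, h.rho_e, ← h.e_inv hL.1 b.mem, ← h.e_mul hL.1 b.mem hk, ← h.e_mul hL.1 (mul_mem b.mem hk) (inv_mem b.mem),
      h.e_eq hL.1]
    calc y * (y * k * y⁻¹) * y⁻¹ = (y * y) * k * (y * y)⁻¹ := by group
      _ = x * k * x⁻¹ := by rw [a.sq, hK.2, b.act k hk]

/-- `u s u⁻¹ = s t` -/
theorem Ax.conj_s (hL : L ∈ Ov Om t) (b : Ax s L x) (hu : u ∈ L) (huu : u * u = zz L)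
    (h1 : u ≠ x) (h2 : u ≠ x⁻¹) : u * s * u⁻¹ = s * t := by
  obtain ⟨h3, -⟩ := h.anti hL.1 b.mem hu b.sq huu h1 h2
  have h4 := b.act u hu
  -- `s u s⁻¹ = x u x⁻¹ = t u`
  have h5 : x * u * x⁻¹ = t * u := by
    rw [mul_inv_eq_iff_eq_mul, mul_assoc t, h3, hL.2, ← mul_assoc, h.zz_sq (Ov_zz hL), one_mul]
  rw [h5] at h4
  have hui : u⁻¹ = t * u := by rw [h.inv_eq hL.1 hu huu, hL.2]
  have htu := h.Ov_cen hL hu
  -- `s u = t u s`
  have h6 : s * u = t * u * s := by rw [← h4]; group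
  have hss : ∀ p, t * (t * p) = p := fun p => by rw [← mul_assoc, h.zz_sq (Ov_zz hL), one_mul]
  have hst : s * t = t * s := by
    have h7 := b.act t (h.Ov_mem hL)
    rw [← h.Ov_cen hL b.mem, mul_inv_cancel_right, mul_inv_eq_iff_eq_mul] at h7
    exact h7
  rw [mul_inv_eq_iff_eq_mul, mul_assoc s t, htu, ← mul_assoc s, h6, htu]
  calc u * s = u * (t * t) * s := by rw [h.zz_sq (Ov_zz hL), mul_one]
    _ = u * t * (t * s) := by group
    _ = u * t * (s * t) := by rw [hst]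
    _ = u * t * s * t := by group

/-- `u y u⁻¹ = x^{±1} y` -/
theorem Ax.conj_y (hK : K ∈ Ov Om s) (hL : L ∈ Ov Om t) (a : Ax t K y) (b : Ax s L x) (hu : u ∈ L) (huu : u * u = zz L)
    (h1 : u ≠ x) (h2 : u ≠ x⁻¹) : u * y * u⁻¹ = x * y ∨ u * y * u⁻¹ = t * x * y := by
  have hxi : x⁻¹ = t * x := by rw [h.inv_eq hL.1 b.mem b.sq, hL.2]
  have h3 := Ax.conj_u h hK hL a b (inv_mem hu) (by
    rw [← _root_.mul_inv_rev, huu, hL.2, h.zz_inv (Ov_zz hL)]) (fun h4 => h2 (by rw [← h4, inv_inv]))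
    (fun h4 => h1 (inv_injective h4))
  -- `y u⁻¹ y⁻¹ = u⁻¹ x^±`
  rcases h3 with h3 | h3
  · left
    calc u * y * u⁻¹ = u * (y * u⁻¹ * y⁻¹) * y := by group
      _ = _ := by rw [h3]; group
  · right
    calc u * y * u⁻¹ = u * (y * u⁻¹ * y⁻¹) * y := by group
      _ = x⁻¹ * y := by rw [h3]; group
      _ = _ := by rw [hxi]

/-- an element off the axis -/
theorem exists_off (hL : L ∈ Om) (b : Ax s L x) : ∃ u ∈ L, u * u = zz L ∧ u ≠ x ∧ u ≠ x⁻¹ :=
  h.exists_anti hL b.mem b.sq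

/-- conjugation of `Ax` -/
theorem Ax.conj (hK : K ∈ Om) (a : Ax t K y) (g : G) : Ax (g * t * g⁻¹) (cj g K) (g * y * g⁻¹) where
  mem := conj_mem_cj a.mem
  sq := by
    rw [h.zcj hK]
    calc g * y * g⁻¹ * (g * y * g⁻¹) = g * (y * y) * g⁻¹ := by group
      _ = _ := by rw [a.sq]
  act := by
    rintro _ ⟨k, hk, rfl⟩
    change g * t * g⁻¹ * (g * k * g⁻¹) * (g * t * g⁻¹)⁻¹ = g * y * g⁻¹ * (g * k * g⁻¹) * (g * y * g⁻¹)⁻¹
    calc g * t * g⁻¹ * (g * k * g⁻¹) * (g * t * g⁻¹)⁻¹ = g * (t * k * t⁻¹) * g⁻¹ := by group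
      _ = g * (y * k * y⁻¹) * g⁻¹ := by rw [a.act k hk]
      _ = _ := by group

/-- **moving the members over `s`** by `u u'` -/
theorem move (hti : TI Om s t) (hK : K ∈ Ov Om s) (hL : L ∈ Ov Om t) (hL' : L' ∈ Ov Om t) (hne : L ≠ L')
    (h3 : ∃ L'' ∈ Ov Om t, L'' ≠ L ∧ L'' ≠ L') (a : Ax t K y) (b : Ax s L x) (b' : Ax s L' x')
    (hu : u ∈ L) (huu : u * u = zz L) (h1 : u ≠ x) (h2 : u ≠ x⁻¹)
    (hu' : u' ∈ L') (huu' : u' * u' = zz L') (h1' : u' ≠ x') (h2' : u' ≠ x'⁻¹) :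
    (u * u') * s = s * (u * u') ∧ (u * u') * t = t * (u * u') ∧ (u * u') * (u * u') = 1 ∧
      cj (u * u') K ∈ Ov Om s ∧ cj (u * u') K ≠ K ∧
      ((u * u') * y * (u * u')⁻¹ = x * x' * y ∨ (u * u') * y * (u * u')⁻¹ = t * (x * x') * y) := by
  have ht := Ov_zz hL
  have htt := h.zz_sq ht
  have hst : s * t = t * s := by
    have h7 := b.act t (h.Ov_mem hL)
    rw [← h.Ov_cen hL b.mem, mul_inv_cancel_right, mul_inv_eq_iff_eq_mul] at h7
    exact h7
  have ha := Ax.conj_s h hL b hu huu h1 h2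
  have ha' := Ax.conj_s h hL' b' hu' huu' h1' h2'
  have htu := h.Ov_cen hL hu
  have htu' := h.Ov_cen hL' hu'
  have huu2 : u * u' = u' * u := h.Ov_comm hL hL' hne hu hu'
  have hs : (u * u') * s = s * (u * u') := by
    have h4 : (u * u') * s * (u * u')⁻¹ = s := by
      calc (u * u') * s * (u * u')⁻¹ = u * (u' * s * u'⁻¹) * u⁻¹ := by group
        _ = u * (s * t) * u⁻¹ := by rw [ha']
        _ = (u * s * u⁻¹) * (u * t * u⁻¹) := by group
        _ = s * t * t := by rw [ha, ← htu, mul_inv_cancel_right]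
        _ = s := by rw [mul_assoc, htt, mul_one]
    rwa [mul_inv_eq_iff_eq_mul] at h4
  have ht' : (u * u') * t = t * (u * u') := by rw [mul_assoc, ← htu', ← mul_assoc, ← htu, mul_assoc]
  have hsq : (u * u') * (u * u') = 1 := by
    calc (u * u') * (u * u') = u * (u' * u) * u' := by group
      _ = u * (u * u') * u' := by rw [huu2]
      _ = (u * u) * (u' * u') := by group
      _ = 1 := by rw [huu, huu', hL.2, hL'.2, htt]
  have hy : (u * u') * y * (u * u')⁻¹ = x * x' * y ∨ (u * u') * y * (u * u')⁻¹ = t * (x * x') * y := by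
    have c1 := Ax.conj_y h hK hL a b hu huu h1 h2
    have c2 := Ax.conj_y h hK hL' a b' hu' huu' h1' h2'
    have e1 : (u * u') * y * (u * u')⁻¹ = u * (u' * y * u'⁻¹) * u⁻¹ := by group
    have e2 : u * x' * u⁻¹ = x' := by
      rw [h.Ov_comm hL hL' hne hu b'.mem, mul_inv_cancel_right]
    have e3 : x' * x = x * x' := (h.Ov_comm hL hL' hne b.mem b'.mem).symm
    have e4 : u * t * u⁻¹ = t := by rw [← htu, mul_inv_cancel_right]
    have e5 : x' * t = t * x' := (h.Ov_cen hL' b'.mem).symm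
    rw [e1]
    rcases c2 with c2 | c2 <;> rcases c1 with c1 | c1 <;> rw [c2]
    · left
      calc u * (x' * y) * u⁻¹ = (u * x' * u⁻¹) * (u * y * u⁻¹) := by group
        _ = x' * (x * y) := by rw [e2, c1]
        _ = _ := by rw [← mul_assoc, e3]
    · right
      calc u * (x' * y) * u⁻¹ = (u * x' * u⁻¹) * (u * y * u⁻¹) := by group
        _ = x' * (t * x * y) := by rw [e2, c1]
        _ = (x' * t) * x * y := by group
        _ = t * (x' * x) * y := by rw [e5]; group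
        _ = _ := by rw [e3]
    · right
      calc u * (t * x' * y) * u⁻¹ = (u * t * u⁻¹) * (u * x' * u⁻¹) * (u * y * u⁻¹) := by group
        _ = t * x' * (x * y) := by rw [e2, e4, c1]
        _ = t * (x' * x) * y := by group
        _ = _ := by rw [e3]
    · left
      calc u * (t * x' * y) * u⁻¹ = (u * t * u⁻¹) * (u * x' * u⁻¹) * (u * y * u⁻¹) := by group
        _ = t * x' * (t * x * y) := by rw [e2, e4, c1]
        _ = t * (x' * t) * x * y := by group
        _ = (t * t) * (x' * x) * y := by rw [e5]; group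
        _ = _ := by rw [e3, htt, one_mul]
  refine ⟨hs, ht', hsq, h.Ov_cj' hK hs, ?_, hy⟩
  intro hKK
  -- `g y g⁻¹ = y^{±1}`, so `x x' ∈ {1, s, t, st}`
  have a' := Ax.conj h hK.1 a (u * u')
  rw [ht', mul_inv_cancel_right, hKK] at a'
  have h4 := Ax.uniq h hK a a'
  have h5 : ∃ e, (e = 1 ∨ e = s) ∧ ∃ f, (f = 1 ∨ f = t) ∧ f * (x * x') = e := by
    rcases h4 with h4 | h4 <;> rcases hy with hy | hy <;> rw [h4] at hy
    · refine ⟨1, Or.inl rfl, 1, Or.inl rfl, ?_⟩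
      rw [one_mul]
      have h6 : 1 * y = x * x' * y := by rw [one_mul]; exact hy
      exact (mul_right_cancel h6).symm
    · refine ⟨1, Or.inl rfl, t, Or.inr rfl, ?_⟩
      have h6 : 1 * y = t * (x * x') * y := by rw [one_mul]; exact hy
      exact (mul_right_cancel h6).symm
    · exact ⟨s, Or.inr rfl, 1, Or.inl rfl, by rw [one_mul]; exact (mul_right_cancel hy).symm⟩
    · exact ⟨s, Or.inr rfl, t, Or.inr rfl, (mul_right_cancel hy).symm⟩
  obtain ⟨e, he, f, hf, h6⟩ := h5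
  have hfc : ∀ M ∈ Ov Om t, ∀ m ∈ M, f * m = m * f := by
    intro M hM m hm
    rcases hf with rfl | rfl
    · rw [one_mul, mul_one]
    · exact h.Ov_cen hM hm
  rcases he with rfl | rfl
  · -- `x x' = f⁻¹` centralises `L`
    refine h.four_nc hL b.mem (by rw [b.sq, hL.2]) fun l hl => ?_
    have c1 := h.Ov_comm hL' hL hne.symm b'.mem hl
    have c3 := hfc L hL l hl
    have h7 : f * (x * l) * x' = f * (l * x) * x' := by
      calc f * (x * l) * x' = (f * (x * x')) * l := by rw [mul_assoc f, mul_assoc x, ← c1]; group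
        _ = l * (f * (x * x')) := by rw [h6]; group
        _ = (l * f) * x * x' := by group
        _ = f * (l * x) * x' := by rw [← c3]; group
    exact mul_left_cancel (mul_right_cancel h7)
  · obtain ⟨L'', hL'', hn1, hn2⟩ := h3
    obtain ⟨x'', b''⟩ := (show TI Om t e from ⟨hti.2, hti.1⟩).exists_ax hL''
    refine h.four_nc hL'' b''.mem (by rw [b''.sq, hL''.2]) fun l hl => ?_
    have h7 := b''.act l hl
    have h8 : e * l = l * e := by
      rw [← h6]
      have c1 := h.Ov_comm hL hL'' hn1.symm b.mem hl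
      have c2 := h.Ov_comm hL' hL'' hn2.symm b'.mem hl
      calc f * (x * x') * l = f * x * (x' * l) := by group
        _ = f * (x * l) * x' := by rw [c2]; group
        _ = (f * l) * x * x' := by rw [c1]; group
        _ = l * (f * (x * x')) := by rw [hfc L'' hL'' l hl]; group
    rw [h8, mul_inv_cancel_right] at h7
    rw [← mul_inv_eq_iff_eq_mul, ← h7]

end

end WR

end Cfsg.Agent.Cit.Nil.RG
end

-- part: Cit/Nil/CV/Base
section
prune_inst 0x420104800712200000000001020003c6282000000000b0001b1400702068f9c0080420620fa200e0000002004003c004813dc00500010000000000000011c01a010020000b008a000000016008007180c00000000000000000000000000041000000000000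
set_option linter.all false
open scoped Cfsg.Agent.FastGrp

/-!
# (6b)(CV): the common base (core-free world)

`CVW Om U` : `HYP(G,Om)`, all members are 2-groups (`O(C(t)) = 1` and 2-nilpotent), `U K = V_K` is the canonical cyclic subgroup
of order four.  `WW Om U T` = the subgroup generated by the `V_K ≤ T`; `IsA Om U A` : `A = WW Om U S`, `S` Sylow.
`RR Om U A` = the roots: the generators `v` of the `V_K ≤ A`.  `al Om U v a : ZMod 4` : `y a y⁻¹ = a v^(-al v a)`, `y ∈ K \ X_K`.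

WARNING: `al v w = al w v` is false in general (`W(G2)` modulo 4); see bb R18 (helper748, 04:09Z).
-/

set_option autoImplicit false
set_option linter.style.haveILetI false
set_option linter.unusedSectionVars false

namespace Cfsg.Agent.Cit.CV

open Subgroup Cfsg Cit Tau

variable {G : Type*} [Group G]

/-! ### Powers with exponents in `ZMod 4` -/

section pw

variable {v g : G}

/-- `v ^ n`, `n : ZMod 4` -/
def pw (v : G) (n : ZMod 4) : G := v ^ n.val

@[simp] theorem pw_zero : pw v 0 = 1 := by simp [pw]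

@[simp] theorem pw_one : pw v 1 = v := by
  have : (1 : ZMod 4).val = 1 := rfl
  rw [pw, this, pow_one]

theorem pw_two : pw v 2 = v * v := by
  have : (2 : ZMod 4).val = 2 := rfl
  rw [pw, this, pow_two]

theorem pw_add (hv : orderOf v = 4) (m n : ZMod 4) : pw v (m + n) = pw v m * pw v n := by
  rw [pw, pw, pw, ← pow_add, ZMod.val_add]
  have h1 := pow_mod_orderOf v (m.val + n.val)
  rwa [hv] at h1

theorem pw_neg (hv : orderOf v = 4) (n : ZMod 4) : pw v (-n) = (pw v n)⁻¹ :=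
  eq_inv_of_mul_eq_one_left (by rw [← pw_add hv, neg_add_cancel, pw_zero])

theorem pw_mem {H : Subgroup G} (h : v ∈ H) (n : ZMod 4) : pw v n ∈ H := H.pow_mem h _

theorem conj_pw (g v : G) (n : ZMod 4) : g * pw v n * g⁻¹ = pw (g * v * g⁻¹) n := by
  rw [pw, pw, conj_pow]

theorem pw_inj (hv : orderOf v = 4) {m n : ZMod 4} (h : pw v m = pw v n) : m = n := by
  rw [pw, pw, pow_inj_mod, hv, Nat.mod_eq_of_lt (ZMod.val_lt m), Nat.mod_eq_of_lt (ZMod.val_lt n)] at h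
  exact ZMod.val_injective 4 h

theorem pw_inv (hv : orderOf v = 4) (n : ZMod 4) : pw v⁻¹ n = pw v (-n) := by
  rw [pw_neg hv, pw, pw, inv_pow]

theorem pw_neg_one (hv : orderOf v = 4) : pw v (-1) = v⁻¹ := by rw [pw_neg hv, pw_one]

theorem exists_pw [Finite G] (hv : orderOf v = 4) {x : G} (hx : x ∈ zpowers v) : ∃ n, x = pw v n := by
  obtain ⟨k, hk⟩ := (isOfFinOrder_of_finite v).mem_powers_iff_mem_zpowers.mpr hx
  refine ⟨(k : ZMod 4), ?_⟩
  have hk' : v ^ k = x := hk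
  rw [pw, ZMod.val_natCast, ← hk']
  conv_rhs => rw [← hv]
  rw [pow_mod_orderOf]

theorem pw_comm {a : G} (h : a * v = v * a) (n : ZMod 4) : a * pw v n = pw v n * a :=
  (Commute.pow_right (show Commute a v from h) _).eq

theorem pw_pw_comm (m n : ZMod 4) : pw v m * pw v n = pw v n * pw v m :=
  ((Commute.refl v).pow_pow _ _).eq

theorem sq_pw (hv : orderOf v = 4) (n : ZMod 4) : pw v n * pw v n = pw v (2 * n) := by
  rw [← pw_add hv, two_mul]

end pw

/-! ### The world -/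

/-- the core-free world (CV) -/
structure CVW (Om : Set (Subgroup G)) (U : Subgroup G → Subgroup G) : Prop where
  hyp : Hyp Om
  two : ∀ K ∈ Om, IsPGroup 2 K
  vch : VChoice Om U
  eqc : ∀ K ∈ Om, ∀ L ∈ Om, Nat.card K = Nat.card L

/-- the roots in `A` -/
def RR (Om : Set (Subgroup G)) (U : Subgroup G → Subgroup G) (A : Subgroup G) : Set G :=
  {v | v ∈ A ∧ orderOf v = 4 ∧ ∃ K ∈ Om, v ∈ U K}

/-- the subgroup generated by the `V_K ≤ T` -/
def WW (Om : Set (Subgroup G)) (U : Subgroup G → Subgroup G) (T : Subgroup G) : Subgroup G :=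
  closure (RR Om U T)

/-- `A = W(S)` for a Sylow 2-subgroup `S` -/
def IsA (Om : Set (Subgroup G)) (U : Subgroup G → Subgroup G) (A : Subgroup G) : Prop :=
  ∃ S : Sylow 2 G, A = WW Om U S

theorem RR_eq (Om : Set (Subgroup G)) (U : Subgroup G → Subgroup G) (A : Subgroup G) :
    RR Om U A = VChoice.VV Om U ∩ A := by
  ext v
  constructor
  · rintro ⟨h1, h2, h3⟩; exact ⟨⟨h2, h3⟩, h1⟩
  · rintro ⟨⟨h2, h3⟩, h1⟩; exact ⟨h1, h2, h3⟩

variable {Om : Set (Subgroup G)} {U : Subgroup G → Subgroup G} {A K L : Subgroup G} {a b g s v w x y : G}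

theorem RR_mono {S T : Subgroup G} (h : S ≤ T) : RR Om U S ⊆ RR Om U T := fun _ hv => ⟨h hv.1, hv.2⟩

theorem WW_mono {S T : Subgroup G} (h : S ≤ T) : WW Om U S ≤ WW Om U T := closure_mono (RR_mono h)

theorem WW_le (T : Subgroup G) : WW Om U T ≤ T := (closure_le _).mpr fun _ hv => hv.1

/-- the roots of `WW T` are the roots of `T` -/
theorem RR_WW (T : Subgroup G) : RR Om U (WW Om U T) = RR Om U T :=
  Set.Subset.antisymm (RR_mono (WW_le T)) fun _ hv => ⟨subset_closure hv, hv.2⟩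

theorem WW_WW (T : Subgroup G) : WW Om U (WW Om U T) = WW Om U T := by
  rw [WW, RR_WW, ← WW]

namespace CVW

variable [Finite G]

theorem oo (h : CVW Om U) (hK : K ∈ Om) : OO K = ⊥ := OO_eq_bot_of_two (h.two K hK)

theorem mem_OmS_self (_h : CVW Om U) (hK : K ∈ Om) : K ∈ OmS Om K := ⟨hK, by rw [relIndex_self]; omega⟩

theorem U_eq (h : CVW Om U) (hK : K ∈ Om) (hv : v ∈ U K) (hv4 : orderOf v = 4) : U K = zpowers v := by
  apply (Subgroup.eq_of_le_of_card_ge (zpowers_le.2 hv) _).symm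
  rw [Nat.card_zpowers, hv4, h.vch.card K hK, h.oo hK, card_bot]

theorem exists_pw_U (h : CVW Om U) (hK : K ∈ Om) (hv : v ∈ U K) (hv4 : orderOf v = 4) (hx : x ∈ U K) :
    ∃ n, x = pw v n := by
  rw [h.U_eq hK hv hv4] at hx
  exact exists_pw hv4 hx

theorem sq_eq (h : CVW Om U) (hK : K ∈ Om) (hv : v ∈ U K) (hv4 : orderOf v = 4) : v * v = zz K :=
  h.vch.sq_eq h.hyp hK hv hv4

theorem pw_two_eq (h : CVW Om U) (hK : K ∈ Om) (hv : v ∈ U K) (hv4 : orderOf v = 4) : pw v 2 = zz K := by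
  rw [pw_two, h.sq_eq hK hv hv4]

theorem eq_or_inv (h : CVW Om U) (hK : K ∈ Om) (hv : v ∈ U K) (hv4 : orderOf v = 4) (hw : w ∈ U K)
    (hw4 : orderOf w = 4) : w = v ∨ w = v⁻¹ :=
  eq_or_eq_inv_of_four hv4 hw4 (by rw [← h.U_eq hK hv hv4]; exact hw)

theorem mem_XX_iff (h : CVW Om U) (hK : K ∈ Om) (hv : v ∈ U K) (hv4 : orderOf v = 4) (hx : x ∈ K) :
    x ∈ XX U K ↔ x * v = v * x :=
  mem_XX_T h.hyp h.vch (h.two K hK) hK hv (h.vch.le K hK hv) hv4 hx hx

/-- coordinates: `c` generates `XX U K`, `c ^ 2 ^ n` generates `U K` -/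
theorem exists_coord (h : CVW Om U) (hK : K ∈ Om) : ∃ c y n, GQ K c y (zz K) n ∧ c ^ 2 ^ n ∈ U K ∧
    orderOf (c ^ 2 ^ n) = 4 ∧ c ∈ XX U K ∧ y ∉ XX U K ∧ ∀ x ∈ XX U K, ∃ i : ℕ, x = c ^ i := by
  obtain ⟨c, y, n, hc, hcU⟩ := Tau.exists_coord h.hyp h.vch (h.two K hK) (h.mem_OmS_self hK)
  have hc' := hc
  rw [inf_idem] at hc'
  have hw : c ^ 2 ^ n * c ^ 2 ^ n = zz K := by rw [← pow_add, ← two_mul, ← pow_succ', hc.z_eq]
  have hw4 : orderOf (c ^ 2 ^ n) = 4 := GQ.orderOf_of_sq hw hc.z_mul hc.z_ne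
  refine ⟨c, y, n, hc', hcU, hw4, ?_, v_not_mem_XX h.hyp h.vch (h.two K hK) (h.mem_OmS_self hK) hc hcU, ?_⟩
  · rw [mem_XX_coord h.hyp h.vch (h.two K hK) (h.mem_OmS_self hK) hc hcU hc.c_mem]
    exact ⟨1, by simp⟩
  · intro x hx
    exact (mem_XX_coord h.hyp h.vch (h.two K hK) (h.mem_OmS_self hK) hc hcU ⟨XX_le K hx, XX_le K hx⟩).mp hx

theorem exists_y (h : CVW Om U) (hK : K ∈ Om) : ∃ y ∈ K, y ∉ XX U K := by
  obtain ⟨c, y, n, hc, -, -, -, hy, -⟩ := h.exists_coord hK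
  exact ⟨y, hc.v_mem, hy⟩

theorem exists_v (h : CVW Om U) (hK : K ∈ Om) : ∃ v ∈ U K, orderOf v = 4 := h.vch.ex K hK

/-- elements of `K` outside `XX U K` -/
theorem y_facts (h : CVW Om U) (hK : K ∈ Om) (hy : y ∈ K) (hyX : y ∉ XX U K) :
    y * y = zz K ∧ orderOf y = 4 ∧ ∀ x ∈ XX U K, y * x * y⁻¹ = x⁻¹ := by
  obtain ⟨c, v, n, hc, hcU, hw4, hcX, hvX, hcov⟩ := h.exists_coord hK
  rcases hc.cov y hy with ⟨i, rfl⟩ | ⟨i, rfl⟩
  · exact absurd ((XX U K).pow_mem hcX i) hyX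
  · refine ⟨hc.sq_out i, hc.orderOf_out i, fun x hx => ?_⟩
    obtain ⟨j, rfl⟩ := hcov x hx
    calc v * c ^ i * c ^ j * (v * c ^ i)⁻¹ = v * (c ^ i * c ^ j * (c ^ i)⁻¹) * v⁻¹ := by group
      _ = v * c ^ j * v⁻¹ := by rw [((Commute.refl c).pow_pow i j).eq, mul_inv_cancel_right]
      _ = (c ^ j)⁻¹ := by rw [hc.conj_pow]; group

theorem U_le_XX (h : CVW Om U) (hK : K ∈ Om) : U K ≤ XX U K := by
  obtain ⟨v, hv, hv4⟩ := h.exists_v hK
  intro x hx
  obtain ⟨n, rfl⟩ := h.exists_pw_U hK hv hv4 hx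
  rw [h.mem_XX_iff hK hv hv4 (h.vch.le K hK hx)]
  exact (pw_comm rfl n).symm

theorem y_inv (h : CVW Om U) (hK : K ∈ Om) (hy : y ∈ K) (hyX : y ∉ XX U K) (hv : v ∈ U K) :
    y * v * y⁻¹ = v⁻¹ := (h.y_facts hK hy hyX).2.2 v (h.U_le_XX hK hv)

/-- an element of order four lies in at most one `U K` -/
theorem eq_of_mem (h : CVW Om U) (hK : K ∈ Om) (hL : L ∈ Om) (hv : v ∈ U K) (hvL : v ∈ U L)
    (hv4 : orderOf v = 4) : K = L := by
  by_contra hne
  have hz : zz K = zz L := by rw [← h.sq_eq hK hv hv4, h.sq_eq hL hvL hv4]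
  obtain ⟨y, hy, hyX⟩ := h.exists_y hK
  rcases h.hyp.h2 K hK L hL hz with h1 | h1
  · exact hne h1
  · have h2 : y * v * y⁻¹ * v⁻¹ ∈ OO K := (h1 (commutator_mem_commutator hy (h.vch.le L hL hvL))).1
    rw [h.oo hK, mem_bot, h.y_inv hK hy hyX hv] at h2
    have h3 : v * v = 1 := by
      have : v⁻¹ * v⁻¹ = (v * v)⁻¹ := by group
      rw [this, inv_eq_one] at h2
      exact h2
    rw [h.sq_eq hK hv hv4] at h3
    exact h.hyp.zz_ne hK h3

/-- members over the same involution commute -/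
theorem comm_of_zz_eq (h : CVW Om U) (hK : K ∈ Om) (hL : L ∈ Om) (hz : zz K = zz L) (hne : K ≠ L)
    (ha : a ∈ K) (hb : b ∈ L) : a * b = b * a := by
  rcases h.hyp.h2 K hK L hL hz with h1 | h1
  · exact absurd h1 hne
  · have h2 : a * b * a⁻¹ * b⁻¹ ∈ OO K := (h1 (commutator_mem_commutator ha hb)).1
    rwa [h.oo hK, mem_bot, mul_inv_eq_one, mul_inv_eq_iff_eq_mul] at h2

/-- `g` normalising `U K` normalises `K` -/
theorem norm_of_norm_U (h : CVW Om U) (hK : K ∈ Om) (hv : v ∈ U K) (hv4 : orderOf v = 4)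
    (hg : g * v * g⁻¹ ∈ U K) : g ∈ normalizer (K : Set G) := by
  rw [mem_normalizer_iff_cj]
  exact h.eq_of_mem (h.hyp.conj K hK g) hK (h.vch.conj_mem hK hv g) hg (orderOf_conj_four hv4 g)

/-- `(H3)` -/
theorem norm_h3 (h : CVW Om U) (hK : K ∈ Om) (hL : L ∈ Om) (hy : y ∈ K) (h4 : 4 ≤ orderOf y)
    (hc : y * zz L = zz L * y) : y ∈ normalizer (L : Set G) :=
  h.hyp.norm_four (h.two K hK) hK hL hy hy h4 hc

/-- `g` normalising `K` -/
theorem conj_or (h : CVW Om U) (hK : K ∈ Om) (hg : g ∈ normalizer (K : Set G)) (hv : v ∈ U K) (hv4 : orderOf v = 4) :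
    g * v * g⁻¹ = v ∨ g * v * g⁻¹ = v⁻¹ :=
  h.eq_or_inv hK hv hv4 ((mem_normalizer_iff.mp (h.vch.le_normalizer hK hg) v).mp hv) (orderOf_conj_four hv4 g)

/-! ### `A = W(S)` -/

theorem comm (h : CVW Om U) (hA : IsA Om U A) (ha : a ∈ A) (hb : b ∈ A) : a * b = b * a := by
  obtain ⟨S, rfl⟩ := hA
  have h1 := h.vch.closure_comm h.hyp S.isPGroup'
  rw [← RR_eq] at h1
  exact h1 a ha b hb

theorem RR_cj (h : CVW Om U) (g : G) {T : Subgroup G} : v ∈ RR Om U T ↔ g * v * g⁻¹ ∈ RR Om U (cj g T) := by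
  have key : ∀ {g v : G} {T : Subgroup G}, v ∈ RR Om U T → g * v * g⁻¹ ∈ RR Om U (cj g T) := by
    rintro g v T ⟨h1, h2, K, hK, hvK⟩
    exact ⟨conj_mem_cj h1, orderOf_conj_four h2 g, cj g K, h.hyp.conj K hK g, h.vch.conj_mem hK hvK g⟩
  refine ⟨key, fun hh => ?_⟩
  have h1 := key (g := g⁻¹) hh
  rw [cj_inv_cj] at h1
  have h2 : g⁻¹ * (g * v * g⁻¹) * g⁻¹⁻¹ = v := by group
  rwa [h2] at h1

theorem WW_cj (h : CVW Om U) (g : G) (T : Subgroup G) : WW Om U (cj g T) = cj g (WW Om U T) := by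
  have key : ∀ (g : G) (T : Subgroup G), cj g (WW Om U T) ≤ WW Om U (cj g T) := by
    intro g T
    have h1 : WW Om U T ≤ cj g⁻¹ (WW Om U (cj g T)) := by
      rw [WW, closure_le]
      intro v hv
      have h2 := conj_mem_cj (g := g⁻¹) (K := WW Om U (cj g T)) (subset_closure ((h.RR_cj g).mp hv))
      have h3 : g⁻¹ * (g * v * g⁻¹) * g⁻¹⁻¹ = v := by group
      rwa [h3] at h2
    have h2 := cj_mono g h1
    rwa [cj_cj_inv] at h2
  refine le_antisymm ?_ (key g T)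
  have h1 := cj_mono g (key g⁻¹ (cj g T))
  rwa [cj_cj_inv, cj_inv_cj] at h1

theorem isA_cj (h : CVW Om U) (hA : IsA Om U A) (g : G) : IsA Om U (cj g A) := by
  haveI : Fact (Nat.Prime 2) := ⟨Nat.prime_two⟩
  obtain ⟨S, rfl⟩ := hA
  refine ⟨g • S, ?_⟩
  have h1 : ((g • S : Sylow 2 G) : Subgroup G) = cj g S := by
    ext x
    rw [mem_cj, Sylow.coe_subgroup_smul, Subgroup.mem_pointwise_smul_iff_inv_smul_mem]
    simp [MulAut.smul_def]
  rw [h1, h.WW_cj]

theorem isA_two (hA : IsA Om U A) : IsPGroup 2 A := by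
  obtain ⟨S, rfl⟩ := hA
  exact S.isPGroup'.to_le (WW_le _)

theorem WW_self (hA : IsA Om U A) : WW Om U A = A := by
  obtain ⟨S, rfl⟩ := hA
  exact WW_WW _

theorem isA_conj (hA : IsA Om U A) (h : CVW Om U) {B : Subgroup G} (hB : IsA Om U B) : ∃ g, B = cj g A := by
  haveI : Fact (Nat.Prime 2) := ⟨Nat.prime_two⟩
  obtain ⟨S, rfl⟩ := hA
  obtain ⟨T, rfl⟩ := hB
  obtain ⟨g, hg⟩ := exists_le_cj S T.isPGroup'
  refine ⟨g, ?_⟩
  have h1 : (T : Subgroup G) = cj g S := by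
    apply Subgroup.eq_of_le_of_card_ge hg
    rw [card_cj]
    exact (Sylow.card_eq_multiplicity S).trans_le (Sylow.card_eq_multiplicity T).ge
  rw [h1, h.WW_cj]

/-- weak closure -/
theorem WW_eq (h : CVW Om U) (hA : IsA Om U A) {T : Subgroup G} (hT : IsPGroup 2 T) (hAT : A ≤ T) :
    WW Om U T = A := by
  obtain ⟨S, rfl⟩ := hA
  obtain ⟨g, hg⟩ := exists_le_cj S hT
  have h1 : WW Om U (S : Subgroup G) ≤ WW Om U T := by
    have := WW_mono (Om := Om) (U := U) hAT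
    rwa [WW_WW] at this
  have h2 : WW Om U T ≤ cj g (WW Om U (S : Subgroup G)) := by
    rw [← h.WW_cj]
    exact WW_mono hg
  refine (Subgroup.eq_of_le_of_card_ge h1 ?_).symm
  rw [← card_cj g (WW Om U (S : Subgroup G))]
  exact Nat.le_of_dvd Nat.card_pos (card_dvd_of_le h2)

theorem normalizer_le (h : CVW Om U) (T : Subgroup G) :
    normalizer (T : Set G) ≤ normalizer (WW Om U T : Set G) := by
  intro g hg
  rw [mem_normalizer_iff_cj, ← h.WW_cj, mem_normalizer_iff_cj.mp hg]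

theorem le_norm (h : CVW Om U) (hA : IsA Om U A) {T : Subgroup G} (hT : IsPGroup 2 T) (hAT : A ≤ T) :
    T ≤ normalizer (A : Set G) := by
  rw [← h.WW_eq hA hT hAT]
  exact le_normalizer.trans (h.normalizer_le T)

theorem sylow_norm (h : CVW Om U) (S : Sylow 2 G) : normalizer (S : Set G) ≤ normalizer (WW Om U (S : Subgroup G) : Set G) :=
  h.normalizer_le _

theorem pow_four (h : CVW Om U) (hA : IsA Om U A) (ha : a ∈ A) : a ^ 4 = 1 := by
  have key : ∀ a ∈ closure (RR Om U A), a ∈ A ∧ a ^ 4 = 1 := by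
    intro a ha
    induction ha using closure_induction with
    | mem v hv => exact ⟨hv.1, by rw [← hv.2.1]; exact pow_orderOf_eq_one v⟩
    | one => exact ⟨A.one_mem, one_pow 4⟩
    | mul x y _ _ hx hy =>
      refine ⟨A.mul_mem hx.1 hy.1, ?_⟩
      rw [(show Commute x y from h.comm hA hx.1 hy.1).mul_pow, hx.2, hy.2, one_mul]
    | inv x _ hx => exact ⟨A.inv_mem hx.1, by rw [inv_pow, hx.2, inv_one]⟩
  have h2 : closure (RR Om U A) = A := WW_self hA
  exact (key a (by rw [h2]; exact ha)).2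

theorem mem_U_of_pow_four (h : CVW Om U) (hK : K ∈ Om) (hx : x ∈ XX U K) (h4 : x ^ 4 = 1) : x ∈ U K := by
  obtain ⟨c, y, n, hc, hcU, hw4, hcX, hyX, hcov⟩ := h.exists_coord hK
  obtain ⟨i, rfl⟩ := hcov x hx
  rw [← pow_mul] at h4
  have h1 := orderOf_dvd_of_pow_eq_one h4
  rw [hc.ord, pow_add] at h1
  have h2 : 2 ^ n ∣ i := Nat.dvd_of_mul_dvd_mul_right (by norm_num : 0 < 2 ^ 2) h1
  obtain ⟨j, rfl⟩ := h2
  rw [pow_mul]
  exact (U K).pow_mem hcU j

section root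

variable (h : CVW Om U) (hA : IsA Om U A) (hK : K ∈ Om) (hv : v ∈ U K) (hv4 : orderOf v = 4) (hvA : v ∈ A)
include h hA hK hv hv4 hvA

theorem U_le_A : U K ≤ A := by
  rw [h.U_eq hK hv hv4, zpowers_le]
  exact hvA

theorem zz_mem_A : zz K ∈ A := by
  rw [← h.sq_eq hK hv hv4]
  exact A.mul_mem hvA hvA

theorem A_le_norm : A ≤ normalizer (K : Set G) := by
  have hz := h.zz_mem_A hA hK hv hv4 hvA
  have h1 : closure (RR Om U A) ≤ normalizer (K : Set G) := by
    rw [closure_le]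
    rintro w ⟨hwA, hw4, L, hL, hwL⟩
    exact h.norm_h3 hL hK (h.vch.le L hL hwL) (by rw [hw4]) (h.comm hA hwA hz)
  have h2 : closure (RR Om U A) = A := WW_self hA
  rwa [h2] at h1

theorem K_le_norm : K ≤ normalizer (A : Set G) := by
  have h1 := h.A_le_norm hA hK hv hv4 hvA
  have h2 : IsPGroup 2 (A ⊔ K : Subgroup G) := (isA_two hA).to_sup_of_normal_right' (h.two K hK) h1
  exact le_sup_right.trans (h.le_norm hA h2 le_sup_left)

theorem inf_le_U (hxA : x ∈ A ∧ x ∈ XX U K) : x ∈ U K :=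
  h.mem_U_of_pow_four hK hxA.2 (h.pow_four hA hxA.1)

theorem inf_le_U' (hxA : x ∈ A) (hxK : x ∈ K) : x ∈ U K :=
  h.inf_le_U hA hK hv hv4 hvA ⟨hxA, (h.mem_XX_iff hK hv hv4 hxK).mpr (h.comm hA hxA hvA)⟩

/-- `X_K` centralises `A` -/
theorem XX_comm (hx : x ∈ XX U K) (ha : a ∈ A) : x * a = a * x := by
  have hAK := h.A_le_norm hA hK hv hv4 hvA
  have hKA := h.K_le_norm hA hK hv hv4 hvA
  obtain ⟨c, y, n, hc, hcU, hw4, hcX, hyX, hcov⟩ := h.exists_coord hK
  set u := c ^ 2 ^ n with hu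
  have huA : u ∈ A := h.U_le_A hA hK hv hv4 hvA hcU
  have hcK : c ∈ K := hc.c_mem
  have hcu : c * u = u * c := ((Commute.refl c).pow_right _).eq
  -- it is enough to show that `c` commutes with the roots
  have key : ∀ w ∈ RR Om U A, c * w = w * c := by
    rintro w ⟨hwA, hw4', L, hL, hwL⟩
    rcases Nat.eq_zero_or_pos n with hn | hn
    · subst hn
      rw [pow_zero, pow_one] at hu
      rw [← hu]
      exact h.comm hA huA hwA
    have hcAK : c * w * c⁻¹ * w⁻¹ ∈ U K := by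
      refine h.inf_le_U hA hK hv hv4 hvA ?_
      refine ⟨A.mul_mem ((mem_normalizer_iff.mp (hKA hcK) w).mp hwA) (A.inv_mem hwA), ?_⟩
      have h1 : w * c⁻¹ * w⁻¹ ∈ XX U K :=
        (mem_normalizer_iff.mp (le_normalizer_XX h.vch hK (hAK hwA)) _).mp ((XX U K).inv_mem hcX)
      have h2 := (XX U K).mul_mem hcX h1
      have h3 : c * (w * c⁻¹ * w⁻¹) = c * w * c⁻¹ * w⁻¹ := by group
      rwa [h3] at h2
    obtain ⟨j, hj⟩ := h.exists_pw_U hK hcU hw4 hcAK
    have h1 : c * w * c⁻¹ = pw u j * w := mul_inv_eq_iff_eq_mul.mp hj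
    have huw : ∀ j, pw u j * w = w * pw u j := fun j => (pw_comm (h.comm hA hwA huA) j).symm
    have hww : w * w = zz L := h.sq_eq hL hwL hw4'
    have hcz : c * zz L * c⁻¹ = pw u (2 * j) * zz L := by
      have h2 : c * (w * w) * c⁻¹ = (c * w * c⁻¹) * (c * w * c⁻¹) := by group
      rw [← hww, h2, h1, mul_assoc, ← mul_assoc w, ← huw, mul_assoc, ← mul_assoc (pw u j), sq_pw hw4]
    have hcord : 4 ≤ orderOf c := by
      rw [hc.ord, pow_add]
      have : 1 ≤ 2 ^ n := Nat.one_le_two_pow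
      omega
    have hu2 : pw u 2 = zz K := h.pw_two_eq hK hcU hw4
    -- an element of `K` normalising `L`
    have fin : ∀ t : G, t ∈ K → t ∈ normalizer (L : Set G) → ∀ i : ZMod 4, t * w * t⁻¹ = pw u i * w → i = 0 ∨
        (i = 2 ∧ zz K = zz L) := by
      intro t htK htL i hi
      rcases h.conj_or hL htL hwL hw4' with h2 | h2
      · left
        rw [hi] at h2
        have h3 : pw u i = pw u 0 := by rw [pw_zero]; exact mul_eq_right.mp h2
        exact pw_inj hw4 h3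
      · right
        rw [hi] at h2
        have h3 : pw u i = zz L := by
          rw [eq_mul_inv_of_mul_eq h2, ← mul_inv_rev, hww, h.hyp.zz_inv hL]
        have h4 : pw u (2 * i) = pw u 0 := by
          rw [← sq_pw hw4, h3, h.hyp.zz_mul hL, pw_zero]
        have h5 := pw_inj hw4 h4
        have h6 : i ≠ 0 := by
          rintro rfl
          rw [pw_zero] at h3
          exact h.hyp.zz_ne hL h3.symm
        have h7 : ∀ i : ZMod 4, 2 * i = 0 → i ≠ 0 → i = 2 := by decide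
        have h8 := h7 i h5 h6
        subst h8
        exact ⟨rfl, by rw [← hu2, h3]⟩
    have done : zz K = zz L → c * w = w * c := by
      intro hz
      by_cases hKL : K = L
      · subst hKL
        exact (h.mem_XX_iff hK hwL hw4' hcK).mp hcX
      · exact h.comm_of_zz_eq hK hL hz hKL hcK (h.vch.le L hL hwL)
    have hj4 : ∀ j : ZMod 4, 2 * j = 0 ∨ 2 * j = 2 := by decide
    rcases hj4 j with h2 | h2
    · have h3 : c ∈ normalizer (L : Set G) := by
        apply h.norm_h3 hK hL hcK hcord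
        rw [h2, pw_zero, one_mul] at hcz
        exact mul_inv_eq_iff_eq_mul.mp hcz
      rcases fin c hcK h3 j h1 with h4 | ⟨-, h4⟩
      · subst h4
        rw [pw_zero, one_mul] at h1
        exact mul_inv_eq_iff_eq_mul.mp h1
      · exact done h4
    · exfalso
      rw [h2, hu2] at hcz
      -- `c²` normalises `L`
      have hcc : c * c * w * (c * c)⁻¹ = pw u 2 * w := by
        calc c * c * w * (c * c)⁻¹ = c * (c * w * c⁻¹) * c⁻¹ := by group
          _ = c * (pw u j * w) * c⁻¹ := by rw [h1]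
          _ = (c * pw u j * c⁻¹) * (c * w * c⁻¹) := by group
          _ = pw u j * (pw u j * w) := by rw [h1, pw_comm hcu, mul_inv_cancel_right]
          _ = pw u 2 * w := by rw [← mul_assoc, sq_pw hw4, h2]
      have hccz : c * c * zz L = zz L * (c * c) := by
        have h3 : c * (c * zz L * c⁻¹) * c⁻¹ = zz L := by
          rw [hcz]
          have h4 : c * zz K = zz K * c := h.hyp.comm_zz hK (le_normalizer hcK)
          calc c * (zz K * zz L) * c⁻¹ = (c * zz K) * c⁻¹ * (c * zz L * c⁻¹) := by group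
            _ = zz K * (zz K * zz L) := by rw [h4, mul_inv_cancel_right, hcz]
            _ = zz L := by rw [← mul_assoc, h.hyp.zz_mul hK, one_mul]
        have h5 : c * c * zz L * (c * c)⁻¹ = zz L := by
          calc c * c * zz L * (c * c)⁻¹ = c * (c * zz L * c⁻¹) * c⁻¹ := by group
            _ = zz L := h3
        exact mul_inv_eq_iff_eq_mul.mp h5
      have hccord : 4 ≤ orderOf (c * c) := by
        have h3 : orderOf (c ^ 2) = 2 ^ (n + 1) := by
          rw [orderOf_pow_of_dvd (by norm_num) (by rw [hc.ord]; exact dvd_pow_self 2 (by omega)), hc.ord]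
          rw [show 2 ^ (n + 2) = 2 ^ (n + 1) * 2 by ring]
          exact Nat.mul_div_cancel _ (by norm_num)
        rw [← pow_two, h3, pow_succ]
        obtain ⟨m, rfl⟩ : ∃ m, n = m + 1 := ⟨n - 1, by omega⟩
        rw [pow_succ]
        have : 1 ≤ 2 ^ m := Nat.one_le_two_pow
        omega
      have hccN : c * c ∈ normalizer (L : Set G) := h.norm_h3 hK hL (K.mul_mem hcK hcK) hccord hccz
      rcases fin (c * c) (K.mul_mem hcK hcK) hccN 2 hcc with h4 | ⟨-, h4⟩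
      · exact absurd h4 (by decide)
      · rw [h4] at hcz
        have h5 : c * zz L = zz L * c := by rw [← h4]; exact h.hyp.comm_zz hK (le_normalizer hcK)
        rw [h5, mul_inv_cancel_right, h.hyp.zz_mul hL] at hcz
        exact h.hyp.zz_ne hL hcz
  have h1 : closure (RR Om U A) ≤ centralizer {c} := by
    rw [closure_le]
    intro w hw
    exact mem_centralizer_singleton_iff.mpr (key w hw).symm
  have h2 : closure (RR Om U A) = A := WW_self hA
  rw [h2] at h1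
  obtain ⟨i, rfl⟩ := hcov x hx
  have h3 : Commute c a := (mem_centralizer_singleton_iff.mp (h1 ha)).symm
  exact (h3.pow_left i).eq

/-- `y a y⁻¹ = a v^(-n)` -/
theorem exists_al (hy : y ∈ K) (ha : a ∈ A) : ∃ n : ZMod 4, y * a * y⁻¹ = a * pw v (-n) := by
  have hAK := h.A_le_norm hA hK hv hv4 hvA
  have hKA := h.K_le_norm hA hK hv hv4 hvA
  have h1 : a⁻¹ * (y * a * y⁻¹) ∈ A := A.mul_mem (A.inv_mem ha) ((mem_normalizer_iff.mp (hKA hy) a).mp ha)
  have h2 : a⁻¹ * (y * a * y⁻¹) ∈ K := by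
    have h3 := K.mul_mem ((mem_normalizer_iff.mp (hAK (A.inv_mem ha)) y).mp hy) (K.inv_mem hy)
    have h4 : a⁻¹ * y * a⁻¹⁻¹ * y⁻¹ = a⁻¹ * (y * a * y⁻¹) := by group
    rwa [h4] at h3
  obtain ⟨n, hn⟩ := h.exists_pw_U hK hv hv4 (h.inf_le_U' hA hK hv hv4 hvA h1 h2)
  refine ⟨-n, ?_⟩
  rw [neg_neg, ← hn]; group

end root

end CVW

/-! ### The functions `al` -/

open Classical in
/-- `y a y⁻¹ = a v^(-al v a)` for `v ∈ U K`, `y ∈ K \ XX U K` -/
noncomputable def al (Om : Set (Subgroup G)) (U : Subgroup G → Subgroup G) (v a : G) : ZMod 4 :=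
  if h : ∃ n : ZMod 4, ∃ K ∈ Om, v ∈ U K ∧ ∃ y ∈ K, y ∉ XX U K ∧ y * a * y⁻¹ = a * pw v (-n) then h.choose else 0

namespace CVW

variable [Finite G]

theorem al_eq (h : CVW Om U) (hA : IsA Om U A) (hK : K ∈ Om) (hv : v ∈ U K) (hv4 : orderOf v = 4) (hvA : v ∈ A)
    (hy : y ∈ K) (hyX : y ∉ XX U K) (ha : a ∈ A) {n : ZMod 4} (hn : y * a * y⁻¹ = a * pw v (-n)) :
    al Om U v a = n := by
  have hex : ∃ n : ZMod 4, ∃ K ∈ Om, v ∈ U K ∧ ∃ y ∈ K, y ∉ XX U K ∧ y * a * y⁻¹ = a * pw v (-n) :=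
    ⟨n, K, hK, hv, y, hy, hyX, hn⟩
  rw [al, dif_pos hex]
  obtain ⟨L, hL, hvL, y', hy', hy'X, hn'⟩ := hex.choose_spec
  have hKL := h.eq_of_mem hK hL hv hvL hv4
  subst hKL
  have h1 := inv_mul_mem_XX h.vch hK hy hy' hyX hy'X
  have h2 := h.XX_comm hA hK hv hv4 hvA h1 ha
  have h3 : y' * a * y'⁻¹ = y * a * y⁻¹ := by
    calc y' * a * y'⁻¹ = y * (y⁻¹ * y' * a) * y'⁻¹ := by group
      _ = y * a * y⁻¹ := by rw [h2]; group
  rw [h3, hn] at hn'
  have h4 := pw_inj hv4 (mul_left_cancel hn')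
  exact (neg_injective h4).symm

theorem al_spec (h : CVW Om U) (hA : IsA Om U A) (hK : K ∈ Om) (hv : v ∈ U K) (hv4 : orderOf v = 4) (hvA : v ∈ A)
    (hy : y ∈ K) (hyX : y ∉ XX U K) (ha : a ∈ A) : y * a * y⁻¹ = a * pw v (-al Om U v a) := by
  obtain ⟨n, hn⟩ := h.exists_al hA hK hv hv4 hvA hy ha
  rw [h.al_eq hA hK hv hv4 hvA hy hyX ha hn]
  exact hn

theorem al_mul (h : CVW Om U) (hA : IsA Om U A) (hv : v ∈ RR Om U A) (ha : a ∈ A) (hb : b ∈ A) :
    al Om U v (a * b) = al Om U v a + al Om U v b := by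
  obtain ⟨hvA, hv4, K, hK, hvK⟩ := hv
  obtain ⟨y, hy, hyX⟩ := h.exists_y hK
  refine h.al_eq hA hK hvK hv4 hvA hy hyX (A.mul_mem ha hb) ?_
  have h1 := h.al_spec hA hK hvK hv4 hvA hy hyX ha
  have h2 := h.al_spec hA hK hvK hv4 hvA hy hyX hb
  have h3 : y * (a * b) * y⁻¹ = (y * a * y⁻¹) * (y * b * y⁻¹) := by group
  rw [h3, h1, h2, neg_add, pw_add hv4]
  have h4 := pw_comm (h.comm hA hb hvA) (-al Om U v a)
  calc a * pw v (-al Om U v a) * (b * pw v (-al Om U v b)) = a * (pw v (-al Om U v a) * b) * pw v (-al Om U v b) := by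
        group
    _ = _ := by rw [← h4]; group

theorem al_neg (h : CVW Om U) (hA : IsA Om U A) (hv : v ∈ RR Om U A) (ha : a ∈ A) :
    al Om U v⁻¹ a = -al Om U v a := by
  obtain ⟨hvA, hv4, K, hK, hvK⟩ := hv
  obtain ⟨y, hy, hyX⟩ := h.exists_y hK
  refine h.al_eq hA hK ((U K).inv_mem hvK) (by rw [orderOf_inv, hv4]) (A.inv_mem hvA) hy hyX ha ?_
  rw [h.al_spec hA hK hvK hv4 hvA hy hyX ha, pw_inv hv4, neg_neg]

theorem al_self (h : CVW Om U) (hA : IsA Om U A) (hv : v ∈ RR Om U A) : al Om U v v = 2 := by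
  obtain ⟨hvA, hv4, K, hK, hvK⟩ := hv
  obtain ⟨y, hy, hyX⟩ := h.exists_y hK
  refine h.al_eq hA hK hvK hv4 hvA hy hyX hvA ?_
  rw [h.y_inv hK hy hyX hvK]
  have h1 : pw v (1 + -2) = pw v 1 * pw v (-2) := pw_add hv4 _ _
  rw [pw_one] at h1
  rw [← h1, ← pw_neg_one hv4]
  congr 1

end CVW

end Cfsg.Agent.Cit.CV

private theorem dce_913641b5053c : _root_.True := by
  try have : _root_.True := by simp only [_root_.Cfsg.Agent.Cit.CV.WW.eq_1]
  try have : _root_.True := by simp only [_root_.Cfsg.Agent.Cit.CV.al.eq_1]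
  try have : _root_.True := by simp only [_root_.Cfsg.Agent.Cit.CV.pw.eq_1]
  exact _root_.True.intro
end

-- part: Cit/Nil/CV/Root
section
prune_inst 0x420100c00512200000000001022003c4292000002004b0000f1000400058e984080460620e0200c10800028040034006813dc0140420000000a000800011c01a0100200001000a000000006000007180c00000000000000000000000000041000000000000
set_option linter.all false
open scoped Cfsg.Agent.FastGrp

/-!
# (6b)(CV): roots modulo four and the parity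

`rf v a = y a y⁻¹` (`y ∈ K \ X_K`); `al_conj`, `rf_mem`, `al_rf`, `al_two`, `al_zero_iff`;
`Ev U L g` : the parity of `g ∈ N(L)`; `not_inv_both`, `not_rf` (`s = zz N` in `N(A)`).
-/

set_option autoImplicit false
set_option linter.style.haveILetI false
set_option linter.unusedSectionVars false

namespace Cfsg.Agent.Cit.CV

open Subgroup Cfsg Cit Tau

variable {G : Type*} [Group G] {Om : Set (Subgroup G)} {U : Subgroup G → Subgroup G} {A K L N : Subgroup G}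
  {a b g s v w x y : G}

/-- the reflection -/
noncomputable def rf (Om : Set (Subgroup G)) (U : Subgroup G → Subgroup G) (v a : G) : G := a * pw v (-al Om U v a)

namespace CVW

variable [Finite G]

/-! ### Roots -/

theorem rf_eq (h : CVW Om U) (hA : IsA Om U A) (hK : K ∈ Om) (hv : v ∈ U K) (hv4 : orderOf v = 4) (hvA : v ∈ A)
    (hy : y ∈ K) (hyX : y ∉ XX U K) (ha : a ∈ A) : y * a * y⁻¹ = rf Om U v a :=
  h.al_spec hA hK hv hv4 hvA hy hyX ha

theorem RR_inv (hv : v ∈ RR Om U A) : v⁻¹ ∈ RR Om U A := by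
  obtain ⟨h1, h2, K, hK, hvK⟩ := hv
  exact ⟨A.inv_mem h1, by rw [orderOf_inv, h2], K, hK, (U K).inv_mem hvK⟩

theorem RR_conj (h : CVW Om U) (hg : g ∈ normalizer (A : Set G)) (hv : v ∈ RR Om U A) :
    g * v * g⁻¹ ∈ RR Om U A := by
  have := (h.RR_cj g).mp hv
  rwa [mem_normalizer_iff_cj.mp hg] at this

theorem al_conj (h : CVW Om U) (hA : IsA Om U A) (hg : g ∈ normalizer (A : Set G)) (hv : v ∈ RR Om U A)
    (ha : a ∈ A) : al Om U (g * v * g⁻¹) (g * a * g⁻¹) = al Om U v a := by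
  have hv' := h.RR_conj hg hv
  obtain ⟨hvA, hv4, K, hK, hvK⟩ := hv
  obtain ⟨y, hy, hyX⟩ := h.exists_y hK
  refine h.al_eq hA (h.hyp.conj K hK g) (h.vch.conj_mem hK hvK g) (orderOf_conj_four hv4 g) hv'.1
    (conj_mem_cj hy) (fun hh => hyX ((conj_mem_XX (h.vch.cj K hK g)).mp hh))
    ((mem_normalizer_iff.mp hg a).mp ha) ?_
  have h1 := h.al_spec hA hK hvK hv4 hvA hy hyX ha
  calc g * y * g⁻¹ * (g * a * g⁻¹) * (g * y * g⁻¹)⁻¹ = g * (y * a * y⁻¹) * g⁻¹ := by group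
    _ = g * a * g⁻¹ * (g * pw v (-al Om U v a) * g⁻¹) := by rw [h1]; group
    _ = _ := by rw [conj_pw]

/-- the member and the reflecting element of a root -/
theorem exists_root (h : CVW Om U) (hA : IsA Om U A) (hv : v ∈ RR Om U A) : ∃ K ∈ Om, v ∈ U K ∧ ∃ y ∈ K, y ∉ XX U K ∧
    y ∈ normalizer (A : Set G) ∧ y * y = v * v ∧ ∀ a ∈ A, y * a * y⁻¹ = rf Om U v a := by
  obtain ⟨hvA, hv4, K, hK, hvK⟩ := hv
  obtain ⟨y, hy, hyX⟩ := h.exists_y hK
  refine ⟨K, hK, hvK, y, hy, hyX, h.K_le_norm hA hK hvK hv4 hvA hy, ?_, fun a ha => h.rf_eq hA hK hvK hv4 hvA hy hyX ha⟩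
  rw [(h.y_facts hK hy hyX).1, h.sq_eq hK hvK hv4]

theorem rf_mem (h : CVW Om U) (hA : IsA Om U A) (hv : v ∈ RR Om U A) (hw : w ∈ RR Om U A) :
    rf Om U v w ∈ RR Om U A := by
  obtain ⟨K, hK, hvK, y, hy, hyX, hyA, -, hrf⟩ := h.exists_root hA hv
  rw [← hrf w hw.1]
  exact h.RR_conj hyA hw

theorem rf_mem_A (hv : v ∈ RR Om U A) (ha : a ∈ A) : rf Om U v a ∈ A := A.mul_mem ha (pw_mem hv.1 _)

theorem al_rf (h : CVW Om U) (hA : IsA Om U A) (hv : v ∈ RR Om U A) (hw : w ∈ RR Om U A) (ha : a ∈ A) :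
    al Om U (rf Om U v w) (rf Om U v a) = al Om U w a := by
  obtain ⟨K, hK, hvK, y, hy, hyX, hyA, -, hrf⟩ := h.exists_root hA hv
  rw [← hrf w hw.1, ← hrf a ha]
  exact h.al_conj hA hyA hw ha

theorem al_one (h : CVW Om U) (hA : IsA Om U A) (hv : v ∈ RR Om U A) : al Om U v 1 = 0 := by
  have := h.al_mul hA hv A.one_mem A.one_mem
  rw [mul_one] at this
  exact left_eq_add.mp this

theorem al_inv (h : CVW Om U) (hA : IsA Om U A) (hv : v ∈ RR Om U A) (ha : a ∈ A) :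
    al Om U v a⁻¹ = -al Om U v a := by
  have := h.al_mul hA hv (A.inv_mem ha) ha
  rw [inv_mul_cancel, h.al_one hA hv] at this
  exact eq_neg_of_add_eq_zero_left this.symm

theorem al_pow (h : CVW Om U) (hA : IsA Om U A) (hv : v ∈ RR Om U A) (ha : a ∈ A) (n : ℕ) :
    al Om U v (a ^ n) = n * al Om U v a := by
  induction n with
  | zero => simp [h.al_one hA hv]
  | succ n ih =>
    rw [pow_succ, h.al_mul hA hv (A.pow_mem ha n) ha, ih]
    push_cast; ring

theorem al_pw (h : CVW Om U) (hA : IsA Om U A) (hv : v ∈ RR Om U A) (ha : a ∈ A) (n : ZMod 4) :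
    al Om U v (pw a n) = n * al Om U v a := by
  rw [pw, h.al_pow hA hv ha, ZMod.natCast_val, ZMod.cast_id]

theorem al_sq (h : CVW Om U) (hA : IsA Om U A) (hv : v ∈ RR Om U A) (ha : a ∈ A) :
    al Om U v (a * a) = 2 * al Om U v a := by
  rw [h.al_mul hA hv ha ha, two_mul]

theorem al_rf_left (h : CVW Om U) (hA : IsA Om U A) (hv : v ∈ RR Om U A) (hw : w ∈ RR Om U A) (ha : a ∈ A) :
    al Om U w (rf Om U v a) = al Om U w a - al Om U v a * al Om U w v := by
  rw [rf, h.al_mul hA hw ha (pw_mem hv.1 _), h.al_pw hA hw hv.1]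
  ring

/-- on involutions the values are `0`, `2` -/
theorem al_of_sq (h : CVW Om U) (hA : IsA Om U A) (hv : v ∈ RR Om U A) (ha : a ∈ A) (h2 : a * a = 1) :
    al Om U v a = 0 ∨ al Om U v a = 2 := by
  have h1 := h.al_sq hA hv ha
  rw [h2, h.al_one hA hv] at h1
  have : ∀ n : ZMod 4, 0 = 2 * n → n = 0 ∨ n = 2 := by decide
  exact this _ h1

theorem al_two (h : CVW Om U) (hA : IsA Om U A) (hv : v ∈ RR Om U A) (hw : w ∈ RR Om U A)
    (h2 : al Om U v w = 2) : w = v ∨ w = v⁻¹ := by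
  obtain ⟨K, hK, hvK, y, hy, hyX, hyA, hyy, hrf⟩ := h.exists_root hA hv
  obtain ⟨hwA, hw4, L, hL, hwL⟩ := hw
  have hv4 := hv.2.1
  have h1 := hrf w hwA
  have hz : pw v (-2) = zz K := by
    rw [show (-2 : ZMod 4) = 2 by decide, h.pw_two_eq hK hvK hv4]
  rw [rf, h2, hz] at h1
  have hzA := h.zz_mem_A hA hK hvK hv4 hv.1
  have h3 : y * zz L = zz L * y := by
    have h4 : y * zz L * y⁻¹ = zz L := by
      rw [← h.sq_eq hL hwL hw4]
      calc y * (w * w) * y⁻¹ = (y * w * y⁻¹) * (y * w * y⁻¹) := by group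
        _ = w * (zz K * w) * zz K := by rw [h1]; group
        _ = w * w * (zz K * zz K) := by rw [h.comm hA hzA hwA]; group
        _ = w * w := by rw [h.hyp.zz_mul hK, mul_one]
    exact mul_inv_eq_iff_eq_mul.mp h4
  have h5 := h.norm_h3 hK hL hy (by rw [(h.y_facts hK hy hyX).2.1]) h3
  rcases h.conj_or hL h5 hwL hw4 with h6 | h6
  · rw [h1] at h6
    exact absurd (mul_eq_left.mp h6) (h.hyp.zz_ne hK)
  · rw [h1] at h6
    have h7 : zz K = zz L := by
      rw [eq_inv_mul_of_mul_eq h6, ← mul_inv_rev, h.sq_eq hL hwL hw4, h.hyp.zz_inv hL]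
    by_cases hKL : K = L
    · subst hKL
      exact h.eq_or_inv hK hvK hv4 hwL hw4
    · have h8 := h.comm_of_zz_eq hK hL h7 hKL hy (h.vch.le L hL hwL)
      rw [h8, mul_inv_cancel_right] at h1
      exact absurd (left_eq_mul.mp h1) (h.hyp.zz_ne hK)

/-- orthogonal roots: the members commute -/
theorem comm_of_al_zero (h : CVW Om U) (hA : IsA Om U A) (hK : K ∈ Om) (hvK : v ∈ U K) (hv4 : orderOf v = 4)
    (hvA : v ∈ A) (hL : L ∈ Om) (hwL : w ∈ U L) (hw4 : orderOf w = 4) (hwA : w ∈ A)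
    (h0 : al Om U v w = 0) : K ≠ L ∧ ∀ a ∈ K, ∀ b ∈ L, a * b = b * a := by
  have hne : K ≠ L := by
    rintro rfl
    have h1 := h.al_self hA ⟨hvA, hv4, K, hK, hvK⟩
    rcases h.eq_or_inv hK hvK hv4 hwL hw4 with rfl | rfl
    · rw [h1] at h0; exact absurd h0 (by decide)
    · rw [h.al_inv hA ⟨hvA, hv4, K, hK, hvK⟩ hvA, h1] at h0; exact absurd h0 (by decide)
  refine ⟨hne, h.hyp.comm_of_zz_comm hK hL (h.two K hK) (h.two L hL) ?_ hne⟩
  have hzA := h.zz_mem_A hA hL hwL hw4 hwA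
  intro a ha
  by_cases haX : a ∈ XX U K
  · exact h.XX_comm hA hK hvK hv4 hvA haX hzA
  · have h1 := h.al_spec hA hK hvK hv4 hvA ha haX hwA
    rw [h0, neg_zero, pw_zero, mul_one] at h1
    have h2 : a * w = w * a := mul_inv_eq_iff_eq_mul.mp h1
    rw [← h.sq_eq hL hwL hw4]
    exact ((show Commute a w from h2).mul_right h2).eq

theorem al_zero_symm (h : CVW Om U) (hA : IsA Om U A) (hv : v ∈ RR Om U A) (hw : w ∈ RR Om U A)
    (h0 : al Om U v w = 0) : al Om U w v = 0 := by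
  obtain ⟨hvA, hv4, K, hK, hvK⟩ := hv
  obtain ⟨hwA, hw4, L, hL, hwL⟩ := hw
  obtain ⟨y, hy, hyX⟩ := h.exists_y hL
  obtain ⟨-, hc⟩ := h.comm_of_al_zero hA hK hvK hv4 hvA hL hwL hw4 hwA h0
  refine h.al_eq hA hL hwL hw4 hwA hy hyX hvA ?_
  rw [neg_zero, pw_zero, mul_one, ← hc v (h.vch.le K hK hvK) y hy, mul_inv_cancel_right]

theorem al_two_symm (h : CVW Om U) (hA : IsA Om U A) (hv : v ∈ RR Om U A) (hw : w ∈ RR Om U A)
    (h2 : al Om U v w = 2) : al Om U w v = 2 := by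
  rcases h.al_two hA hv hw h2 with rfl | rfl
  · exact h2
  · rw [h.al_neg hA hv hv.1, h.al_self hA hv]; decide

/-- the odd bonds: `al w v = ± al v w` -/
theorem al_odd_symm (h : CVW Om U) (hA : IsA Om U A) (hv : v ∈ RR Om U A) (hw : w ∈ RR Om U A)
    (h0 : al Om U v w ≠ 0) (h2 : al Om U v w ≠ 2) : al Om U w v = al Om U v w ∨ al Om U w v = -al Om U v w := by
  have h3 : al Om U w v ≠ 0 := fun hh => h0 (h.al_zero_symm hA hw hv hh)
  have h4 : al Om U w v ≠ 2 := fun hh => h2 (h.al_two_symm hA hw hv hh)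
  revert h0 h2 h3 h4
  generalize al Om U v w = i
  generalize al Om U w v = j
  revert i j
  decide

/-- an element of `A` is determined by its commutation with the generators -/
theorem exists_gen (hA : IsA Om U A) {p : G → Prop} (h1 : p 1) (hm : ∀ a ∈ A, ∀ b ∈ A, p a → p b → p (a * b))
    (hr : ∀ v ∈ RR Om U A, p v) : ∀ a ∈ A, p a := by
  have key : ∀ a ∈ _root_.Subgroup.closure (RR Om U A), a ∈ A ∧ p a := by
    intro a ha
    induction ha using closure_induction'' with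
    | mem v hv => exact ⟨hv.1, hr v hv⟩
    | inv_mem v hv => exact ⟨A.inv_mem hv.1, hr _ (RR_inv hv)⟩
    | one => exact ⟨A.one_mem, h1⟩
    | mul x y _ _ hx hy => exact ⟨A.mul_mem hx.1 hy.1, hm x hx.1 y hy.1 hx.2 hy.2⟩
  have h2 : closure (RR Om U A) = A := WW_self hA
  intro a ha
  rw [← h2] at ha
  exact (key a ha).2

/-! ### Parity -/

theorem W2_iff (h : CVW Om U) (hK : K ∈ Om) : W2 U K x ↔ ∃ k ∈ XX U K, x = k * k := by
  unfold W2
  simp only [h.oo hK, mem_bot]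
  refine exists_congr fun k => and_congr Iff.rfl ?_
  rw [inv_mul_eq_one]
  exact eq_comm

theorem W2_mul (h : CVW Om U) (hK : K ∈ Om) (hx : x ∈ XX U K) (hy : y ∈ XX U K) :
    W2 U K (x * y) ↔ (W2 U K x ↔ W2 U K y) := by
  obtain ⟨c, v, n, ρ, l⟩ := TauMain.exists_loc h.hyp h.vch (h.two K hK) (h.mem_OmS_self hK)
  exact l.W2_mul h.hyp h.vch (h.two K hK) (h.mem_OmS_self hK) hx hy

theorem W2_conj (h : CVW Om U) (hK : K ∈ Om) (hg : g ∈ normalizer (K : Set G)) : W2 U K (g * x * g⁻¹) ↔ W2 U K x := by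
  have := conj_W2 (x := x) (h.vch.cj K hK g)
  rwa [mem_normalizer_iff_cj.mp hg] at this

theorem W2_inv (h : CVW Om U) (hK : K ∈ Om) (hx : x ∈ XX U K) : W2 U K x⁻¹ ↔ W2 U K x := by
  have h1 := h.W2_mul hK ((XX U K).inv_mem hx) hx
  rw [inv_mul_cancel] at h1
  have h2 : W2 U K 1 := (h.W2_iff hK).mpr ⟨1, (XX U K).one_mem, by simp⟩
  exact h1.mp h2

/-- `g y g⁻¹ = y x⁻¹`, `x` as below -/
theorem dif_mem (h : CVW Om U) (hL : L ∈ Om) (hg : g ∈ normalizer (L : Set G)) (hy : y ∈ L) (hyX : y ∉ XX U L) :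
    (g * y * g⁻¹)⁻¹ * y ∈ XX U L :=
  inv_mul_mem_XX h.vch hL ((mem_normalizer_iff.mp hg y).mp hy) hy
    (fun hh => hyX ((mem_normalizer_iff.mp (le_normalizer_XX h.vch hL hg) y).mpr hh)) hyX

end CVW

/-- the parity of `g ∈ N(L)` is even -/
def Ev (U : Subgroup G → Subgroup G) (L : Subgroup G) (g : G) : Prop :=
  ∀ y ∈ L, y ∉ XX U L → W2 U L ((g * y * g⁻¹)⁻¹ * y)

namespace CVW

variable [Finite G]

theorem ev_iff (h : CVW Om U) (hL : L ∈ Om) (hg : g ∈ normalizer (L : Set G)) (hy : y ∈ L) (hyX : y ∉ XX U L) :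
    Ev U L g ↔ W2 U L ((g * y * g⁻¹)⁻¹ * y) := by
  refine ⟨fun hh => hh y hy hyX, fun hh y' hy' hyX' => ?_⟩
  have hx : y⁻¹ * y' ∈ XX U L := inv_mul_mem_XX h.vch hL hy hy' hyX hyX'
  have hd := h.dif_mem hL hg hy hyX
  have hgx : g * (y⁻¹ * y') * g⁻¹ ∈ XX U L := (mem_normalizer_iff.mp (le_normalizer_XX h.vch hL hg) _).mp hx
  have h1 : (g * y' * g⁻¹)⁻¹ * y' = (g * (y⁻¹ * y') * g⁻¹)⁻¹ * (((g * y * g⁻¹)⁻¹ * y) * (y⁻¹ * y')) := by group
  rw [h1, h.W2_mul hL ((XX U L).inv_mem hgx) ((XX U L).mul_mem hd hx), h.W2_mul hL hd hx, h.W2_inv hL hgx,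
    h.W2_conj hL hg]
  (clear * - hh; tauto)

theorem ev_mul (h : CVW Om U) (hL : L ∈ Om) (ha : a ∈ normalizer (L : Set G)) (hb : b ∈ normalizer (L : Set G)) :
    Ev U L (a * b) ↔ (Ev U L a ↔ Ev U L b) := by
  obtain ⟨y, hy, hyX⟩ := h.exists_y hL
  rw [h.ev_iff hL (mul_mem ha hb) hy hyX, h.ev_iff hL ha hy hyX, h.ev_iff hL hb hy hyX]
  have h1 : (a * b * y * (a * b)⁻¹)⁻¹ * y = (a * ((b * y * b⁻¹)⁻¹ * y) * a⁻¹) * ((a * y * a⁻¹)⁻¹ * y) := by group
  have h2 := h.dif_mem hL hb hy hyX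
  rw [h1, h.W2_mul hL ((mem_normalizer_iff.mp (le_normalizer_XX h.vch hL ha) _).mp h2) (h.dif_mem hL ha hy hyX),
    h.W2_conj hL ha]
  (clear * -; tauto)

theorem ev_sq (h : CVW Om U) (hL : L ∈ Om) (ha : a ∈ normalizer (L : Set G)) : Ev U L (a * a) :=
  (h.ev_mul hL ha ha).mpr Iff.rfl

/-- TAU (1) -/
theorem ev_zz (h : CVW Om U) (hN : N ∈ Om) (hL : L ∈ Om) (hs : zz N ∈ normalizer (L : Set G)) (hw : w ∈ U L)
    (hw4 : orderOf w = 4) : Ev U L (zz N) ↔ zz N * w * (zz N)⁻¹ = w := by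
  obtain ⟨t, ⟨ht1, ht4, ht2, htX⟩, ht⟩ := TauMain.local_zz h.hyp h.vch hN hL hs
  rw [h.ev_iff hL hs ht2 htX]
  unfold TauMain.dl at ht
  simp only at ht
  have h1 : (zz N * t.1 * (zz N)⁻¹)⁻¹ * t.1 ∈ OO L ↔ zz N * w * (zz N)⁻¹ = w := by
    rw [h.oo hL, mem_bot, inv_mul_eq_one]
    rcases h.eq_or_inv hL hw hw4 ht1 ht4 with h2 | h2
    · rw [h2]
    · rw [h2]
      have h3 : zz N * w⁻¹ * (zz N)⁻¹ = (zz N * w * (zz N)⁻¹)⁻¹ := by group
      rw [h3, inv_inj]
  rw [← h1]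
  unfold TauMain.sg at ht
  by_cases hp : (zz N * t.1 * (zz N)⁻¹)⁻¹ * t.1 ∈ OO L <;>
    by_cases hq : W2 U L ((zz N * t.2 * (zz N)⁻¹)⁻¹ * t.2) <;> simp_all only [_root_.mul_inv_rev, _root_.inv_inv, _root_.mul_ite, _root_.mul_one, _root_.mul_neg, _root_.iff_true, ↓ _root_.reduceIte, _root_.neg_units_ne_self, _root_.iff_false, _root_.not_true_eq_false]

/-- an element of `C(A)` normalises the members -/
theorem norm_of_comm (h : CVW Om U) (hL : L ∈ Om) (hw : w ∈ U L) (hw4 : orderOf w = 4) (hc : x * w = w * x) :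
    x ∈ normalizer (L : Set G) :=
  h.norm_of_norm_U hL hw hw4 (by rw [hc, mul_inv_cancel_right]; exact hw)

/-- the elements of `X_K` which are not squares are odd on the members linked to `K` -/
theorem ev_XX (h : CVW Om U) (hA : IsA Om U A) (hK : K ∈ Om) (hvK : v ∈ U K) (hv : v ∈ RR Om U A)
    (hL : L ∈ Om) (hwL : w ∈ U L) (hw : w ∈ RR Om U A) (h0 : al Om U w v ≠ 0) (h2 : al Om U w v ≠ 2)
    (hx : x ∈ XX U K) : Ev U L x ↔ W2 U K x := by
  obtain ⟨c, y, n, hc, hcU, hu4, hcX, hyX, hcov⟩ := h.exists_coord hK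
  have hnorm : ∀ x ∈ XX U K, x ∈ normalizer (L : Set G) := fun x hx =>
    h.norm_of_comm hL hwL hw.2.1 (h.XX_comm hA hK hvK hv.2.1 hv.1 hx hw.1)
  have hcK := hc.c_mem
  obtain ⟨c', y', n', hc', -, -, hcX', hyX', hcov'⟩ := h.exists_coord hL
  -- the orders agree
  have hnn : n = n' := by
    have h4 := h.eqc K hK L hL
    rw [hc.card, hc'.card] at h4
    have := Nat.pow_right_injective (le_refl 2) h4
    simp only [Nat.add_right_cancel_iff] at this
    exact this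
  subst hnn
  -- `c` is odd
  have hodd : ¬ Ev U L c := by
    intro hev
    have key : ∀ j : ℕ, ∃ k ∈ XX U L, (c ^ 2 ^ j * y' * (c ^ 2 ^ j)⁻¹)⁻¹ * y' = k ^ 2 ^ (j + 1) := by
      intro j
      induction j with
      | zero =>
        obtain ⟨k, hk, hk2⟩ := (h.W2_iff hL).mp (hev y' hc'.v_mem hyX')
        refine ⟨k, hk, ?_⟩
        simpa only [pow_two, _root_.pow_zero, _root_.pow_one, _root_.mul_inv_rev, _root_.inv_inv, _root_.zero_add] using hk2
      | succ j ih =>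
        obtain ⟨k, hk, hkj⟩ := ih
        set d := c ^ 2 ^ j with hd
        have hdX : d ∈ XX U K := (XX U K).pow_mem hcX _
        have hdL := hnorm d hdX
        have hdk : d * k * d⁻¹ ∈ XX U L := (mem_normalizer_iff.mp (le_normalizer_XX h.vch hL hdL) k).mp hk
        have h5 : W2 U L (d * k * d⁻¹ * k) := (h.W2_mul hL hdk hk).mpr (h.W2_conj hL hdL)
        obtain ⟨m, hm, hmk⟩ := (h.W2_iff hL).mp h5
        refine ⟨m, hm, ?_⟩
        have hcomm : Commute (d * k * d⁻¹) k := by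
          obtain ⟨i, hi⟩ := hcov' _ hdk
          obtain ⟨i', hi'⟩ := hcov' _ hk
          rw [hi, hi']
          exact (Commute.refl c').pow_pow _ _
        have h6 : c ^ 2 ^ (j + 1) = d * d := by rw [hd, ← pow_add, ← two_mul, ← pow_succ']
        rw [h6]
        calc (d * d * y' * (d * d)⁻¹)⁻¹ * y'
            = d * ((d * y' * d⁻¹)⁻¹ * y') * d⁻¹ * ((d * y' * d⁻¹)⁻¹ * y') := by
              simp only [mul_inv_rev, inv_inv, mul_assoc, inv_mul_cancel_left, mul_inv_cancel_left]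
          _ = (d * k * d⁻¹) ^ 2 ^ (j + 1) * k ^ 2 ^ (j + 1) := by rw [hkj, conj_pow]
          _ = (m * m) ^ 2 ^ (j + 1) := by rw [← hcomm.mul_pow, hmk]
          _ = m ^ 2 ^ (j + 1 + 1) := by rw [← pow_two, ← pow_mul, ← pow_succ']
    obtain ⟨k, hk, hkn⟩ := key n
    have hkk : k ^ 2 ^ (n + 1) * k ^ 2 ^ (n + 1) = 1 := by
      obtain ⟨i, rfl⟩ := hcov' _ hk
      rw [← pow_add, ← two_mul, ← pow_succ', ← pow_mul, mul_comm, pow_mul, ← hc'.ord, pow_orderOf_eq_one, one_pow]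
    set u := c ^ 2 ^ n with hu
    have huR : u ∈ RR Om U A := ⟨h.U_le_A hA hK hvK hv.2.1 hv.1 hcU, hu4, K, hK, hcU⟩
    have hau : al Om U w u ≠ 0 ∧ al Om U w u ≠ 2 := by
      rcases h.eq_or_inv hK hvK hv.2.1 hcU hu4 with h5 | h5
      · rw [h5]; exact ⟨h0, h2⟩
      · rw [h5, h.al_inv hA hw hv.1]
        revert h0 h2
        generalize al Om U w v = i
        revert i
        decide
    have hyX'' : y'⁻¹ ∉ XX U L := fun hh => hyX' ((inv_mem_iff (H := XX U L)).mp hh)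
    have h7 := h.al_spec hA hL hwL hw.2.1 hw.1 (L.inv_mem hc'.v_mem) hyX'' huR.1
    rw [inv_inv] at h7
    have h8 : (u * y' * u⁻¹)⁻¹ * y' = pw w (al Om U w u) := by
      calc (u * y' * u⁻¹)⁻¹ * y' = u * (y'⁻¹ * u * y')⁻¹ := by group
        _ = u * ((pw w (-al Om U w u))⁻¹ * u⁻¹) := by rw [h7, mul_inv_rev]
        _ = u * (pw w (al Om U w u) * u⁻¹) := by rw [pw_neg hw.2.1, inv_inv]
        _ = pw w (al Om U w u) := by
          rw [← mul_assoc, pw_comm (h.comm hA huR.1 hw.1), mul_inv_cancel_right]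
    rw [hkn] at h8
    rw [h8, sq_pw hw.2.1] at hkk
    have h9 : pw w (2 * al Om U w u) = pw w 0 := by rw [hkk, pw_zero]
    have h10 := pw_inj hw.2.1 h9
    have h11 : ∀ i : ZMod 4, 2 * i = 0 → i = 0 ∨ i = 2 := by decide
    rcases h11 _ h10 with h12 | h12
    · exact hau.1 h12
    · exact hau.2 h12
  -- powers of `c`
  have hsq : ∀ k ∈ XX U K, Ev U L (k * k) := fun k hk => h.ev_sq hL (hnorm k hk)
  constructor
  · intro hev
    by_contra hW
    have hWc : ¬ W2 U K c := by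
      intro hWc
      obtain ⟨k, hk, hck⟩ := (h.W2_iff hK).mp hWc
      apply hodd
      rw [hck]
      exact hsq k hk
    have h5 : W2 U K (x * c) := (h.W2_mul hK hx hcX).mpr ⟨fun h6 => absurd h6 hW, fun h6 => absurd h6 hWc⟩
    obtain ⟨k, hk, hxk⟩ := (h.W2_iff hK).mp h5
    have h6 := hsq k hk
    rw [← hxk, h.ev_mul hL (hnorm x hx) (hnorm c hcX)] at h6
    exact hodd (h6.mp hev)
  · intro hW
    obtain ⟨k, hk, rfl⟩ := (h.W2_iff hK).mp hW
    exact hsq k hk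

/-- `g` inverting the root `v` -/
theorem al_inverted (h : CVW Om U) (hA : IsA Om U A) (hg : g ∈ normalizer (A : Set G)) (hv : v ∈ RR Om U A)
    (hgv : g * v * g⁻¹ = v⁻¹) (ha : a ∈ A) : al Om U v (g * a * g⁻¹) = -al Om U v a := by
  have h1 := h.al_conj hA hg hv ha
  rw [hgv, h.al_neg hA hv ((mem_normalizer_iff.mp hg a).mp ha)] at h1
  rw [← h1, neg_neg]

/-- parity is additive on the third member -/
theorem ev_link (h : CVW Om U) (hA : IsA Om U A) (hK : K ∈ Om) (hvK : v ∈ U K) (hv : v ∈ RR Om U A)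
    (hL : L ∈ Om) (hwL : w ∈ U L) (hw : w ∈ RR Om U A) (h0 : al Om U w v ≠ 0) (h2 : al Om U w v ≠ 2)
    (hy : y ∈ K) (hyX : y ∉ XX U K) (hgK : g ∈ normalizer (K : Set G)) (hgL : g ∈ normalizer (L : Set G))
    (hgM : g ∈ normalizer (cj y L : Set G)) : Ev U (cj y L) g ↔ (Ev U K g ↔ Ev U L g) := by
  obtain ⟨t, ht, htX⟩ := h.exists_y hL
  have hM := h.hyp.conj L hL y
  have htX' : y * t * y⁻¹ ∉ XX U (cj y L) := fun hh => htX ((conj_mem_XX (h.vch.cj L hL y)).mp hh)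
  have hd := h.dif_mem hK hgK hy hyX
  set x := y⁻¹ * (g * y * g⁻¹) with hx
  have hx' : (g * y * g⁻¹)⁻¹ * y = x⁻¹ := by rw [hx]; group
  rw [hx'] at hd
  have hxX : x ∈ XX U K := (inv_mem_iff (H := XX U K)).mp hd
  have hxL : x ∈ normalizer (L : Set G) :=
    h.norm_of_comm hL hwL hw.2.1 (h.XX_comm hA hK hvK hv.2.1 hv.1 hxX hw.1)
  have hd' := h.dif_mem hL hgL ht htX
  rw [h.ev_iff hM hgM (conj_mem_cj ht) htX', h.ev_iff hK hgK hy hyX, h.ev_iff hL hgL ht htX, hx',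
    h.W2_inv hK hxX, ← h.ev_XX hA hK hvK hv hL hwL hw h0 h2 hxX, h.ev_iff hL hxL ht htX]
  have h1 : (g * (y * t * y⁻¹) * g⁻¹)⁻¹ * (y * t * y⁻¹) =
      y * ((x * ((g * t * g⁻¹)⁻¹ * t) * t⁻¹ * x⁻¹) * t) * y⁻¹ := by
    rw [hx]; group
  have h3 : (x * ((g * t * g⁻¹)⁻¹ * t) * t⁻¹ * x⁻¹) * t =
      (x * ((g * t * g⁻¹)⁻¹ * t) * x⁻¹) * ((x * t * x⁻¹)⁻¹ * t) := by group
  rw [h1, conj_W2 (h.vch.cj L hL y), h3,
    h.W2_mul hL ((mem_normalizer_iff.mp (le_normalizer_XX h.vch hL hxL) _).mp hd') (h.dif_mem hL hxL ht htX),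
    h.W2_conj hL hxL]
  (clear * -; tauto)

/-- **(0.2)** `s = zz N` in `N(A)` inverting the root `v`; `w` linked to `v` -/
theorem inverted (h : CVW Om U) (hA : IsA Om U A) (hN : N ∈ Om) (hsA : zz N ∈ normalizer (A : Set G))
    (hv : v ∈ RR Om U A) (hw : w ∈ RR Om U A) (h0 : al Om U v w ≠ 0) (h2 : al Om U v w ≠ 2)
    (hsv : zz N * v * (zz N)⁻¹ = v⁻¹) :
    zz N * w * (zz N)⁻¹ ≠ w ∧ zz N * w * (zz N)⁻¹ ≠ w⁻¹ ∧ zz N * w * (zz N)⁻¹ ≠ rf Om U v w ∧
      zz N * w * (zz N)⁻¹ ≠ (rf Om U v w)⁻¹ := by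
  have hw0 : al Om U w v ≠ 0 := fun hh => h0 (h.al_zero_symm hA hw hv hh)
  have hw2 : al Om U w v ≠ 2 := fun hh => h2 (h.al_two_symm hA hw hv hh)
  obtain ⟨K, hK, hvK, y, hy, hyX, hyA, hyy, hrf⟩ := h.exists_root hA hv
  obtain ⟨L, hL, hwL, -⟩ := h.exists_root hA hw
  have hv4 := hv.2.1
  have hw4 := hw.2.1
  have hsK : zz N ∈ normalizer (K : Set G) :=
    h.norm_of_norm_U hK hvK hv4 (by rw [hsv]; exact (U K).inv_mem hvK)
  have hne : ∀ {v : G}, orderOf v = 4 → v⁻¹ ≠ v := by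
    intro v hv4 hh
    have h3 : v ^ 2 = 1 := by rw [pow_two]; nth_rw 1 [← hh]; exact inv_mul_cancel v
    have h4 := orderOf_dvd_of_pow_eq_one h3
    rw [hv4] at h4
    exact absurd (Nat.le_of_dvd (by norm_num) h4) (by norm_num)
  have hsEv : ∀ {L : Subgroup G} {w : G}, L ∈ Om → w ∈ U L → orderOf w = 4 → zz N * w * (zz N)⁻¹ = w⁻¹ →
      zz N ∈ normalizer (L : Set G) ∧ ¬ Ev U L (zz N) := by
    intro L w hL hwL hw4 hsw
    have h3 : zz N ∈ normalizer (L : Set G) :=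
      h.norm_of_norm_U hL hwL hw4 (by rw [hsw]; exact (U L).inv_mem hwL)
    refine ⟨h3, fun hev => ?_⟩
    rw [h.ev_zz hN hL h3 hwL hw4, hsw] at hev
    exact hne hw4 hev
  have hKodd := (hsEv hK hvK hv4 hsv).2
  -- the third member
  have hM := h.hyp.conj L hL y
  have hmM : rf Om U v w ∈ U (cj y L) := by rw [← hrf w hw.1]; exact h.vch.conj_mem hL hwL y
  have hm4 : orderOf (rf Om U v w) = 4 := by rw [← hrf w hw.1]; exact orderOf_conj_four hw4 y
  -- the last two alternatives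
  have last : y⁻¹ * zz N ∈ normalizer (L : Set G) → False := by
    intro hu
    have hd := h.dif_mem hK hsK hy hyX
    set x := y⁻¹ * (zz N * y * (zz N)⁻¹) with hx
    have hx' : (zz N * y * (zz N)⁻¹)⁻¹ * y = x⁻¹ := by rw [hx]; group
    have hxX : x ∈ XX U K := by rw [hx'] at hd; exact (inv_mem_iff (H := XX U K)).mp hd
    have hxodd : ¬ W2 U K x := by
      rw [← h.W2_inv hK hxX, ← hx', ← h.ev_iff hK hsK hy hyX]
      exact hKodd
    have hyx := (h.y_facts hK hy hyX).2.2 x hxX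
    have h3 : (y⁻¹ * zz N) * (y⁻¹ * zz N) = x * zz K := by
      have h4 : y⁻¹ * x⁻¹ * y = x := by
        rw [← hyx]; group
      calc (y⁻¹ * zz N) * (y⁻¹ * zz N) = (y⁻¹ * zz N) * (y⁻¹ * (zz N)⁻¹) := by rw [h.hyp.zz_inv hN]
        _ = y⁻¹ * (y⁻¹ * (zz N * y * (zz N)⁻¹))⁻¹ * y * (y * y)⁻¹ := by group
        _ = x * (zz K)⁻¹ := by rw [← hx, h4, (h.y_facts hK hy hyX).1]
        _ = x * zz K := by rw [h.hyp.zz_inv hK]
    have h4 := h.ev_sq hL hu
    have hzX : zz K ∈ XX U K := by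
      rw [← h.sq_eq hK hvK hv4]
      exact (XX U K).mul_mem (h.U_le_XX hK hvK) (h.U_le_XX hK hvK)
    have hz2 : W2 U K (zz K) := (h.W2_iff hK).mpr ⟨v, h.U_le_XX hK hvK, (h.sq_eq hK hvK hv4).symm⟩
    rw [h3, h.ev_XX hA hK hvK hv hL hwL hw hw0 hw2 ((XX U K).mul_mem hxX hzX), h.W2_mul hK hxX hzX] at h4
    exact hxodd (h4.mpr hz2)
  have hconj : ∀ e : G, (e = w ∨ e = w⁻¹) → zz N * w * (zz N)⁻¹ = y * e * y⁻¹ → y⁻¹ * zz N ∈ normalizer (L : Set G) := by
    intro e he hse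
    apply h.norm_of_norm_U hL hwL hw4
    have h3 : y⁻¹ * zz N * w * (y⁻¹ * zz N)⁻¹ = e := by
      calc y⁻¹ * zz N * w * (y⁻¹ * zz N)⁻¹ = y⁻¹ * (zz N * w * (zz N)⁻¹) * y := by group
        _ = e := by rw [hse]; group
    rw [h3]
    rcases he with rfl | rfl
    · exact hwL
    · exact (U L).inv_mem hwL
  refine ⟨fun hh => ?_, fun hh => ?_, fun hh => ?_, fun hh => ?_⟩
  · have h3 := h.al_inverted hA hsA hv hsv hw.1
    rw [hh] at h3
    revert h0 h2 h3
    generalize al Om U v w = i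
    revert i
    decide
  · obtain ⟨hsL, hLodd⟩ := hsEv hL hwL hw4 hh
    have h3 : zz N * rf Om U v w * (zz N)⁻¹ = (rf Om U v w)⁻¹ := by
      have h4 : zz N * rf Om U v w * (zz N)⁻¹ = (zz N * w * (zz N)⁻¹) * (zz N * pw v (-al Om U v w) * (zz N)⁻¹) := by
        rw [rf]; group
      rw [h4, hh, conj_pw, hsv, pw_inv hv4, pw_neg hv4, rf, mul_inv_rev,
        h.comm hA (A.inv_mem hw.1) (A.inv_mem (pw_mem hv.1 _))]
    obtain ⟨hsM, hModd⟩ := hsEv hM hmM hm4 h3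
    rw [h.ev_link hA hK hvK hv hL hwL hw hw0 hw2 hy hyX hsK hsL hsM] at hModd
    (clear * - hKodd hLodd hModd; tauto)
  · rw [← hrf w hw.1] at hh
    exact last (hconj w (Or.inl rfl) hh)
  · rw [← hrf w hw.1] at hh
    exact last (hconj w⁻¹ (Or.inr rfl) (by rw [hh]; group))

end CVW

end Cfsg.Agent.Cit.CV

private theorem dce_891a49978ac1 : _root_.True := by
  try have : _root_.True := by simp only [_root_.Cfsg.Agent.Cit.CV.rf.eq_1]
  exact _root_.True.intro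
end

-- part: Cit/Nil/CV/XLevel
section
set_option linter.all false
open scoped Cfsg.Agent.FastGrp

/-!
# S1309 (CV): the cyclic parts `X_K = XX U K`

Helper 542, on top of helper748's `CVW`.
`xx_comm` : (X1) `[X_K, X_L] = 1`.  `y_xx`, `y_xx_odd` : (X2) `x_L^{y_K} = x_L x_K^odd` for linked `K`, `L`.
`inv_xx` : `s = zz N` inverting `V_K` inverts `X_K`, and `y_K^s = x_K^odd y_K` (`inv_y`).
`zz_comm` : `z_N` centralises `V_K` iff `z_K` centralises `V_N`.
`cent_xx` : an element of `C(A)` centralising `X_K` centralises `X_L`, `L` linked to `K`.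
-/

set_option autoImplicit false
set_option linter.style.haveILetI false
set_option linter.unusedSectionVars false

namespace Cfsg.Agent.Cit.Nil.CV.XLevel

open Subgroup Cfsg Cit Tau Cit.CV

variable {G : Type*} [Group G] [Finite G] {Om : Set (Subgroup G)} {U : Subgroup G → Subgroup G}
  {A K L M N : Subgroup G} {a b g s t v w x x' y : G}

/-- different involutions: trivial intersection -/
theorem zz_eq_of_mem (h : CVW Om U) (hK : K ∈ Om) (hL : L ∈ Om) (h1 : t ∈ K) (h2 : t ∈ L) (h3 : t ≠ 1) :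
    zz K = zz L := by
  haveI : Fact (Nat.Prime 2) := ⟨Nat.prime_two⟩
  have h4 : IsPGroup 2 (K ⊓ L : Subgroup G) := (h.two K hK).to_le inf_le_left
  obtain ⟨k, hk⟩ := IsPGroup.iff_card.1 h4
  have h5 : 2 ∣ Nat.card (K ⊓ L : Subgroup G) := by
    rw [hk]
    apply dvd_pow_self
    rintro rfl
    rw [pow_zero, card_eq_one] at hk
    have h6 : t ∈ K ⊓ L := ⟨h1, h2⟩
    rw [hk, mem_bot] at h6
    exact h3 h6
  obtain ⟨r, hr⟩ := exists_prime_orderOf_dvd_card' 2 h5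
  have hr' : orderOf (r : G) = 2 := by rw [Subgroup.orderOf_coe, hr]
  rw [← h.hyp.uniq K hK _ r.2.1 hr', ← h.hyp.uniq L hL _ r.2.2 hr']

/-- `X_K` is abelian -/
theorem xx_comm_self (h : CVW Om U) (hK : K ∈ Om) (hx : x ∈ XX U K) (hx' : x' ∈ XX U K) : x * x' = x' * x := by
  obtain ⟨c, y, n, hc, hcU, hu4, hcX, hyX, hcov⟩ := h.exists_coord hK
  obtain ⟨i, rfl⟩ := hcov x hx
  obtain ⟨j, rfl⟩ := hcov x' hx'
  exact ((Commute.refl c).pow_pow i j).eq

/-- the elements of `X_K` centralise `A` -/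
theorem xx_A (h : CVW Om U) (hA : IsA Om U A) (hK : K ∈ Om) (hvK : v ∈ U K) (hv : v ∈ RR Om U A)
    (hx : x ∈ XX U K) (ha : a ∈ A) : x * a = a * x := h.XX_comm hA hK hvK hv.2.1 hv.1 hx ha

/-- an element centralising `A` normalises the members over `A` -/
theorem norm_of_cent (h : CVW Om U) (hK : K ∈ Om) (hvK : v ∈ U K) (hv : v ∈ RR Om U A)
    (hg : ∀ a ∈ A, g * a = a * g) : g ∈ normalizer (K : Set G) :=
  h.norm_of_comm hK hvK hv.2.1 (hg v hv.1)

/-- **(X1)** -/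
theorem xx_comm (h : CVW Om U) (hA : IsA Om U A) (hK : K ∈ Om) (hvK : v ∈ U K) (hv : v ∈ RR Om U A)
    (hL : L ∈ Om) (hwL : w ∈ U L) (hw : w ∈ RR Om U A) (hx : x ∈ XX U K) (hx' : x' ∈ XX U L) :
    x * x' = x' * x := by
  by_cases hz : zz K = zz L
  · by_cases hKL : K = L
    · subst hKL
      exact xx_comm_self h hK hx hx'
    · exact h.comm_of_zz_eq hK hL hz hKL (XX_le K hx) (XX_le L hx')
  · have hxL : x ∈ normalizer (L : Set G) := norm_of_cent h hL hwL hw (fun a ha => xx_A h hA hK hvK hv hx ha)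
    have hxK : x' ∈ normalizer (K : Set G) := norm_of_cent h hK hvK hv (fun a ha => xx_A h hA hL hwL hw hx' ha)
    have h1 : x * x' * x⁻¹ * x'⁻¹ ∈ L :=
      L.mul_mem ((mem_normalizer_iff.mp hxL x').mp (XX_le L hx')) (L.inv_mem (XX_le L hx'))
    have h2 : x * x' * x⁻¹ * x'⁻¹ ∈ K := by
      have h3 := K.mul_mem (XX_le K hx) ((mem_normalizer_iff.mp hxK x⁻¹).mp (K.inv_mem (XX_le K hx)))
      have h4 : x * (x' * x⁻¹ * x'⁻¹) = x * x' * x⁻¹ * x'⁻¹ := by group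
      rwa [h4] at h3
    by_contra hne
    apply hz
    refine zz_eq_of_mem h hK hL h2 h1 ?_
    intro h5
    rw [mul_inv_eq_one, mul_inv_eq_iff_eq_mul] at h5
    exact hne h5

/-- the elements of `C(A) ∩ K` -/
theorem mem_xx_of_cent (h : CVW Om U) (hK : K ∈ Om) (hvK : v ∈ U K) (hv : v ∈ RR Om U A) (hx : x ∈ K)
    (hc : ∀ a ∈ A, x * a = a * x) : x ∈ XX U K :=
  (h.mem_XX_iff hK hvK hv.2.1 hx).mpr (hc v hv.1)

/-- `N(A)` acts on `C(A)` -/
theorem cent_conj (hg : g ∈ normalizer (A : Set G)) (hx : ∀ a ∈ A, x * a = a * x) :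
    ∀ a ∈ A, (g * x * g⁻¹) * a = a * (g * x * g⁻¹) := by
  intro a ha
  have h1 : g⁻¹ * a * g ∈ A := by
    have := (mem_normalizer_iff.mp (inv_mem hg) a).mp ha
    rwa [inv_inv] at this
  calc g * x * g⁻¹ * a = g * (x * (g⁻¹ * a * g)) * g⁻¹ := by group
    _ = g * ((g⁻¹ * a * g) * x) * g⁻¹ := by rw [hx _ h1]
    _ = a * (g * x * g⁻¹) := by group

theorem cent_mul (hx : ∀ a ∈ A, x * a = a * x) (hy : ∀ a ∈ A, y * a = a * y) :
    ∀ a ∈ A, (x * y) * a = a * (x * y) := by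
  intro a ha
  rw [mul_assoc, hy a ha, ← mul_assoc, hx a ha, mul_assoc]

theorem cent_inv (hx : ∀ a ∈ A, x * a = a * x) : ∀ a ∈ A, x⁻¹ * a = a * x⁻¹ := by
  intro a ha
  rw [inv_mul_eq_iff_eq_mul, ← mul_assoc, hx a ha, mul_inv_cancel_right]

/-- **(X2)**: `y x' y⁻¹ = θ x'`, `θ ∈ X_K` -/
theorem y_xx (h : CVW Om U) (hA : IsA Om U A) (hK : K ∈ Om) (hvK : v ∈ U K) (hv : v ∈ RR Om U A)
    (hL : L ∈ Om) (hwL : w ∈ U L) (hw : w ∈ RR Om U A) (hy : y ∈ K) (hx' : x' ∈ XX U L) :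
    y * x' * y⁻¹ * x'⁻¹ ∈ XX U K := by
  have hxA : ∀ a ∈ A, x' * a = a * x' := fun a ha => xx_A h hA hL hwL hw hx' ha
  have hyA := h.K_le_norm hA hK hvK hv.2.1 hv.1 hy
  have hxK := norm_of_cent h hK hvK hv hxA
  refine mem_xx_of_cent h hK hvK hv ?_ (cent_mul (cent_conj hyA hxA) (cent_inv hxA))
  have h3 := K.mul_mem hy ((mem_normalizer_iff.mp hxK y⁻¹).mp (K.inv_mem hy))
  have h4 : y * (x' * y⁻¹ * x'⁻¹) = y * x' * y⁻¹ * x'⁻¹ := by group
  rwa [h4] at h3

/-- **(X2)**: `θ` is odd iff `x'` is -/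
theorem y_xx_odd (h : CVW Om U) (hA : IsA Om U A) (hK : K ∈ Om) (hvK : v ∈ U K) (hv : v ∈ RR Om U A)
    (hL : L ∈ Om) (hwL : w ∈ U L) (hw : w ∈ RR Om U A) (h0 : al Om U v w ≠ 0) (h2 : al Om U v w ≠ 2)
    (hy : y ∈ K) (hyX : y ∉ XX U K) (hx' : x' ∈ XX U L) :
    W2 U K (y * x' * y⁻¹ * x'⁻¹) ↔ W2 U L x' := by
  have hxA : ∀ a ∈ A, x' * a = a * x' := fun a ha => xx_A h hA hL hwL hw hx' ha
  have hxK := norm_of_cent h hK hvK hv hxA
  rw [← h.ev_XX hA hL hwL hw hK hvK hv h0 h2 hx', h.ev_iff hK hxK hy hyX,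
    ← h.W2_conj hK (inv_mem (le_normalizer hy))]
  have h1 : y⁻¹ * (y * x' * y⁻¹ * x'⁻¹) * y⁻¹⁻¹ = (x' * y * x'⁻¹)⁻¹ * y := by group
  rw [h1]

/-- an odd element generates `X_K` -/
theorem gen_of_odd (h : CVW Om U) (hK : K ∈ Om) (hx : x ∈ XX U K) (hodd : ¬ W2 U K x) (hx' : x' ∈ XX U K) :
    ∃ i : ℤ, x' = x ^ i := by
  obtain ⟨c, y, n, hc, hcU, hu4, hcX, hyX, hcov⟩ := h.exists_coord hK
  obtain ⟨j, rfl⟩ := hcov x hx
  have hj : Odd j := by
    by_contra hj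
    rw [Nat.not_odd_iff_even] at hj
    obtain ⟨k, rfl⟩ := hj
    exact hodd ((h.W2_iff hK).mpr ⟨c ^ k, (XX U K).pow_mem hcX k, by rw [pow_add]⟩)
  have hco : Nat.Coprime (orderOf c) j := by
    rw [hc.ord]
    exact Nat.Coprime.pow_left _ (Nat.coprime_two_left.2 hj)
  have h1 : zpowers (c ^ j) = zpowers c := by
    apply eq_of_le_of_card_ge (zpowers_le.2 (pow_mem (mem_zpowers c) j))
    rw [Nat.card_zpowers, Nat.card_zpowers, Nat.Coprime.orderOf_pow hco]
  obtain ⟨i, rfl⟩ := hcov x' hx'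
  have h2 : c ^ i ∈ zpowers (c ^ j) := by rw [h1]; exact pow_mem (mem_zpowers c) i
  obtain ⟨k, hk⟩ := h2
  exact ⟨k, hk.symm⟩

theorem exists_odd (h : CVW Om U) (hK : K ∈ Om) : ∃ x ∈ XX U K, ¬ W2 U K x := by
  obtain ⟨c, y, n, hc, hcU, hu4, hcX, hyX, hcov⟩ := h.exists_coord hK
  refine ⟨c, hcX, fun h1 => ?_⟩
  obtain ⟨k, hk, hck⟩ := (h.W2_iff hK).mp h1
  obtain ⟨i, rfl⟩ := hcov k hk
  rw [← pow_add] at hck
  have h2 : c ^ (((i + i : ℕ) : ℤ) - 1) = 1 := by
    rw [zpow_sub, zpow_natCast, ← hck, zpow_one, mul_inv_cancel]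
  have h3 := orderOf_dvd_iff_zpow_eq_one.2 h2
  rw [hc.ord, pow_succ] at h3
  push_cast at h3
  obtain ⟨m, hm⟩ := h3
  have : (2 : ℤ) ∣ 1 := ⟨(i : ℤ) - 2 ^ (n + 1) * m, by linarith⟩
  norm_num at this

/-- the order of an odd element depends only on the class -/
theorem odd_order (h : CVW Om U) (hK : K ∈ Om) (hL : L ∈ Om) (hx : x ∈ XX U K) (hodd : ¬ W2 U K x)
    (hx' : x' ∈ XX U L) {i : ℤ} (hi : x ^ i = 1) : x' ^ i = 1 := by
  obtain ⟨c, y, n, hc, hcU, hu4, hcX, hyX, hcov⟩ := h.exists_coord hK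
  obtain ⟨c', y', n', hc', hcU', hu4', hcX', hyX', hcov'⟩ := h.exists_coord hL
  have hnn : n = n' := by
    have h4 := h.eqc K hK L hL
    rw [hc.card, hc'.card] at h4
    have := Nat.pow_right_injective (le_refl 2) h4
    simp only [Nat.add_right_cancel_iff] at this
    exact this
  subst hnn
  obtain ⟨k, hk⟩ := gen_of_odd h hK hx hodd hcX
  obtain ⟨j, rfl⟩ := hcov' x' hx'
  have h1 : c ^ i = 1 := by rw [hk, ← zpow_mul, mul_comm, zpow_mul, hi, one_zpow]
  have h2 : c' ^ i = 1 := by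
    rw [← orderOf_dvd_iff_zpow_eq_one, hc'.ord, ← hc.ord, orderOf_dvd_iff_zpow_eq_one]
    exact h1
  rw [← zpow_natCast, ← zpow_mul, mul_comm, zpow_mul, h2, one_zpow]

/-- `s = zz N` inverting `V_K`: the parity -/
theorem inv_y (h : CVW Om U) (hN : N ∈ Om) (hK : K ∈ Om) (hv : v ∈ U K) (hv4 : orderOf v = 4)
    (hsv : zz N * v * (zz N)⁻¹ = v⁻¹) (hy : y ∈ K) (hyX : y ∉ XX U K) :
    (zz N * y * (zz N)⁻¹)⁻¹ * y ∈ XX U K ∧ ¬ W2 U K ((zz N * y * (zz N)⁻¹)⁻¹ * y) := by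
  have hsK : zz N ∈ normalizer (K : Set G) :=
    h.norm_of_norm_U hK hv hv4 (by rw [hsv]; exact (U K).inv_mem hv)
  refine ⟨h.dif_mem hK hsK hy hyX, ?_⟩
  rw [← h.ev_iff hK hsK hy hyX, h.ev_zz hN hK hsK hv hv4, hsv]
  intro hh
  have h3 : v ^ 2 = 1 := by rw [pow_two]; nth_rw 1 [← hh]; exact inv_mul_cancel v
  have h4 := orderOf_dvd_of_pow_eq_one h3
  rw [hv4] at h4
  exact absurd (Nat.le_of_dvd (by norm_num) h4) (by norm_num)

/-- **(X3)**: `s = zz N` inverting `V_K` inverts `X_K` -/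
theorem inv_xx (h : CVW Om U) (hN : N ∈ Om) (hK : K ∈ Om) (hv : v ∈ U K) (hv4 : orderOf v = 4)
    (hsv : zz N * v * (zz N)⁻¹ = v⁻¹) (hx : x ∈ XX U K) : zz N * x * (zz N)⁻¹ = x⁻¹ := by
  obtain ⟨y, hy, hyX⟩ := h.exists_y hK
  obtain ⟨hd, hodd⟩ := inv_y h hN hK hv hv4 hsv hy hyX
  obtain ⟨d, hdd⟩ : ∃ d, d = (zz N * y * (zz N)⁻¹)⁻¹ * y := ⟨_, rfl⟩
  rw [← hdd] at hd hodd
  have hzi := h.hyp.zz_inv hN
  have hzz := h.hyp.zz_mul hN
  have h1 : zz N * y * (zz N)⁻¹ = y * d⁻¹ := by rw [hdd]; group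
  have h2 : y = (y * d⁻¹) * (zz N * d * (zz N)⁻¹)⁻¹ := by
    calc y = (zz N * zz N) * y * (zz N * zz N)⁻¹ := by rw [hzz]; group
      _ = zz N * (zz N * y * (zz N)⁻¹) * (zz N)⁻¹ := by group
      _ = zz N * (y * d⁻¹) * (zz N)⁻¹ := by rw [h1]
      _ = (zz N * y * (zz N)⁻¹) * (zz N * d * (zz N)⁻¹)⁻¹ := by group
      _ = _ := by rw [h1]
  have h3 : zz N * d * (zz N)⁻¹ = d⁻¹ := by
    have h4 : d⁻¹ * (zz N * d * (zz N)⁻¹)⁻¹ = 1 := by
      have h5 : y * (d⁻¹ * (zz N * d * (zz N)⁻¹)⁻¹) = y := by rw [← mul_assoc, ← h2]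
      exact mul_eq_left.mp h5
    exact (mul_inv_eq_one.1 h4).symm
  obtain ⟨i, rfl⟩ := gen_of_odd h hK hd hodd hx
  rw [← conj_zpow, h3, inv_zpow]

/-- the cyclic parts of linked members intersect trivially -/
theorem zz_ne_of_linked (h : CVW Om U) (hA : IsA Om U A) (hK : K ∈ Om) (hvK : v ∈ U K) (hv : v ∈ RR Om U A)
    (hL : L ∈ Om) (hwL : w ∈ U L) (hw : w ∈ RR Om U A) (h0 : al Om U v w ≠ 0) (h2 : al Om U v w ≠ 2) :
    zz K ≠ zz L := by
  intro hz
  by_cases hKL : K = L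
  · subst hKL
    apply h2
    rcases h.eq_or_inv hK hvK hv.2.1 hwL hw.2.1 with h3 | h3
    · rw [h3, h.al_self hA hv]
    · rw [h3, h.al_inv hA hv hv.1, h.al_self hA hv]; decide
  · apply h0
    obtain ⟨y, hy, hyX⟩ := h.exists_y hK
    refine h.al_eq hA hK hvK hv.2.1 hv.1 hy hyX hw.1 ?_
    rw [h.comm_of_zz_eq hK hL hz hKL hy (h.vch.le L hL hwL), mul_inv_cancel_right, neg_zero, pw_zero, mul_one]

/-- **(X5)**: an element of `C(A)` centralising `X_K` centralises `X_L`, `L` linked to `K` -/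
theorem cent_xx (h : CVW Om U) (hA : IsA Om U A) (hK : K ∈ Om) (hvK : v ∈ U K) (hv : v ∈ RR Om U A)
    (hL : L ∈ Om) (hwL : w ∈ U L) (hw : w ∈ RR Om U A) (h0 : al Om U v w ≠ 0) (h2 : al Om U v w ≠ 2)
    (hgA : ∀ a ∈ A, g * a = a * g) (hgK : ∀ x ∈ XX U K, g * x = x * g) (hx' : x' ∈ XX U L) :
    g * x' = x' * g := by
  obtain ⟨c, hcX, hcodd⟩ := exists_odd h hL
  obtain ⟨y, hy, hyX⟩ := h.exists_y hK
  have hyA := h.K_le_norm hA hK hvK hv.2.1 hv.1 hy
  have hgL := norm_of_cent h hL hwL hw hgA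
  have hθX := y_xx h hA hK hvK hv hL hwL hw hy hcX
  have hθodd := y_xx_odd h hA hK hvK hv hL hwL hw h0 h2 hy hyX hcX
  obtain ⟨θ, hθ⟩ : ∃ θ, θ = y * c * y⁻¹ * c⁻¹ := ⟨_, rfl⟩
  rw [← hθ] at hθX hθodd
  have hyc : y * c * y⁻¹ = θ * c := by rw [hθ]; group
  have hθc : Commute θ c := xx_comm h hA hK hvK hv hL hwL hw hθX hcX
  -- `g` normalises `M = L^y`
  have hgM : y⁻¹ * g * y ∈ normalizer (L : Set G) := by
    have h3 := cent_conj (inv_mem hyA) hgA
    rw [inv_inv] at h3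
    exact norm_of_cent h hL hwL hw h3
  have h3 : (y⁻¹ * g * y) * c * (y⁻¹ * g * y)⁻¹ ∈ XX U L :=
    (mem_normalizer_iff.mp (le_normalizer_XX h.vch hL hgM) c).mp hcX
  obtain ⟨ν, hν⟩ := gen_of_odd h hL hcX hcodd h3
  have h4 : g * c * g⁻¹ ∈ XX U L := (mem_normalizer_iff.mp (le_normalizer_XX h.vch hL hgL) c).mp hcX
  obtain ⟨μ, hμ⟩ := gen_of_odd h hL hcX hcodd h4
  have h5 : g * (θ * c) * g⁻¹ = (θ * c) ^ ν := by
    calc g * (θ * c) * g⁻¹ = g * (y * c * y⁻¹) * g⁻¹ := by rw [hyc]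
      _ = y * ((y⁻¹ * g * y) * c * (y⁻¹ * g * y)⁻¹) * y⁻¹ := by group
      _ = (y * c * y⁻¹) ^ ν := by rw [hν, conj_zpow]
      _ = _ := by rw [hyc]
  have h6 : g * (θ * c) * g⁻¹ = θ * c ^ μ := by
    calc g * (θ * c) * g⁻¹ = (g * θ * g⁻¹) * (g * c * g⁻¹) := by group
      _ = _ := by rw [hμ, hgK θ hθX, mul_inv_cancel_right]
  rw [h6, hθc.mul_zpow] at h5
  have h7 : θ ^ (ν - 1) = c ^ (μ - ν) := by
    have h8 : θ * c ^ μ * (c ^ ν)⁻¹ = θ ^ ν := by rw [h5]; group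
    rw [zpow_sub_one, ← h8, zpow_sub]
    have h9 : θ * c ^ μ * (c ^ ν)⁻¹ = c ^ μ * (c ^ ν)⁻¹ * θ := by
      rw [mul_assoc, ← zpow_neg, ← zpow_add, (hθc.zpow_right _).eq]
    rw [h9, mul_inv_cancel_right]
  have h8 : θ ^ (ν - 1) = 1 := by
    by_contra hne
    exact zz_ne_of_linked h hA hK hvK hv hL hwL hw h0 h2
      (zz_eq_of_mem h hK hL (K.zpow_mem (XX_le K hθX) _) (by rw [h7]; exact L.zpow_mem (XX_le L hcX) _) hne)
  have h9 : c ^ (μ - ν) = 1 := by rw [← h7, h8]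
  have h10 : c ^ (ν - 1) = 1 := odd_order h hK hL hθX (fun hh => hcodd (hθodd.mp hh)) hcX h8
  have h11 : c ^ μ = c := by
    have : c ^ μ = c ^ (μ - ν) * c ^ (ν - 1) * c := by
      rw [← zpow_add, ← zpow_add_one]; congr 1; ring
    rw [this, h9, h10, one_mul, one_mul]
  have h12 : Commute g c := by
    rw [h11] at hμ
    exact mul_inv_eq_iff_eq_mul.mp hμ
  obtain ⟨i, rfl⟩ := gen_of_odd h hL hcX hcodd hx'
  exact (h12.zpow_right i).eq

end Cfsg.Agent.Cit.Nil.CV.XLevel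
end

-- part: Cit/Nil/CV1/World
section
set_option linter.all false

/-!
# (6b)(CV), rank one: the world, the block relation, R1

`RW Om U` : helper748's `CVW` with "nothing linked": commuting `V_K`, `V_L` implies `K = L` or `[K, L] = 1`.
`Orth K L` : `K ≠ L`, `[K, L] = 1`.
`Conn Om H` : connectedness in the graph "`[K, L]` not contained in `O(H)`" on the members contained in `H`.
`R1 Om H` : orthogonal members of `H` are not connected.
`LemT Om U` : LEMMA T.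

Text: `blueprints/CIT-6b-CV-rank1-helper516.md`.
-/

set_option autoImplicit false
set_option linter.style.haveILetI false
set_option linter.unusedSectionVars false

namespace Cfsg.Agent.Cit.CV1

open Subgroup Cfsg Cit Tau CV

variable {G : Type*} [Group G]

/-- the world of (CV), rank one, members are 2-groups -/
structure RW (Om : Set (Subgroup G)) (U : Subgroup G → Subgroup G) : Prop extends CVW Om U where
  lin : ∀ K ∈ Om, ∀ L ∈ Om, ∀ v ∈ U K, ∀ w ∈ U L, orderOf v = 4 → orderOf w = 4 → v * w = w * v →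
    K = L ∨ ∀ x ∈ K, ∀ y ∈ L, x * y = y * x

/-- distinct commuting subgroups -/
def Orth (K L : Subgroup G) : Prop := K ≠ L ∧ ∀ x ∈ K, ∀ y ∈ L, x * y = y * x

/-- adjacency in the block graph of `H` -/
def Adj (Om : Set (Subgroup G)) (H K L : Subgroup G) : Prop :=
  (K ∈ Om ∧ K ≤ H) ∧ (L ∈ Om ∧ L ≤ H) ∧ ¬ ⁅K, L⁆ ≤ OO H

/-- the block relation of `H` -/
def Conn (Om : Set (Subgroup G)) (H : Subgroup G) : Subgroup G → Subgroup G → Prop :=
  Relation.ReflTransGen (Adj Om H)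

/-- **R1** for `H` -/
def R1 (Om : Set (Subgroup G)) (H : Subgroup G) : Prop :=
  ∀ K ∈ Om, ∀ L ∈ Om, K ≤ H → L ≤ H → Orth K L → ¬ Conn Om H K L

/-- LEMMA T: if `zz N` commutes with `zz K` and not with `v ∈ U K` of order 4, then `K`, `N` are the only members over
`zz K`, `zz N` -/
def LemT (Om : Set (Subgroup G)) (U : Subgroup G → Subgroup G) : Prop :=
  ∀ K ∈ Om, ∀ N ∈ Om, ∀ v ∈ U K, orderOf v = 4 → zz N * zz K = zz K * zz N → zz N * v ≠ v * zz N →
    (∀ K' ∈ Om, zz K' = zz K → K' = K) ∧ ∀ N' ∈ Om, zz N' = zz N → N' = N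

end Cfsg.Agent.Cit.CV1
end

-- part: Cit/Nil/CV/SecOne
section
prune_inst 0x420100c00712200000000001022003c62920000020048000170400702078f9c4080460020ca200c1080002c042834006813dc0150423000000a000800011c01a010000000b008a000000016000007180c00000000000000000000000000041000000000000
set_option linter.all false
open scoped Cfsg.Agent.FastGrp

/-!
# (6b)(CV), rank at least three, section 1 of helper599's text: no component of `C(e)` over a root `v` with `al v e = 0`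

`LTwo Om U A e v`  : output of the induction if `v` lies in a component `L2(q)` of `C(e)`;
`LThree Om U A e v1 v2 v3` : output of the induction if `v1, v2, v3` lie in a component `L3^e(q)` of `C(e)`;
`CVW.not_lTwo`, `CVW.not_lThree`.
-/

set_option autoImplicit false
set_option linter.style.haveILetI false
set_option linter.unusedSectionVars false

namespace Cfsg.Agent.Cit.CV

open Subgroup Cfsg Cit Tau

variable {G : Type*} [Group G] {Om : Set (Subgroup G)} {U : Subgroup G → Subgroup G} {A K L N : Subgroup G}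
  {a b e g s t u v w x y v₁ v₂ v₃ : G}

/-- `v` and `w` are linked -/
def Lk (Om : Set (Subgroup G)) (U : Subgroup G → Subgroup G) (v w : G) : Prop :=
  al Om U v w ≠ 0 ∧ al Om U v w ≠ 2

theorem lk_iff (v w : G) : Lk Om U v w ↔ al Om U v w = 1 ∨ al Om U v w = -1 := by
  unfold Lk
  generalize al Om U v w = i
  revert i
  decide

theorem lk_iff' (v w : G) : Lk Om U v w ↔ 2 * al Om U v w = 2 := by
  unfold Lk
  generalize al Om U v w = i
  revert i
  decide

/-- output of the induction: `v ∈ L`, `L / Z(L) = L2(q)`, `L` a component of `C(e)` -/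
structure LTwo (Om : Set (Subgroup G)) (U : Subgroup G → Subgroup G) (A : Subgroup G) (e v : G) : Prop where
  ex : ∃ N ∈ Om, zz N ∈ normalizer (A : Set G) ∧ zz N * e = e * zz N ∧ zz N * v * (zz N)⁻¹ = v⁻¹ ∧
    ∀ a ∈ A, a⁻¹ * (zz N * a * (zz N)⁻¹) ∈ zpowers v
  un : ∀ w ∈ RR Om U A, al Om U w e = 0 → w * w = v * v → w = v ∨ w = v⁻¹

/-- `s` acts on `v₁, v₂, v₃` as minus the reflection in `v₁` -/
def SThree (A : Subgroup G) (v₁ v₂ v₃ : G) : Prop := ∃ s ∈ normalizer (A : Set G), s * v₁ * s⁻¹ = v₁ ∧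
  s * v₂ * s⁻¹ = v₃ ∧ s * v₃ * s⁻¹ = v₂ ∧ ∀ a ∈ A, a⁻¹ * (s * a * s⁻¹) ∈ _root_.Subgroup.closure {v₁, v₂, v₃}

/-- output of the induction: `v₁, v₂, v₃ ∈ L`, `L / Z(L) = L3(q)` or `U3(q)`, `L` a component of `C(e)` -/
structure LThree (Om : Set (Subgroup G)) (U : Subgroup G → Subgroup G) (A : Subgroup G) (e v₁ v₂ v₃ : G) : Prop where
  m1 : v₁ ∈ RR Om U A
  m2 : v₂ ∈ RR Om U A
  m3 : v₃ ∈ RR Om U A
  prod : v₁ * v₂ * v₃ = 1
  a12 : al Om U v₁ v₂ = -1
  a21 : al Om U v₂ v₁ = -1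
  a13 : al Om U v₁ v₃ = -1
  a31 : al Om U v₃ v₁ = -1
  a23 : al Om U v₂ v₃ = -1
  a32 : al Om U v₃ v₂ = -1
  e1 : al Om U v₁ e = 0
  e2 : al Om U v₂ e = 0
  e3 : al Om U v₃ e = 0
  cl : ∀ u ∈ RR Om U A, al Om U u e = 0 → (u = v₁ ∨ u = v₁⁻¹ ∨ u = v₂ ∨ u = v₂⁻¹ ∨ u = v₃ ∨ u = v₃⁻¹) ∨
    (al Om U v₁ u = 0 ∧ al Om U v₂ u = 0 ∧ al Om U v₃ u = 0)
  s1 : SThree A v₁ v₂ v₃
  s2 : SThree A v₂ v₃ v₁
  s3 : SThree A v₃ v₁ v₂

theorem SThree.swap (h : SThree A v₁ v₂ v₃) : SThree A v₁ v₃ v₂ := by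
  obtain ⟨s, hs, h1, h2, h3, h4⟩ := h
  refine ⟨s, hs, h1, h3, h2, ?_⟩
  rwa [Set.pair_comm v₃ v₂]

namespace CVW

variable [Finite G]

theorem lk_symm (h : CVW Om U) (hA : IsA Om U A) (hv : v ∈ RR Om U A) (hw : w ∈ RR Om U A) (hl : Lk Om U v w) :
    Lk Om U w v :=
  ⟨fun hh => hl.1 (h.al_zero_symm hA hw hv hh), fun hh => hl.2 (h.al_two_symm hA hw hv hh)⟩

/-- linked roots have different squares -/
theorem sq_ne (h : CVW Om U) (hA : IsA Om U A) (hv : v ∈ RR Om U A) (hw : w ∈ RR Om U A) (hl : Lk Om U v w) :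
    v * v ≠ w * w := by
  intro hh
  have h1 := h.al_sq hA hv hv.1
  rw [hh, h.al_sq hA hv hw.1, h.al_self hA hv] at h1
  rw [lk_iff'] at hl
  rw [hl] at h1
  exact absurd h1 (by decide)

theorem sq_ne_one (hv : v ∈ RR Om U A) : v * v ≠ 1 := by
  intro h1
  have h2 := orderOf_dvd_of_pow_eq_one (by rw [pow_two, h1] : v ^ 2 = 1)
  rw [hv.2.1] at h2
  exact absurd (Nat.le_of_dvd (by norm_num) h2) (by norm_num)

theorem sq_inv (hv : v ∈ RR Om U A) : v⁻¹ * v⁻¹ = v * v := by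
  have h1 : v ^ 4 = 1 := by rw [← hv.2.1]; exact pow_orderOf_eq_one v
  have h2 : v⁻¹ * v⁻¹ = v * v * (v ^ 4)⁻¹ := by group
  rw [h2, h1, inv_one, mul_one]

theorem rf_rf (h : CVW Om U) (hA : IsA Om U A) (hv : v ∈ RR Om U A) (ha : a ∈ A) : rf Om U v (rf Om U v a) = a := by
  rw [rf, h.al_rf_left hA hv hv ha, h.al_self hA hv, rf, mul_assoc, ← pw_add hv.2.1]
  have : ∀ i : ZMod 4, -i + -(i - i * 2) = 0 := by decide
  rw [this, pw_zero, mul_one]

/-- `al` of a reflected root -/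
theorem al_rf' (h : CVW Om U) (hA : IsA Om U A) (hv : v ∈ RR Om U A) (hw : w ∈ RR Om U A) (ha : a ∈ A) :
    al Om U (rf Om U v w) a = al Om U w a - al Om U v a * al Om U w v := by
  have h1 := h.al_rf hA hv hw (rf_mem_A hv ha)
  rw [h.rf_rf hA hv ha, h.al_rf_left hA hv hw ha] at h1
  exact h1

/-- the square of a reflected root -/
theorem sq_rf (h : CVW Om U) (hA : IsA Om U A) (hv : v ∈ RR Om U A) (hw : w ∈ RR Om U A) (hl : Lk Om U v w) :
    rf Om U v w * rf Om U v w = w * w * (v * v) := by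
  have h1 : rf Om U v w * rf Om U v w = w * w * (pw v (-al Om U v w) * pw v (-al Om U v w)) := by
    rw [rf]
    have h2 := h.comm hA (pw_mem hv.1 (-al Om U v w)) hw.1
    calc w * pw v (-al Om U v w) * (w * pw v (-al Om U v w)) = w * (pw v (-al Om U v w) * w) * pw v (-al Om U v w) := by
          group
      _ = _ := by rw [h2]; group
  rw [h1, sq_pw hv.2.1]
  have h3 : 2 * -al Om U v w = 2 := by
    rw [lk_iff'] at hl
    rw [mul_neg, hl]; decide
  rw [h3, pw_two]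

theorem pw_odd_sq (hv : v ∈ RR Om U A) {i : ZMod 4} (hi : i = 1 ∨ i = -1) : pw v i * pw v i = v * v := by
  rw [sq_pw hv.2.1, ← pw_two]
  rcases hi with rfl | rfl
  · rw [mul_one]
  · congr 1

/-- **G2 bonds**: if `al w v = - al v w` there is a further root over `v²` with the same zeros on involutions -/
theorem gTwo (h : CVW Om U) (hA : IsA Om U A) (hv : v ∈ RR Om U A) (hw : w ∈ RR Om U A) (hl : Lk Om U v w)
    (hg : al Om U w v = -al Om U v w) :
    ∃ t ∈ RR Om U A, t * t = v * v ∧ t ≠ v ∧ t ≠ v⁻¹ ∧ (∀ a ∈ A, al Om U v a = 0 → a * a = 1 → al Om U t a = 0) ∧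
      ∀ u ∈ RR Om U A, Lk Om U u v → Lk Om U u t := by
  have hm := h.rf_mem hA hv hw
  set m := rf Om U v w with hmdef
  have ht := h.rf_mem hA hw hm
  set t := rf Om U w m with htdef
  have hlw := h.lk_symm hA hv hw hl
  -- values
  have h1 : al Om U w m = -1 := by
    rw [hmdef, h.al_rf_left hA hv hw hw.1, h.al_self hA hw, hg]
    rw [lk_iff] at hl
    rcases hl with hl | hl <;> rw [hl] <;> decide
  have h2 : t = w * w * pw v (-al Om U v w) := by
    rw [htdef, rf, h1, neg_neg, pw_one, hmdef, rf]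
    calc w * pw v (-al Om U v w) * w = w * (pw v (-al Om U v w) * w) := by group
      _ = w * w * pw v (-al Om U v w) := by rw [h.comm hA (pw_mem hv.1 _) hw.1]; group
  have hodd : -al Om U v w = 1 ∨ -al Om U v w = -1 := by
    rw [lk_iff] at hl
    rcases hl with hl | hl <;> rw [hl] <;> decide
  have hww4 : w * w * (w * w) = 1 := by
    have h3 : w ^ 4 = 1 := by rw [← hw.2.1]; exact pow_orderOf_eq_one w
    have h4 : w * w * (w * w) = w ^ 4 := by simp [pow_succ, mul_assoc]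
    rw [h4, h3]
  have hsqt : t * t = v * v := by
    rw [h2]
    have h3 := h.comm hA (pw_mem hv.1 (-al Om U v w)) (A.mul_mem hw.1 hw.1)
    calc w * w * pw v (-al Om U v w) * (w * w * pw v (-al Om U v w)) =
          w * w * (pw v (-al Om U v w) * (w * w)) * pw v (-al Om U v w) := by group
      _ = (w * w * (w * w)) * (pw v (-al Om U v w) * pw v (-al Om U v w)) := by rw [h3]; group
      _ = v * v := by rw [hww4, one_mul, pw_odd_sq hv hodd]
  have hsq := h.sq_ne hA hv hw hl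
  have hne : ∀ i : ZMod 4, (i = 1 ∨ i = -1) → t ≠ pw v i := by
    intro i hi hh
    rw [h2] at hh
    have h3 : w * w = pw v (i - -al Om U v w) := by
      rw [sub_eq_add_neg, pw_add hv.2.1, pw_neg hv.2.1 (-al Om U v w)]
      exact eq_mul_inv_of_mul_eq hh
    have h4 : ∀ i j : ZMod 4, (i = 1 ∨ i = -1) → (j = 1 ∨ j = -1) → i - j = 0 ∨ i - j = 2 := by decide
    rcases h4 i _ hi hodd with h5 | h5
    · rw [h5, pw_zero] at h3
      exact sq_ne_one hw h3
    · rw [h5, pw_two] at h3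
      exact hsq h3.symm
  refine ⟨t, ht, hsqt, ?_, ?_, ?_, ?_⟩
  · intro hh
    exact hne 1 (Or.inl rfl) (by rw [hh, pw_one])
  · intro hh
    exact hne (-1) (Or.inr rfl) (by rw [hh, pw_neg_one hv.2.1])
  · intro a ha hva ha2
    rw [htdef, h.al_rf' hA hw hm ha, hmdef, h.al_rf' hA hv hw ha, hva, h.al_rf' hA hv hw hw.1]
    have h3 := h.al_sq hA hw ha
    rw [ha2, h.al_one hA hw] at h3
    rw [h.al_self hA hw, hg]
    rw [lk_iff] at hl
    generalize al Om U w a = i at *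
    rcases hl with hl | hl <;> rw [hl] <;> revert i <;> decide
  · intro u hu huv
    rw [lk_iff] at huv ⊢
    rw [h2, h.al_mul hA hu (A.mul_mem hw.1 hw.1) (pw_mem hv.1 _), h.al_pw hA hu hv.1, h.al_sq hA hu hw.1]
    generalize al Om U u w = i at *
    rcases huv with huv | huv <;> rcases hodd with hodd | hodd <;> rw [huv, hodd] <;> revert i <;> decide

/-- **(1a)** -/
theorem not_lTwo (h : CVW Om U) (hA : IsA Om U A) (hv : v ∈ RR Om U A) (hw : w ∈ RR Om U A) (hl : Lk Om U v w)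
    (he : e ∈ A) (hve : al Om U v e = 0) (hL : LTwo Om U A e v) (he2 : e * e = 1) : False := by
  obtain ⟨N, hN, hsA, hse, hsv, hsa⟩ := hL.ex
  have hv4 := hv.2.1
  have hlw := h.lk_symm hA hv hw hl
  -- the bond is symmetric
  have hsym : al Om U w v = al Om U v w := by
    rcases h.al_odd_symm hA hv hw hl.1 hl.2 with h1 | h1
    · exact h1
    · exfalso
      obtain ⟨t, ht, htt, ht1, ht2, hte, -⟩ := h.gTwo hA hv hw hl h1
      rcases hL.un t ht (hte e he hve he2) htt with h2 | h2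
      · exact ht1 h2
      · exact ht2 h2
  set s := zz N with hs
  set α := al Om U v w with hα
  have hα1 : α = 1 ∨ α = -1 := (lk_iff _ _).mp hl
  -- the action on `w`
  have hw' := h.RR_conj hsA hw
  set w' := s * w * s⁻¹ with hw'def
  obtain ⟨j, hj⟩ := exists_pw hv4 (hsa w hw.1)
  have hj' : w' = w * pw v j := by rw [← hj, hw'def]; group
  have hinv := h.al_inverted hA hsA hv hsv hw.1
  rw [← hw'def, hj', h.al_mul hA hv hw.1 (pw_mem hv.1 _), h.al_pw hA hv hv.1, h.al_self hA hv, ← hα] at hinv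
  obtain ⟨-, -, hn3, -⟩ := h.inverted hA hN hsA hv hw hl.1 hl.2 hsv
  have hjα : j = α := by
    have h1 : j = α ∨ j = -α := by
      clear hn3 hj hj'
      generalize α = i at *
      revert hinv
      rcases hα1 with rfl | rfl <;> revert j <;> decide
    rcases h1 with h1 | h1
    · exact h1
    · exact absurd (by rw [← hw'def, hj', h1, rf]) hn3
  rw [hjα] at hj'
  -- `t = w v²`, `h = rf v w`, `g' = rf h t`
  have hh := h.rf_mem hA hv hw
  set m := rf Om U v w with hm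
  have ht := h.rf_mem hA hv hw'
  set t := rf Om U v w' with htdef
  have hg := h.rf_mem hA hh ht
  set g' := rf Om U m t with hgdef
  have hvw' : al Om U v w' = -α := by
    rw [hj', h.al_mul hA hv hw.1 (pw_mem hv.1 _), h.al_pw hA hv hv.1, h.al_self hA hv, ← hα]
    rcases hα1 with h1 | h1 <;> rw [h1] <;> decide
  have hmt : al Om U m t = -1 := by
    rw [hm, htdef, h.al_rf hA hv hw hw'.1, hj', h.al_mul hA hw hw.1 (pw_mem hv.1 _), h.al_pw hA hw hv.1,
      h.al_self hA hw, hsym]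
    rcases hα1 with h1 | h1 <;> rw [h1] <;> decide
  -- `g' = w² v^α`
  have hgeq : g' = w * w * pw v α := by
    have h1 : t = w * pw v (2 * α) := by
      rw [htdef, rf, hvw', neg_neg, hj', mul_assoc, ← pw_add hv4, two_mul]
    rw [hgdef, rf, hmt, neg_neg, pw_one, h1, hm, rf, ← hα]
    have h2 := h.comm hA (pw_mem hv.1 (2 * α)) hw.1
    calc w * pw v (2 * α) * (w * pw v (-α)) = w * (pw v (2 * α) * w) * pw v (-α) := by group
      _ = w * w * (pw v (2 * α) * pw v (-α)) := by rw [h2]; group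
      _ = w * w * pw v α := by
        rw [← pw_add hv4]
        congr 2
        ring
  have hww4 : w * w * (w * w) = 1 := by
    have h3 : w ^ 4 = 1 := by rw [← hw.2.1]; exact pow_orderOf_eq_one w
    have h4 : w * w * (w * w) = w ^ 4 := by simp [pow_succ, mul_assoc]
    rw [h4, h3]
  have hgsq : g' * g' = v * v := by
    rw [hgeq]
    have h3 := h.comm hA (pw_mem hv.1 α) (A.mul_mem hw.1 hw.1)
    calc w * w * pw v α * (w * w * pw v α) = w * w * (pw v α * (w * w)) * pw v α := by group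
      _ = (w * w * (w * w)) * (pw v α * pw v α) := by rw [h3]; group
      _ = v * v := by rw [hww4, one_mul, pw_odd_sq hv hα1]
  -- the value at `e`
  have hes : s * e * s⁻¹ = e := by rw [hse, mul_inv_cancel_right]
  have hκ : al Om U w' e = al Om U w e := by
    have h1 := h.al_conj hA hsA hw he
    rwa [hes, ← hw'def] at h1
  have hte : al Om U t e = al Om U w e := by
    rw [htdef, h.al_rf' hA hv hw' he, hve, zero_mul, sub_zero, hκ]
  have hme : al Om U m e = al Om U w e := by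
    rw [hm, h.al_rf' hA hv hw he, hve, zero_mul, sub_zero]
  have hge : al Om U g' e = 0 := by
    rw [hgdef, h.al_rf' hA hh ht he, hte, hme]
    have h1 : Lk Om U m t := by rw [lk_iff]; right; exact hmt
    have h2 := (lk_iff' _ _).mp (h.lk_symm hA hh ht h1)
    have h3 := h.al_of_sq hA hw he he2
    generalize al Om U t m = i at *
    rcases h3 with h3 | h3 <;> rw [h3] <;> revert h2 <;> revert i <;> decide
  have hsq := h.sq_ne hA hv hw hl
  have hne : ∀ i : ZMod 4, (i = 1 ∨ i = -1) → g' ≠ pw v i := by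
    intro i hi hh
    rw [hgeq] at hh
    have h3 : w * w = pw v (i - α) := by
      rw [sub_eq_add_neg, pw_add hv4, pw_neg hv4 α]
      exact eq_mul_inv_of_mul_eq hh
    have h4 : ∀ i j : ZMod 4, (i = 1 ∨ i = -1) → (j = 1 ∨ j = -1) → i - j = 0 ∨ i - j = 2 := by decide
    rcases h4 i _ hi hα1 with h5 | h5
    · rw [h5, pw_zero] at h3
      exact sq_ne_one hw h3
    · rw [h5, pw_two] at h3
      exact hsq h3.symm
  rcases hL.un g' hg hge hgsq with h1 | h1
  · exact hne 1 (Or.inl rfl) (by rw [h1, pw_one])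
  · exact hne (-1) (Or.inr rfl) (by rw [h1, pw_neg_one hv4])

end CVW

/-! ### `L3^e(q)` -/

namespace LThree

variable [Finite G]

theorem rot (l : LThree Om U A e v₁ v₂ v₃) (h : CVW Om U) (hA : IsA Om U A) : LThree Om U A e v₂ v₃ v₁ where
  m1 := l.m2
  m2 := l.m3
  m3 := l.m1
  prod := by
    rw [← l.prod, h.comm hA (A.mul_mem l.m2.1 l.m3.1) l.m1.1, mul_assoc]
  a12 := l.a23
  a21 := l.a32
  a13 := l.a21
  a31 := l.a12
  a23 := l.a31
  a32 := l.a13
  e1 := l.e2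
  e2 := l.e3
  e3 := l.e1
  cl u hu h0 := by
    have := l.cl u hu h0
    (clear * - this; (solve | (intros; casesm* _ ∨ _, _ ∧ _) <;> (first | with_reducible contradiction | simp only [*, true_or, or_true, and_self, true_and, and_true, not_false_eq_true]) | tauto))
  s1 := l.s2
  s2 := l.s3
  s3 := l.s1

theorem swap (l : LThree Om U A e v₁ v₂ v₃) (h : CVW Om U) (hA : IsA Om U A) : LThree Om U A e v₁ v₃ v₂ where
  m1 := l.m1
  m2 := l.m3
  m3 := l.m2
  prod := by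
    rw [← l.prod, mul_assoc, h.comm hA l.m3.1 l.m2.1, mul_assoc]
  a12 := l.a13
  a21 := l.a31
  a13 := l.a12
  a31 := l.a21
  a23 := l.a32
  a32 := l.a23
  e1 := l.e1
  e2 := l.e3
  e3 := l.e2
  cl u hu h0 := by
    have := l.cl u hu h0
    (clear * - this; (solve | (intros; casesm* _ ∨ _, _ ∧ _) <;> (first | with_reducible contradiction | simp only [*, true_or, or_true, and_self, true_and, and_true, not_false_eq_true]) | tauto))
  s1 := l.s1.swap
  s2 := l.s3.swap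
  s3 := l.s2.swap

variable (l : LThree Om U A e v₁ v₂ v₃) (h : CVW Om U) (hA : IsA Om U A)
include l h hA

theorem three_eq : v₃ = v₂⁻¹ * v₁⁻¹ := by
  have := l.prod
  rw [← mul_inv_rev]
  exact eq_inv_of_mul_eq_one_right this

/-- the three functions have sum zero -/
theorem sum (ha : a ∈ A) : al Om U v₁ a + al Om U v₂ a + al Om U v₃ a = 0 := by
  -- `v₃⁻¹ = rf v₁ v₂`
  have h1 : rf Om U v₁ v₂ = v₃⁻¹ := by
    rw [rf, l.a12, neg_neg, pw_one, l.three_eq h hA, mul_inv_rev, inv_inv, inv_inv, h.comm hA l.m2.1 l.m1.1]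
  have h2 := h.al_rf' hA l.m1 l.m2 ha
  rw [h1, h.al_neg hA l.m3 ha, l.a21] at h2
  linear_combination -h2

/-- symmetric bonds at `v₁` -/
theorem symm_bond (he : e ∈ A) (he2 : e * e = 1) {n : G} (hn : n ∈ RR Om U A) (hl : Lk Om U v₁ n) :
    al Om U n v₁ = al Om U v₁ n := by
  rcases h.al_odd_symm hA l.m1 hn hl.1 hl.2 with h1 | h1
  · exact h1
  exfalso
  obtain ⟨t, ht, htt, ht1, ht2, hte, htl⟩ := h.gTwo hA l.m1 hn hl h1
  have h3 := hte e he l.e1 he2
  have h12 : Lk Om U v₁ v₂ := (lk_iff _ _).mpr (Or.inr l.a12)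
  have h21 : Lk Om U v₂ v₁ := (lk_iff _ _).mpr (Or.inr l.a21)
  have h31 : Lk Om U v₃ v₁ := (lk_iff _ _).mpr (Or.inr l.a31)
  have h4 := htl v₂ l.m2 h21
  rcases l.cl t ht h3 with (h5 | h5 | h5 | h5 | h5 | h5) | h5
  · exact ht1 h5
  · exact ht2 h5
  · rw [h5] at htt; exact h.sq_ne hA l.m2 l.m1 h21 htt
  · rw [h5, CVW.sq_inv l.m2] at htt; exact h.sq_ne hA l.m2 l.m1 h21 htt
  · rw [h5] at htt; exact h.sq_ne hA l.m3 l.m1 h31 htt
  · rw [h5, CVW.sq_inv l.m3] at htt; exact h.sq_ne hA l.m3 l.m1 h31 htt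
  · exact h4.1 h5.2.1

/-- the elements of `⟨v₁, v₂, v₃⟩` -/
theorem exists_mul {b : G} (hb : b ∈ _root_.Subgroup.closure {v₁, v₂, v₃}) : ∃ i j : ZMod 4, b = pw v₁ i * pw v₂ j := by
  have key : ∀ b ∈ _root_.Subgroup.closure {v₁, v₂, v₃}, b ∈ A ∧ ∃ i j : ZMod 4, b = pw v₁ i * pw v₂ j := by
    intro b hb
    induction hb using closure_induction'' with
    | mem x hx =>
      rcases hx with rfl | rfl | rfl
      · exact ⟨l.m1.1, 1, 0, by simp⟩
      · exact ⟨l.m2.1, 0, 1, by simp⟩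
      · refine ⟨l.m3.1, -1, -1, ?_⟩
        rw [pw_neg_one l.m1.2.1, pw_neg_one l.m2.2.1, l.three_eq h hA,
          h.comm hA (A.inv_mem l.m2.1) (A.inv_mem l.m1.1)]
    | inv_mem x hx =>
      rcases hx with rfl | rfl | rfl
      · exact ⟨A.inv_mem l.m1.1, -1, 0, by simp [pw_neg_one l.m1.2.1]⟩
      · exact ⟨A.inv_mem l.m2.1, 0, -1, by simp [pw_neg_one l.m2.2.1]⟩
      · refine ⟨A.inv_mem l.m3.1, 1, 1, ?_⟩
        rw [pw_one, pw_one, l.three_eq h hA, mul_inv_rev, inv_inv, inv_inv]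
    | one => exact ⟨A.one_mem, 0, 0, by simp⟩
    | mul x y _ _ hx hy =>
      obtain ⟨hxA, i, j, rfl⟩ := hx
      obtain ⟨hyA, i', j', rfl⟩ := hy
      refine ⟨A.mul_mem hxA hyA, i + i', j + j', ?_⟩
      rw [pw_add l.m1.2.1, pw_add l.m2.2.1]
      have h1 := h.comm hA (pw_mem l.m2.1 j) (pw_mem l.m1.1 i')
      calc pw v₁ i * pw v₂ j * (pw v₁ i' * pw v₂ j') = pw v₁ i * (pw v₂ j * pw v₁ i') * pw v₂ j' := by group
        _ = _ := by rw [h1]; group
  exact (key b hb).2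

/-- (i) a root orthogonal to `v₁` and linked to `v₂` has the square of `v₁` -/
theorem sq_eq {n : G} (hn : n ∈ RR Om U A) (h1 : al Om U v₁ n = 0) (h2 : Lk Om U v₂ n) : n * n = v₁ * v₁ := by
  obtain ⟨s, hsA, s1, s2, s3, hsa⟩ := l.s1
  obtain ⟨i, j, hij⟩ := l.exists_mul h hA (hsa n hn.1)
  have hb : pw v₁ i * pw v₂ j ∈ A := A.mul_mem (pw_mem l.m1.1 _) (pw_mem l.m2.1 _)
  have hsn : s * n * s⁻¹ = n * (pw v₁ i * pw v₂ j) := by rw [← hij]; group
  have hsum := l.sum h hA hn.1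
  have e1 := h.al_conj hA hsA l.m1 hn.1
  have e2 := h.al_conj hA hsA l.m2 hn.1
  have e3 := h.al_conj hA hsA l.m3 hn.1
  rw [s1, hsn, h.al_mul hA l.m1 hn.1 hb, h.al_mul hA l.m1 (pw_mem l.m1.1 _) (pw_mem l.m2.1 _),
    h.al_pw hA l.m1 l.m1.1, h.al_pw hA l.m1 l.m2.1, h.al_self hA l.m1, l.a12] at e1
  rw [s2, hsn, h.al_mul hA l.m3 hn.1 hb, h.al_mul hA l.m3 (pw_mem l.m1.1 _) (pw_mem l.m2.1 _),
    h.al_pw hA l.m3 l.m1.1, h.al_pw hA l.m3 l.m2.1, l.a31, l.a32] at e2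
  have hi : i = 2 ∧ j = 0 := by
    rw [h1] at hsum e1
    rw [lk_iff] at h2
    generalize al Om U v₂ n = p at *
    generalize al Om U v₃ n = q at *
    have hq : q = -p := by linear_combination hsum
    subst hq
    clear hsum hij hsn e3 hb
    rcases h2 with rfl | rfl <;> revert i j <;> decide
  obtain ⟨rfl, rfl⟩ := hi
  rw [pw_zero, mul_one, pw_two] at hsn
  have hsR := h.RR_conj hsA hn
  -- `al n (n v₁²) = 2`
  have h4 : al Om U n (s * n * s⁻¹) = 2 := by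
    rw [hsn, h.al_mul hA hn hn.1 (A.mul_mem l.m1.1 l.m1.1), h.al_self hA hn, h.al_sq hA hn l.m1.1,
      h.al_zero_symm hA l.m1 hn h1]
    decide
  rcases h.al_two hA hn hsR h4 with h5 | h5
  · rw [hsn] at h5
    exact absurd (mul_eq_left.mp h5) (CVW.sq_ne_one l.m1)
  · rw [hsn] at h5
    have h6 : v₁ * v₁ = n⁻¹ * n⁻¹ := eq_inv_mul_of_mul_eq h5
    rw [h6, CVW.sq_inv hn]

theorem al_e_ne {n : G} (hn : n ∈ RR Om U A) (h1 : al Om U v₁ n = 0) (h2 : Lk Om U v₂ n) (he : e ∈ A)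
    (he2 : e * e = 1) : al Om U n e = 2 := by
  rcases h.al_of_sq hA hn he he2 with h3 | h3
  · exfalso
    have e1 := h.al_self hA l.m1
    have e2 := l.a12
    have e3 := l.a13
    rcases l.cl n hn h3 with (h4 | h4 | h4 | h4 | h4 | h4) | h4
    · rw [h4, e1] at h1; exact absurd h1 (by decide)
    · rw [h4, h.al_inv hA l.m1 l.m1.1, e1] at h1; exact absurd h1 (by decide)
    · rw [h4, e2] at h1; exact absurd h1 (by decide)
    · rw [h4, h.al_inv hA l.m1 l.m2.1, e2] at h1; exact absurd h1 (by decide)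
    · rw [h4, e3] at h1; exact absurd h1 (by decide)
    · rw [h4, h.al_inv hA l.m1 l.m3.1, e3] at h1; exact absurd h1 (by decide)
    · exact h2.1 h4.2.1
  · exact h3

/-- (iii) -/
theorem unique_aux {p m : G} (hp : p ∈ RR Om U A) (hp1 : al Om U v₁ p = 0) (hp2 : Lk Om U v₂ p)
    (hm : m ∈ RR Om U A) (hm1 : al Om U v₁ m = 0) (hm2 : Lk Om U v₂ m) (he : e ∈ A) (he2 : e * e = 1) :
    m = rf Om U (rf Om U v₂ p) v₂ ∨ m = (rf Om U (rf Om U v₂ p) v₂)⁻¹ := by
  have hQ := h.rf_mem hA l.m2 hp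
  have hf1 : al Om U v₁ (rf Om U v₂ p) = al Om U v₂ p := by
    rw [h.al_rf_left hA l.m2 l.m1 hp.1, hp1, l.a12]; ring
  have hQe : al Om U (rf Om U v₂ p) e = 2 := by
    rw [h.al_rf' hA l.m2 hp he, l.e2, zero_mul, sub_zero, l.al_e_ne h hA hp hp1 hp2 he he2]
  have hQsq := h.sq_rf hA l.m2 hp hp2
  set Q := rf Om U v₂ p with hQdef
  have hl1 : Lk Om U v₁ Q := by unfold Lk; rw [hf1]; exact hp2
  have hlQ1 := h.lk_symm hA l.m1 hQ hl1
  have hmm := l.sq_eq h hA hm hm1 hm2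
  have hpp := l.sq_eq h hA hp hp1 hp2
  have hlQm : Lk Om U Q m := by
    rw [lk_iff'] at hlQ1 ⊢
    rw [← h.al_sq hA hQ hm.1, hmm, h.al_sq hA hQ l.m1.1, hlQ1]
  have hlmQ := h.lk_symm hA hQ hm hlQm
  have hM := h.rf_mem hA hQ hm
  have hMe : al Om U (rf Om U Q m) e = 0 := by
    rw [h.al_rf' hA hQ hm he, l.al_e_ne h hA hm hm1 hm2 he he2, hQe, (lk_iff' _ _).mp hlmQ, sub_self]
  have hMf : al Om U v₁ (rf Om U Q m) ≠ 0 := by
    rw [h.al_rf_left hA hQ l.m1 hm.1, hm1]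
    rw [lk_iff] at hl1 hlQm
    rcases hl1 with h5 | h5 <;> rcases hlQm with h6 | h6 <;> rw [h5, h6] <;> decide
  have hMsq : rf Om U Q m * rf Om U Q m = v₂ * v₂ := by
    rw [h.sq_rf hA hQ hm hlQm, hQsq, hmm, hpp]
    have h4 : v₁ ^ 4 = 1 := by rw [← l.m1.2.1]; exact pow_orderOf_eq_one v₁
    have h5 : v₁ * v₁ * (v₁ * v₁ * (v₂ * v₂)) = v₁ ^ 4 * (v₂ * v₂) := by simp [pow_succ, mul_assoc]
    rw [h5, h4, one_mul]
  have h12 := h.sq_ne hA l.m1 l.m2 ((lk_iff _ _).mpr (Or.inr l.a12))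
  have h32 := h.sq_ne hA l.m3 l.m2 ((lk_iff _ _).mpr (Or.inr l.a32))
  have hMv : rf Om U Q m = v₂ ∨ rf Om U Q m = v₂⁻¹ := by
    rcases l.cl _ hM hMe with (h4 | h4 | h4 | h4 | h4 | h4) | h4
    · rw [h4] at hMsq; exact absurd hMsq h12
    · rw [h4, CVW.sq_inv l.m1] at hMsq; exact absurd hMsq h12
    · exact Or.inl h4
    · exact Or.inr h4
    · rw [h4] at hMsq; exact absurd hMsq h32
    · rw [h4, CVW.sq_inv l.m3] at hMsq; exact absurd hMsq h32
    · exact absurd h4.1 hMf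
  have hback := h.rf_rf hA hQ hm.1
  rcases hMv with h4 | h4
  · left; rw [← hback, h4]
  · right
    rw [← hback, h4]
    rw [rf, rf, h.al_inv hA hQ l.m2.1, neg_neg, mul_inv_rev, pw_neg hQ.2.1, inv_inv,
      h.comm hA (A.inv_mem l.m2.1) (pw_mem hQ.1 _)]

theorem unique {p n : G} (hp : p ∈ RR Om U A) (hp1 : al Om U v₁ p = 0) (hp2 : Lk Om U v₂ p)
    (hn : n ∈ RR Om U A) (hn1 : al Om U v₁ n = 0) (hn2 : Lk Om U v₂ n) (he : e ∈ A) (he2 : e * e = 1) :
    p = n ∨ p = n⁻¹ := by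
  have h1 := l.unique_aux h hA hp hp1 hp2 hn hn1 hn2 he he2
  have h2 := l.unique_aux h hA hp hp1 hp2 hp hp1 hp2 he he2
  generalize rf Om U (rf Om U v₂ p) v₂ = q at h1 h2
  rcases h1 with rfl | rfl <;> rcases h2 with rfl | rfl <;> simp

/-- (ii) -/
theorem far {p n : G} (hp : p ∈ RR Om U A) (hp1 : al Om U v₁ p = 0) (hp2 : al Om U v₂ p = 0)
    (hn : n ∈ RR Om U A) (hn1 : al Om U v₁ n = 0) (hn2 : Lk Om U v₂ n) : al Om U n p = 0 := by
  by_contra h0
  have h2 : al Om U n p ≠ 2 := by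
    intro h2
    rcases h.al_two hA hn hp h2 with h3 | h3
    · rw [h3] at hp2; exact hn2.1 hp2
    · rw [h3, h.al_inv hA l.m2 hn.1, neg_eq_zero] at hp2; exact hn2.1 hp2
  have hlp := h.lk_symm hA hn hp ⟨h0, h2⟩
  have hR := h.rf_mem hA hp hn
  have h3 : al Om U v₁ (rf Om U p n) = 0 := by
    rw [h.al_rf_left hA hp l.m1 hn.1, hn1, hp1]; ring
  have h4 : Lk Om U v₂ (rf Om U p n) := by
    unfold Lk
    rw [h.al_rf_left hA hp l.m2 hn.1, hp2, mul_zero, sub_zero]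
    exact hn2
  have h5 := l.sq_eq h hA hR h3 h4
  rw [h.sq_rf hA hp hn hlp, l.sq_eq h hA hn hn1 hn2] at h5
  exact CVW.sq_ne_one hp (mul_eq_left.mp h5)

/-- no root is orthogonal to `v₁` and linked to `v₂` -/
theorem no_near {n : G} (hn : n ∈ RR Om U A) (hn1 : al Om U v₁ n = 0) (hn2 : Lk Om U v₂ n) (he : e ∈ A)
    (he2 : e * e = 1) : False := by
  wlog hneg : al Om U v₂ n = -1 generalizing n
  · refine this (n := n⁻¹) (CVW.RR_inv hn) ?_ ?_ ?_
    · rw [h.al_inv hA l.m1 hn.1, hn1, neg_zero]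
    · rw [lk_iff] at hn2 ⊢
      rw [h.al_inv hA l.m2 hn.1]
      rcases hn2 with h1 | h1 <;> rw [h1] <;> decide
    · rw [h.al_inv hA l.m2 hn.1, (Or.resolve_right ((lk_iff _ _).mp hn2) hneg)]
  have hsn := l.sum h hA hn.1
  have hn3 : al Om U v₃ n = 1 := by
    rw [hn1, hneg] at hsn
    linear_combination hsn
  have hne := l.al_e_ne h hA hn hn1 hn2 he he2
  have l2 := l.rot h hA
  have l3 := l2.rot h hA
  have hb1 : al Om U n v₁ = 0 := h.al_zero_symm hA l.m1 hn hn1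
  have hb2 : al Om U n v₂ = -1 := by rw [l2.symm_bond h hA he he2 hn hn2, hneg]
  have hb3 : al Om U n v₃ = 1 := by
    rw [l3.symm_bond h hA he he2 hn ((lk_iff _ _).mpr (Or.inl hn3)), hn3]
  have s1 := h.al_self hA l.m1
  have s2 := h.al_self hA l.m2
  have s3 := h.al_self hA l.m3
  have sn := h.al_self hA hn
  -- the relation
  have key : ∀ a ∈ A, al Om U n a + al Om U v₁ a = 2 * al Om U v₃ a := by
    have hinv : ∀ a ∈ A, al Om U n a + al Om U v₁ a = 2 * al Om U v₃ a →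
        al Om U n a⁻¹ + al Om U v₁ a⁻¹ = 2 * al Om U v₃ a⁻¹ := by
      intro a ha h1
      rw [h.al_inv hA hn ha, h.al_inv hA l.m1 ha, h.al_inv hA l.m3 ha]
      linear_combination -h1
    have hv1 : al Om U n v₁ + al Om U v₁ v₁ = 2 * al Om U v₃ v₁ := by rw [hb1, s1, l.a31]; decide
    have hv2 : al Om U n v₂ + al Om U v₁ v₂ = 2 * al Om U v₃ v₂ := by rw [hb2, l.a12, l.a32]; decide
    have hv3 : al Om U n v₃ + al Om U v₁ v₃ = 2 * al Om U v₃ v₃ := by rw [hb3, l.a13, s3]; decide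
    have hvn : al Om U n n + al Om U v₁ n = 2 * al Om U v₃ n := by rw [sn, hn1, hn3]; decide
    have hadd : ∀ a ∈ A, ∀ b ∈ A, al Om U n a + al Om U v₁ a = 2 * al Om U v₃ a →
        al Om U n b + al Om U v₁ b = 2 * al Om U v₃ b →
        al Om U n (a * b) + al Om U v₁ (a * b) = 2 * al Om U v₃ (a * b) := by
      intro a ha b hb h1 h2
      rw [h.al_mul hA hn ha hb, h.al_mul hA l.m1 ha hb, h.al_mul hA l.m3 ha hb]
      linear_combination h1 + h2
    have hpw : ∀ a ∈ A, ∀ i : ZMod 4, al Om U n a + al Om U v₁ a = 2 * al Om U v₃ a →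
        al Om U n (pw a i) + al Om U v₁ (pw a i) = 2 * al Om U v₃ (pw a i) := by
      intro a ha i h1
      rw [h.al_pw hA hn ha, h.al_pw hA l.m1 ha, h.al_pw hA l.m3 ha]
      linear_combination i * h1
    refine CVW.exists_gen hA ?_ hadd ?_
    · rw [h.al_one hA hn, h.al_one hA l.m1, h.al_one hA l.m3]; ring
    · intro p hp
      have hpm : ∀ q ∈ A, (al Om U n q + al Om U v₁ q = 2 * al Om U v₃ q) → (p = q ∨ p = q⁻¹) →
          al Om U n p + al Om U v₁ p = 2 * al Om U v₃ p := by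
        rintro q hq h1 (rfl | rfl)
        · exact h1
        · exact hinv q hq h1
      have hsum := l.sum h hA hp.1
      by_cases c1 : al Om U v₁ p = 2
      · exact hpm v₁ l.m1.1 hv1 (h.al_two hA l.m1 hp c1)
      by_cases c2 : al Om U v₂ p = 2
      · exact hpm v₂ l.m2.1 hv2 (h.al_two hA l.m2 hp c2)
      by_cases c3 : al Om U v₃ p = 2
      · exact hpm v₃ l.m3.1 hv3 (h.al_two hA l.m3 hp c3)
      by_cases d1 : al Om U v₁ p = 0
      · by_cases d2 : al Om U v₂ p = 0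
        · have d3 : al Om U v₃ p = 0 := by rw [d1, d2] at hsum; linear_combination hsum
          rw [l.far h hA hp d1 d2 hn hn1 hn2, d1, d3]; ring
        · exact hpm n hn.1 hvn (l.unique h hA hp d1 ⟨d2, c2⟩ hn hn1 hn2 he he2)
      · by_cases d2 : al Om U v₂ p = 0
        · -- `rf v₃ p`
          have hq := h.rf_mem hA l.m3 hp
          have e1 : al Om U v₁ (rf Om U v₃ p) = 0 := by
            rw [h.al_rf_left hA l.m3 l.m1 hp.1, l.a13]
            rw [d2] at hsum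
            linear_combination hsum
          have e2 : al Om U v₂ (rf Om U v₃ p) = al Om U v₃ p := by
            rw [h.al_rf_left hA l.m3 l.m2 hp.1, l.a23, d2]; ring
          have d3 : al Om U v₃ p ≠ 0 := by
            intro d3
            apply d1
            rw [d2, d3] at hsum
            linear_combination hsum
          have hu := l.unique h hA hq e1 (by unfold Lk; rw [e2]; exact ⟨d3, c3⟩) hn hn1 hn2 he he2
          have hback := h.rf_rf hA l.m3 hp.1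
          have hmem : rf Om U v₃ p = n ∨ rf Om U v₃ p = n⁻¹ := hu
          have hrel : al Om U n (rf Om U v₃ p) + al Om U v₁ (rf Om U v₃ p) = 2 * al Om U v₃ (rf Om U v₃ p) := by
            rcases hmem with h5 | h5
            · rw [h5]; exact hvn
            · rw [h5]; exact hinv n hn.1 hvn
          rw [← hback, rf]
          exact hadd _ hq.1 _ (pw_mem l.m3.1 _) hrel (hpw v₃ l.m3.1 _ hv3)
        · by_cases d3 : al Om U v₃ p = 0
          · have hq := h.rf_mem hA l.m2 hp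
            have e1 : al Om U v₁ (rf Om U v₂ p) = 0 := by
              rw [h.al_rf_left hA l.m2 l.m1 hp.1, l.a12]
              rw [d3] at hsum
              linear_combination hsum
            have e2 : al Om U v₂ (rf Om U v₂ p) = -al Om U v₂ p := by
              rw [h.al_rf_left hA l.m2 l.m2 hp.1, s2]
              have : ∀ i : ZMod 4, i - i * 2 = -i := by decide
              exact this _
            have hlk : Lk Om U v₂ (rf Om U v₂ p) := by
              unfold Lk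
              rw [e2]
              revert d2 c2
              generalize al Om U v₂ p = i
              revert i
              decide
            have hmem := l.unique h hA hq e1 hlk hn hn1 hn2 he he2
            have hback := h.rf_rf hA l.m2 hp.1
            have hrel : al Om U n (rf Om U v₂ p) + al Om U v₁ (rf Om U v₂ p) = 2 * al Om U v₃ (rf Om U v₂ p) := by
              rcases hmem with h5 | h5
              · rw [h5]; exact hvn
              · rw [h5]; exact hinv n hn.1 hvn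
            rw [← hback, rf]
            exact hadd _ hq.1 _ (pw_mem l.m2.1 _) hrel (hpw v₂ l.m2.1 _ hv2)
          · exfalso
            generalize al Om U v₁ p = i at *
            generalize al Om U v₂ p = j at *
            generalize al Om U v₃ p = k at *
            clear hpm hpw hadd hinv
            revert i j k
            decide
  have hfin := key e he
  rw [hne, l.e1, l.e3] at hfin
  exact absurd hfin (by decide)

/-- a root linked to `v₁` is one of `v₂, v₃` up to sign -/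
theorem no_link {n : G} (hn : n ∈ RR Om U A) (hl : Lk Om U v₁ n) (he : e ∈ A) (he2 : e * e = 1) :
    n = v₂ ∨ n = v₂⁻¹ ∨ n = v₃ ∨ n = v₃⁻¹ := by
  have l2 := l.rot h hA
  have l3 := l2.rot h hA
  have hsum := l.sum h hA hn.1
  by_cases c2 : al Om U v₂ n = 2
  · rcases h.al_two hA l.m2 hn c2 with h1 | h1 <;> (clear * - G v₂ v₃ n h1; tauto)
  by_cases c3 : al Om U v₃ n = 2
  · rcases h.al_two hA l.m3 hn c3 with h1 | h1 <;> (clear * - h1 G v₂ v₃ n; tauto)
  exfalso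
  by_cases d2 : al Om U v₂ n = 0
  · refine l2.no_near h hA hn d2 ⟨?_, c3⟩ he he2
    intro d3
    apply hl.1
    rw [d2, d3] at hsum
    linear_combination hsum
  · by_cases d3 : al Om U v₃ n = 0
    · exact l3.no_near h hA hn d3 hl he he2
    · obtain ⟨hl1, hl2⟩ := hl
      generalize al Om U v₁ n = i at *
      generalize al Om U v₂ n = j at *
      generalize al Om U v₃ n = k at *
      revert i j k
      decide

end LThree

/-- every component has rank at least three -/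
def RkThree (Om : Set (Subgroup G)) (U : Subgroup G → Subgroup G) (A : Subgroup G) : Prop :=
  ∀ v ∈ RR Om U A, ∃ w ∈ RR Om U A, ∃ u ∈ RR Om U A, Lk Om U v w ∧ Lk Om U v u ∧ u ≠ w ∧ u ≠ w⁻¹ ∧
    u ≠ rf Om U v w ∧ u ≠ (rf Om U v w)⁻¹

/-- **(1b)** -/
theorem CVW.not_lThree [Finite G] (h : CVW Om U) (hA : IsA Om U A) (hr : RkThree Om U A)
    (l : LThree Om U A e v₁ v₂ v₃) (he : e ∈ A) (he2 : e * e = 1) : False := by
  obtain ⟨w, hw, u, hu, hlw, hlu, n1, n2, n3, n4⟩ := hr v₁ l.m1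
  have h1 := l.no_link h hA hw hlw he he2
  have h2 := l.no_link h hA hu hlu he he2
  have e1 : rf Om U v₁ v₂ = v₃⁻¹ := by
    rw [rf, l.a12, neg_neg, pw_one, l.three_eq h hA, mul_inv_rev, inv_inv, inv_inv, h.comm hA l.m2.1 l.m1.1]
  have e2 : rf Om U v₁ v₃ = v₂⁻¹ := by
    rw [rf, l.a13, neg_neg, pw_one, l.three_eq h hA, inv_mul_cancel_right]
  have e3 : ∀ a ∈ A, rf Om U v₁ a⁻¹ = (rf Om U v₁ a)⁻¹ := by
    intro a ha
    rw [rf, rf, h.al_inv hA l.m1 ha, neg_neg, mul_inv_rev, pw_neg l.m1.2.1, inv_inv,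
      h.comm hA (A.inv_mem ha) (pw_mem l.m1.1 _)]
  rcases h1 with rfl | rfl | rfl | rfl
  · rw [e1] at n3 n4
    rw [inv_inv] at n4
    rcases h2 with h2 | h2 | h2 | h2
    · exact n1 h2
    · exact n2 h2
    · exact n4 h2
    · exact n3 h2
  · rw [e3 _ l.m2.1, e1] at n3 n4
    rw [inv_inv] at n2 n3
    rw [inv_inv] at n4
    rcases h2 with h2 | h2 | h2 | h2
    · exact n2 h2
    · exact n1 h2
    · exact n3 h2
    · exact n4 h2
  · rw [e2] at n3 n4
    rw [inv_inv] at n4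
    rcases h2 with h2 | h2 | h2 | h2
    · exact n4 h2
    · exact n3 h2
    · exact n1 h2
    · exact n2 h2
  · rw [e3 _ l.m3.1, e2] at n3 n4
    rw [inv_inv] at n2 n3
    rw [inv_inv] at n4
    rcases h2 with h2 | h2 | h2 | h2
    · exact n3 h2
    · exact n4 h2
    · exact n2 h2
    · exact n1 h2

end Cfsg.Agent.Cit.CV
end

-- part: Cit/Nil/CV/SecTwo
section
set_option linter.all false
open scoped Cfsg.Agent.FastGrp

/-!
# (6b)(CV), rank at least three, section 2 of helper599's text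

`OT e` = `O_2(C(e))`; `NilCV Om U` : output of the induction and of section 1: `v ∈ O_2(C(e))` if `al v e = 0`.
`CVW.cent_le` : `C(e) ≤ N(A)` for the involutions `e` of `A`; `CVW.inf_bot` : `A ⊓ B = 1` for `A ≠ B`.
-/

set_option autoImplicit false
set_option linter.style.haveILetI false
set_option linter.unusedSectionVars false

namespace Cfsg.Agent.Cit.CV

open Subgroup Cfsg Cit Tau

variable {G : Type*} [Group G] {Om : Set (Subgroup G)} {U : Subgroup G → Subgroup G} {A B K L N : Subgroup G}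
  {a b e f g s t u v w x y : G}

/-- `O_2(C(e))` -/
def OT (e : G) : Subgroup G := (pCore 2 (centralizer ({e} : Set G))).map (centralizer ({e} : Set G)).subtype

theorem OT_le (e : G) : OT e ≤ centralizer {e} := map_subtype_le _

theorem OT_two (e : G) : IsPGroup 2 (OT e) := (Lib.Cores.pCore_isPGroup 2).map _

theorem OT_norm (e : G) : centralizer {e} ≤ normalizer (OT e : Set G) := by
  have h1 : ((OT e).subgroupOf (centralizer {e})).Normal := by
    rw [OT, subgroupOf, comap_map_eq_self_of_injective (centralizer ({e} : Set G)).subtype_injective]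
    exact Lib.Cores.pCore_normal 2
  exact (normal_subgroupOf_iff_le_normalizer (OT_le e)).1 h1

/-- output of the induction and of section 1 -/
def NilCV (Om : Set (Subgroup G)) (U : Subgroup G → Subgroup G) : Prop :=
  ∀ A, IsA Om U A → ∀ e ∈ A, e * e = 1 → e ≠ 1 → ∀ v ∈ RR Om U A, al Om U v e = 0 → v ∈ OT e

/-- the literal output of the induction: every root `v` of `A` with `al v e = 0` lies in `O_2(C(e))`, in a component `L2(q)` or
in a component `L3(q)`, `U3(q)` of `C(e)` -/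
def IndCV (Om : Set (Subgroup G)) (U : Subgroup G → Subgroup G) : Prop :=
  ∀ A, IsA Om U A → ∀ e ∈ A, e * e = 1 → e ≠ 1 → ∀ v ∈ RR Om U A, al Om U v e = 0 →
    v ∈ OT e ∨ LTwo Om U A e v ∨ ∃ v₂ v₃, LThree Om U A e v v₂ v₃

theorem nilCV_of [Finite G] (h : CVW Om U) (hr : ∀ A, IsA Om U A → RkThree Om U A) (hi : IndCV Om U) : NilCV Om U := by
  intro A hA e he he2 he1 v hv hve
  rcases hi A hA e he he2 he1 v hv hve with h1 | h1 | ⟨v₂, v₃, h1⟩
  · exact h1
  · obtain ⟨w, hw, -, -, hl, -⟩ := hr A hA v hv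
    exact (h.not_lTwo hA hv hw hl he hve h1 he2).elim
  · exact (h.not_lThree hA (hr A hA) h1 he he2).elim

namespace CVW

variable [Finite G]

/-- a 2-element centralising a root or normalising `A` -/
theorem sup_two (hA : IsA Om U A) {P : Subgroup G} (hP : IsPGroup 2 P) (hn : P ≤ normalizer (A : Set G)) :
    IsPGroup 2 (P ⊔ A : Subgroup G) := hP.to_sup_of_normal_right' (isA_two hA) hn

/-- two weak closures normalising each other on one side are equal -/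
theorem eq_of_le_norm (h : CVW Om U) (hA : IsA Om U A) (hB : IsA Om U B) (hn : B ≤ normalizer (A : Set G)) : A = B := by
  have h1 := sup_two hA (isA_two hB) hn
  rw [← h.WW_eq hA h1 le_sup_right, h.WW_eq hB h1 le_sup_left]

/-- `W(O_2(C(e))) ≤ A` -/
theorem WW_OT_le (h : CVW Om U) (hA : IsA Om U A) (he : e ∈ A) : WW Om U (OT e) ≤ A := by
  have h1 : A ≤ centralizer {e} := fun a ha => mem_centralizer_singleton_iff.mpr (h.comm hA ha he)
  have h2 : IsPGroup 2 (A ⊔ OT e : Subgroup G) := (isA_two hA).to_sup_of_normal_right' (OT_two e) (h1.trans (OT_norm e))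
  rw [← h.WW_eq hA h2 le_sup_left]
  exact WW_mono le_sup_right

theorem WW_OT_norm (h : CVW Om U) (e : G) : centralizer {e} ≤ normalizer (WW Om U (OT e) : Set G) :=
  (OT_norm e).trans (h.normalizer_le _)

/-- (2a) -/
theorem cent_four_le (h : CVW Om U) (hn : NilCV Om U) (hA : IsA Om U A) (he : e ∈ A) (he2 : e * e = 1) (he1 : e ≠ 1)
    (hf : f ∈ A) (hf2 : f * f = 1) (hf1 : f ≠ 1) (hef : e ≠ f) :
    centralizer {e} ⊓ centralizer {f} ≤ normalizer (A : Set G) := by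
  have hc := h.comm hA he hf
  have hm : e * f ∈ A := A.mul_mem he hf
  have hm2 : e * f * (e * f) = 1 := by
    calc e * f * (e * f) = e * (f * e) * f := by group
      _ = e * e * (f * f) := by rw [← hc]; group
      _ = 1 := by rw [he2, hf2, one_mul]
  have hm1 : e * f ≠ 1 := by
    intro hh
    apply hef
    rw [eq_inv_of_mul_eq_one_left hh]
    exact inv_eq_of_mul_eq_one_right hf2
  -- the subgroup generated
  set D := WW Om U (OT e) ⊔ WW Om U (OT f) ⊔ WW Om U (OT (e * f)) with hD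
  have hDA : D ≤ A := sup_le (sup_le (h.WW_OT_le hA he) (h.WW_OT_le hA hf)) (h.WW_OT_le hA hm)
  have hAD : A ≤ D := by
    have h1 : closure (RR Om U A) ≤ D := by
      rw [closure_le]
      intro v hv
      have h2 := h.al_mul hA hv he hf
      have h3 := h.al_of_sq hA hv he he2
      have h4 := h.al_of_sq hA hv hf hf2
      have h5 : al Om U v e = 0 ∨ al Om U v f = 0 ∨ al Om U v (e * f) = 0 := by
        rcases h3 with h3 | h3
        · exact Or.inl h3
        · rcases h4 with h4 | h4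
          · exact Or.inr (Or.inl h4)
          · right; right
            rw [h2, h3, h4]; decide
      rcases h5 with h5 | h5 | h5
      · exact mem_sup_left (mem_sup_left (subset_closure ⟨hn A hA e he he2 he1 v hv h5, hv.2⟩))
      · exact mem_sup_left (mem_sup_right (subset_closure ⟨hn A hA f hf hf2 hf1 v hv h5, hv.2⟩))
      · exact mem_sup_right (subset_closure ⟨hn A hA _ hm hm2 hm1 v hv h5, hv.2⟩)
    have h2 : closure (RR Om U A) = A := WW_self hA
    rwa [h2] at h1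
  have hAeq : A = D := le_antisymm hAD hDA
  intro g hg
  have g1 := mem_normalizer_iff_cj.mp (h.WW_OT_norm e hg.1)
  have g2 := mem_normalizer_iff_cj.mp (h.WW_OT_norm f hg.2)
  have hgm : g ∈ centralizer {e * f} := by
    have k1 := mem_centralizer_singleton_iff.mp hg.1
    have k2 := mem_centralizer_singleton_iff.mp hg.2
    rw [mem_centralizer_singleton_iff]
    exact ((show Commute g e from k1).mul_right k2).eq
  have g3 := mem_normalizer_iff_cj.mp (h.WW_OT_norm (e * f) hgm)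
  rw [mem_normalizer_iff_cj, hAeq, hD, cj_sup, cj_sup, g1, g2, g3]

/-- two different roots in `O_2(C(e))` -/
theorem exists_two (h : CVW Om U) (hA : IsA Om U A) (hr : RkThree Om U A) (hne : (RR Om U A).Nonempty) (he : e ∈ A)
    (he2 : e * e = 1) : ∃ v ∈ RR Om U A, ∃ x ∈ RR Om U A, al Om U v e = 0 ∧ al Om U x e = 0 ∧ x ≠ v ∧ x ≠ v⁻¹ := by
  -- a first root
  obtain ⟨v, hv, hve⟩ : ∃ v ∈ RR Om U A, al Om U v e = 0 := by
    obtain ⟨v, hv⟩ := hne
    rcases h.al_of_sq hA hv he he2 with h1 | h1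
    · exact ⟨v, hv, h1⟩
    obtain ⟨w, hw, -, -, hl, -⟩ := hr v hv
    rcases h.al_of_sq hA hw he he2 with h2 | h2
    · exact ⟨w, hw, h2⟩
    refine ⟨rf Om U v w, h.rf_mem hA hv hw, ?_⟩
    rw [h.al_rf' hA hv hw he, h1, h2, (lk_iff' _ _).mp (h.lk_symm hA hv hw hl)]; decide
  -- G2 bonds at `v`
  by_cases hG : ∃ w ∈ RR Om U A, Lk Om U v w ∧ al Om U w v = -al Om U v w
  · obtain ⟨w, hw, hl, hg⟩ := hG
    obtain ⟨t, ht, -, t1, t2, t3, -⟩ := h.gTwo hA hv hw hl hg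
    exact ⟨v, hv, t, ht, hve, t3 e he hve he2, t1, t2⟩
  have hsym : ∀ w ∈ RR Om U A, Lk Om U v w → al Om U w v = al Om U v w := by
    intro w hw hl
    rcases h.al_odd_symm hA hv hw hl.1 hl.2 with h1 | h1
    · exact h1
    · exact absurd ⟨w, hw, hl, h1⟩ hG
  obtain ⟨w, hw, u, hu, hlw, hlu, n1, n2, n3, n4⟩ := hr v hv
  have hvne : ∀ x ∈ RR Om U A, Lk Om U v x → x ≠ v ∧ x ≠ v⁻¹ := by
    intro x hx hl
    refine ⟨?_, ?_⟩
    · rintro rfl; exact hl.2 (h.al_self hA hv)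
    · rintro rfl
      apply hl.2
      rw [h.al_inv hA hv hv.1, h.al_self hA hv]; decide
  rcases h.al_of_sq hA hw he he2 with c1 | c1
  · exact ⟨v, hv, w, hw, hve, c1, hvne w hw hlw⟩
  rcases h.al_of_sq hA hu he he2 with c2 | c2
  · exact ⟨v, hv, u, hu, hve, c2, hvne u hu hlu⟩
  -- the two candidates
  have hm := h.rf_mem hA hv hw
  have cm : al Om U (rf Om U v w) e = 2 := by rw [h.al_rf' hA hv hw he, hve, c1, zero_mul, sub_zero]
  have hinv : ∀ {p a : G}, p ∈ RR Om U A → a ∈ A → rf Om U p a⁻¹ = (rf Om U p a)⁻¹ := by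
    intro p a hp ha
    rw [rf, rf, h.al_inv hA hp ha, neg_neg, mul_inv_rev, pw_neg hp.2.1, inv_inv,
      h.comm hA (A.inv_mem ha) (pw_mem hp.1 _)]
  -- `rf p v` for symmetric bonds
  have hrfv : ∀ p ∈ RR Om U A, Lk Om U v p → rf Om U p v = rf Om U v p ∨ rf Om U p v = (rf Om U v p)⁻¹ := by
    intro p hp hl
    rw [rf, rf, hsym p hp hl]
    have hc := h.comm hA hv.1 hp.1
    rcases (lk_iff _ _).mp hl with h1 | h1
    · right
      rw [h1, pw_neg_one hp.2.1, pw_neg_one hv.2.1, mul_inv_rev, inv_inv]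
    · left
      rw [h1, neg_neg, pw_one, pw_one, hc]
  have fin : ∀ p ∈ RR Om U A, al Om U p e = 2 → Lk Om U p u → Lk Om U v p → (rf Om U v p = w ∨ rf Om U v p = w⁻¹ ∨
      rf Om U v p = rf Om U v w ∨ rf Om U v p = (rf Om U v w)⁻¹) →
      ∃ v ∈ RR Om U A, ∃ x ∈ RR Om U A, al Om U v e = 0 ∧ al Om U x e = 0 ∧ x ≠ v ∧ x ≠ v⁻¹ := by
    intro p hp cp hpu hlp hcase
    have hx := h.rf_mem hA hp hu
    have hxe : al Om U (rf Om U p u) e = 0 := by
      rw [h.al_rf' hA hp hu he, c2, cp, (lk_iff' _ _).mp (h.lk_symm hA hp hu hpu)]; decide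
    have hu' : ∀ q : G, q ∈ A → rf Om U p u = q → u = rf Om U p q := by
      intro q hq hh
      rw [← hh, h.rf_rf hA hp hu.1]
    have hmain : u ≠ rf Om U p v ∧ u ≠ (rf Om U p v)⁻¹ := by
      rcases hrfv p hp hlp with h1 | h1 <;> rw [h1] <;> rcases hcase with h2 | h2 | h2 | h2 <;> rw [h2] <;>
        (try simp only [inv_inv]) <;> tauto
    refine ⟨v, hv, _, hx, hve, hxe, fun hh => hmain.1 (hu' v hv.1 hh), fun hh => hmain.2 ?_⟩
    rw [hu' v⁻¹ (A.inv_mem hv.1) hh, hinv hp hv.1]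
  by_cases hwu : Lk Om U w u
  · exact fin w hw c1 hwu hlw (Or.inr (Or.inr (Or.inl rfl)))
  · have hwu0 : al Om U w u = 0 := by
      by_contra h0
      apply hwu
      refine ⟨h0, fun h2 => ?_⟩
      rcases h.al_two hA hw hu h2 with h3 | h3
      · exact n1 h3
      · exact n2 h3
    have huw0 := h.al_zero_symm hA hw hu hwu0
    refine fin (rf Om U v w) hm cm ?_ ?_ (Or.inl (h.rf_rf hA hv hw.1))
    · apply h.lk_symm hA hu hm
      unfold Lk
      rw [h.al_rf_left hA hv hu hw.1, huw0, hsym u hu hlu]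
      rcases (lk_iff _ _).mp hlw with h1 | h1 <;> rcases (lk_iff _ _).mp hlu with h2 | h2 <;> rw [h1, h2] <;> decide
    · unfold Lk
      rw [h.al_rf_left hA hv hv hw.1, h.al_self hA hv]
      rcases (lk_iff _ _).mp hlw with h1 | h1 <;> rw [h1] <;> decide

/-- **(2b)** `C(e) ≤ N(A)` -/
theorem cent_le (h : CVW Om U) (hn : NilCV Om U) (hA : IsA Om U A) (hr : RkThree Om U A) (hne : (RR Om U A).Nonempty)
    (he : e ∈ A) (he2 : e * e = 1) (he1 : e ≠ 1) : centralizer {e} ≤ normalizer (A : Set G) := by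
  obtain ⟨v, hv, x, hx, hve, hxe, n1, n2⟩ := h.exists_two hA hr hne he he2
  set B := WW Om U (OT e) with hB
  have hvB : v ∈ B := subset_closure ⟨hn A hA e he he2 he1 v hv hve, hv.2⟩
  have hxB : x ∈ B := subset_closure ⟨hn A hA e he he2 he1 x hx hxe, hx.2⟩
  have hBA : B ≤ A := h.WW_OT_le hA he
  -- a four-group in `B`
  obtain ⟨f₁, hf₁, f₂, hf₂, k1, k2, k3, k4, k5⟩ : ∃ f₁ ∈ B, ∃ f₂ ∈ B, f₁ * f₁ = 1 ∧ f₁ ≠ 1 ∧ f₂ * f₂ = 1 ∧ f₂ ≠ 1 ∧
      f₁ ≠ f₂ := by
    have h4 : ∀ {w : G}, w ∈ RR Om U A → w * w * (w * w) = 1 := by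
      intro w hw
      have h3 : w ^ 4 = 1 := by rw [← hw.2.1]; exact pow_orderOf_eq_one w
      have h4 : w * w * (w * w) = w ^ 4 := by simp [pow_succ, mul_assoc]
      rw [h4, h3]
    by_cases hsq : x * x = v * v
    · have hc := h.comm hA hv.1 hx.1
      refine ⟨v * v, B.mul_mem hvB hvB, x * v, B.mul_mem hxB hvB, h4 hv, sq_ne_one hv, ?_, ?_, ?_⟩
      · calc x * v * (x * v) = x * (v * x) * v := by group
          _ = x * x * (v * v) := by rw [hc]; group
          _ = 1 := by rw [hsq, h4 hv]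
      · intro hh
        exact n2 (eq_inv_of_mul_eq_one_left hh)
      · intro hh
        exact n1 (mul_right_cancel hh).symm
    · exact ⟨v * v, B.mul_mem hvB hvB, x * x, B.mul_mem hxB hxB, h4 hv, sq_ne_one hv, h4 hx, sq_ne_one hx,
        fun hh => hsq hh.symm⟩
  intro g hg
  have hgB := mem_normalizer_iff_cj.mp (h.WW_OT_norm e hg)
  have hA' := h.isA_cj hA g
  have hBA' : B ≤ cj g A := by
    have := cj_mono g hBA
    rwa [hgB] at this
  have h1 := h.cent_four_le hn hA' (hBA' hf₁) k1 k2 (hBA' hf₂) k3 k4 k5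
  have h2 : A ≤ centralizer {f₁} ⊓ centralizer {f₂} := fun a ha =>
    ⟨mem_centralizer_singleton_iff.mpr (h.comm hA ha (hBA hf₁)), mem_centralizer_singleton_iff.mpr (h.comm hA ha (hBA hf₂))⟩
  rw [mem_normalizer_iff_cj]
  exact h.eq_of_le_norm hA' hA (h2.trans h1)

/-- **(2c)** -/
theorem inf_bot (h : CVW Om U) (hn : NilCV Om U) (hA : IsA Om U A) (hr : RkThree Om U A) (hne : (RR Om U A).Nonempty)
    (hB : IsA Om U B) (hAB : A ≠ B) : A ⊓ B = ⊥ := by
  haveI : Fact (Nat.Prime 2) := ⟨Nat.prime_two⟩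
  by_contra h0
  have h2 : IsPGroup 2 (A ⊓ B : Subgroup G) := (isA_two hA).to_le inf_le_left
  obtain ⟨n, hn'⟩ := IsPGroup.iff_card.1 h2
  have hn0 : n ≠ 0 := by
    rintro rfl
    rw [pow_zero, card_eq_one] at hn'
    exact h0 hn'
  have hdvd : 2 ∣ Nat.card (A ⊓ B : Subgroup G) := by rw [hn']; exact dvd_pow_self 2 hn0
  obtain ⟨⟨e, heAB⟩, ho⟩ := exists_prime_orderOf_dvd_card' 2 hdvd
  rw [Subgroup.orderOf_mk] at ho
  have heA : e ∈ A := heAB.1
  have heB : e ∈ B := heAB.2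
  have he2 : e * e = 1 := by rw [← pow_two, ← ho, pow_orderOf_eq_one]
  have he1 : e ≠ 1 := by
    rintro rfl
    rw [orderOf_one] at ho
    omega
  have h3 := h.cent_le hn hA hr hne heA he2 he1
  have h4 : B ≤ centralizer {e} := fun b hb => mem_centralizer_singleton_iff.mpr (h.comm hB hb heB)
  exact hAB (h.eq_of_le_norm hA hB (h4.trans h3))

end CVW

end Cfsg.Agent.Cit.CV

private theorem dce_149653963215 : _root_.True := by
  try have : _root_.True := by simp only [_root_.Cfsg.Agent.Cit.CV.OT.eq_1]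
  exact _root_.True.intro
end

-- part: Cit/Nil/CV/BlockOne
section
prune_inst 0x400100800512200000000001020003c42920000020008000170400702078e9c4080460020e8200c10000028042034006812dc00500010000000000800011c01a010000000b008a000000016000007180c00000000000000000000000000041000000000000
set_option linter.all false
open scoped Cfsg.Agent.FastGrp

/-!
# (6b)(CV): blocks of `C(e)` without orthogonal members (`IndCV`)

`OneBlk Om U A e BB` : `BB` is a set of members in `C(e)`, invariant under the elements of `C(e)` which normalise a member of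
`BB`, closed under members with a symmetric bond, without orthogonal members; for every `K ∈ BB` with `U K ≤ A` there is
`N ∈ BB` with `zz N ∈ N(A)`, `zz N ∉ A`.

* `lTwo_of` : no root of `A` in `BB` is linked to `v`: the output `LTwo` (`unlinked`: then no root over `e` is linked to `v`);
* `lThree_of` : otherwise the output `LThree`.
-/

set_option autoImplicit false
set_option linter.style.haveILetI false
set_option linter.unusedSectionVars false

namespace Cfsg.Agent.Cit.CV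

open Subgroup Cfsg Cit Tau

/-- a block of `C(e)` without orthogonal members -/
structure PreBlk {G : Type*} [Group G] (Om : Set (Subgroup G)) (e : G) (BB : Set (Subgroup G)) : Prop where
  sub : ∀ K ∈ BB, K ∈ Om ∧ K ≤ centralizer {e}
  cj : ∀ K ∈ BB, ∀ g, g * e = e * g → Cit.cj g K ∈ BB → ∀ N ∈ BB, Cit.cj g N ∈ BB
  lk : ∀ K ∈ BB, ∀ L ∈ Om, L ≤ centralizer {e} → (∃ y ∈ L, ∃ x ∈ Cit.cj y K, Cit.cj x L = K) → L ∈ BB
  one : ∀ K ∈ BB, ∀ L ∈ BB, (∀ x ∈ K, ∀ y ∈ L, x * y = y * x) → K = L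

/-- a block of `C(e)` without orthogonal members, with involutions of `N(A)` outside `A` -/
structure OneBlk {G : Type*} [Group G] (Om : Set (Subgroup G)) (U : Subgroup G → Subgroup G) (A : Subgroup G) (e : G)
    (BB : Set (Subgroup G)) : Prop where
  sub : ∀ K ∈ BB, K ∈ Om ∧ K ≤ centralizer {e}
  cj : ∀ K ∈ BB, ∀ g, g * e = e * g → Cit.cj g K ∈ BB → ∀ N ∈ BB, Cit.cj g N ∈ BB
  lk : ∀ K ∈ BB, ∀ L ∈ Om, L ≤ centralizer {e} → (∃ y ∈ L, ∃ x ∈ Cit.cj y K, Cit.cj x L = K) → L ∈ BB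
  one : ∀ K ∈ BB, ∀ L ∈ BB, (∀ x ∈ K, ∀ y ∈ L, x * y = y * x) → K = L
  ex : ∀ K ∈ BB, U K ≤ A → ∃ N ∈ BB, zz N ∈ normalizer (A : Set G) ∧ zz N ∉ A

theorem OneBlk.toPreBlk {G : Type*} [Group G] {Om : Set (Subgroup G)} {U : Subgroup G → Subgroup G} {A : Subgroup G}
    {e : G} {BB : Set (Subgroup G)} (b : OneBlk Om U A e BB) : PreBlk Om e BB := ⟨b.sub, b.cj, b.lk, b.one⟩

variable {G : Type*} [Group G] {Om BB : Set (Subgroup G)} {U : Subgroup G → Subgroup G} {A B K L M N P T : Subgroup G}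
  {a c d e f g s t u v w x y v₁ v₂ v₃ : G}

/-- the roots of `A` in `BB` -/
def RB (Om : Set (Subgroup G)) (U : Subgroup G → Subgroup G) (A : Subgroup G) (BB : Set (Subgroup G)) : Set G :=
  {v | v ∈ RR Om U A ∧ ∃ K ∈ BB, v ∈ U K}

/-- the stabiliser of `BB` in `C(e)` -/
def YY (e : G) (BB : Set (Subgroup G)) : Subgroup G where
  carrier := {x | x * e = e * x ∧ ∀ N, Cit.cj x N ∈ BB ↔ N ∈ BB}
  one_mem' := ⟨by rw [one_mul, mul_one], fun N => by rw [cj_one]⟩
  mul_mem' := by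
    rintro x y ⟨h1, h2⟩ ⟨h3, h4⟩
    refine ⟨?_, fun N => ?_⟩
    · rw [mul_assoc, h3, ← mul_assoc, h1, mul_assoc]
    · rw [cj_mul, h2, h4]
  inv_mem' := by
    rintro x ⟨h1, h2⟩
    refine ⟨?_, fun N => ?_⟩
    · calc x⁻¹ * e = x⁻¹ * (e * x) * x⁻¹ := by group
        _ = e * x⁻¹ := by rw [← h1]; group
    · rw [← h2, cj_cj_inv]

namespace CVW

variable [Finite G]

theorem two_zpowers (hv4 : orderOf v = 4) : IsPGroup 2 (zpowers v) := by
  apply IsPGroup.of_card (n := 2)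
  rw [Nat.card_zpowers, hv4]
  norm_num

/-- a root of `K` normalising `N`: both lie in a common weak closure -/
theorem exists_common (h : CVW Om U) (hK : K ∈ Om) (hN : N ∈ Om) (hv : v ∈ U K) (hv4 : orderOf v = 4) (hw : w ∈ U N)
    (hw4 : orderOf w = 4) (hn : v ∈ normalizer (N : Set G)) : ∃ B, IsA Om U B ∧ v ∈ RR Om U B ∧ w ∈ RR Om U B := by
  haveI : Fact (Nat.Prime 2) := ⟨Nat.prime_two⟩
  have h1 : IsPGroup 2 (zpowers v ⊔ N : Subgroup G) :=
    (two_zpowers hv4).to_sup_of_normal_right' (h.two N hN) (zpowers_le.2 hn)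
  obtain ⟨S, hS⟩ := h1.exists_le_sylow
  refine ⟨WW Om U S, ⟨S, rfl⟩, ?_, ?_⟩
  · rw [RR_WW]
    exact ⟨hS (mem_sup_left (mem_zpowers v)), hv4, K, hK, hv⟩
  · rw [RR_WW]
    exact ⟨hS (mem_sup_right (h.vch.le N hN hw)), hw4, N, hN, hw⟩

theorem comm_of_norm (h : CVW Om U) (hK : K ∈ Om) (hN : N ∈ Om) (hv : v ∈ U K) (hv4 : orderOf v = 4) (hw : w ∈ U N)
    (hw4 : orderOf w = 4) (hn : v ∈ normalizer (N : Set G)) : v * w = w * v := by
  obtain ⟨B, hB, hvB, hwB⟩ := h.exists_common hK hN hv hv4 hw hw4 hn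
  exact h.comm hB hvB.1 hwB.1

/-- **(B3)** `s = zz N` inverting `V_K`: `s x`, `x ∈ X_K`, is conjugate to `s` under `K` -/
theorem exists_cj_mul (h : CVW Om U) (hK : K ∈ Om) (hN : N ∈ Om) (hv : v ∈ U K) (hv4 : orderOf v = 4)
    (hinv : zz N * v * (zz N)⁻¹ = v⁻¹) (hx : x ∈ XX U K) : ∃ k ∈ K, zz (Cit.cj k N) = zz N * x := by
  obtain ⟨y, hy, hyX⟩ := h.exists_y hK
  obtain ⟨hd, hodd⟩ := Cit.Nil.CV.XLevel.inv_y h hN hK hv hv4 hinv hy hyX
  obtain ⟨d, hdd⟩ : ∃ d, d = (zz N * y * (zz N)⁻¹)⁻¹ * y := ⟨_, rfl⟩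
  rw [← hdd] at hd hodd
  obtain ⟨i, rfl⟩ := Cit.Nil.CV.XLevel.gen_of_odd h hK hd hodd hx
  have hs2 := h.hyp.zz_mul hN
  have hsi := h.hyp.zz_inv hN
  have hdi : zz N * d * (zz N)⁻¹ = d⁻¹ := Cit.Nil.CV.XLevel.inv_xx h hN hK hv hv4 hinv hd
  have hdj : ∀ j : ℤ, zz N * d ^ j = d ^ (-j) * zz N := by
    intro j
    rw [← mul_inv_eq_iff_eq_mul, ← conj_zpow, hdi, inv_zpow, zpow_neg]
  have hds : y⁻¹ * zz N * y = zz N * d := by
    rw [hdd, hsi]
    calc y⁻¹ * zz N * y = (zz N * zz N) * y⁻¹ * zz N * y := by rw [hs2, one_mul]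
      _ = zz N * (zz N * y * zz N)⁻¹ * y := by rw [mul_inv_rev, mul_inv_rev, hsi]; group
      _ = _ := by group
  have hdK : ∀ j : ℤ, d ^ j ∈ K := fun j => K.zpow_mem (XX_le K hd) j
  rcases Int.even_or_odd' i with ⟨j, rfl | rfl⟩
  · refine ⟨d ^ (-j), hdK _, ?_⟩
    rw [h.hyp.zz_cj hN, ← hdj j, mul_assoc, ← zpow_neg, neg_neg, ← zpow_add, two_mul]
  · refine ⟨d ^ (-j) * y⁻¹, K.mul_mem (hdK _) (K.inv_mem hy), ?_⟩
    symm
    rw [h.hyp.zz_cj hN]
    calc zz N * d ^ (2 * j + 1) = (zz N * d ^ j) * d * d ^ j := by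
          rw [mul_assoc, mul_assoc, ← zpow_one_add, ← zpow_add]; congr 2; ring
      _ = d ^ (-j) * (zz N * d) * d ^ j := by rw [hdj]; group
      _ = d ^ (-j) * (y⁻¹ * zz N * y) * d ^ j := by rw [hds]
      _ = _ := by rw [zpow_neg]; group

/-- a member in `C(e)` -/
theorem le_cent_iff (h : CVW Om U) (hA : IsA Om U A) (hK : K ∈ Om) (hvK : v ∈ U K) (hv4 : orderOf v = 4) (hvA : v ∈ A)
    (he : e ∈ A) : K ≤ centralizer {e} ↔ al Om U v e = 0 := by
  constructor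
  · intro hh
    obtain ⟨y, hy, hyX⟩ := h.exists_y hK
    refine h.al_eq hA hK hvK hv4 hvA hy hyX he ?_
    rw [neg_zero, pw_zero, mul_one, mem_centralizer_singleton_iff.1 (hh hy), mul_inv_cancel_right]
  · intro hh y hy
    rw [mem_centralizer_singleton_iff]
    by_cases hyX : y ∈ XX U K
    · exact h.XX_comm hA hK hvK hv4 hvA hyX he
    · have h1 := h.al_spec hA hK hvK hv4 hvA hy hyX he
      rw [hh, neg_zero, pw_zero, mul_one] at h1
      exact mul_inv_eq_iff_eq_mul.1 h1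

end CVW

namespace PreBlk

variable [Finite G] (b : PreBlk Om e BB) (h : CVW Om U)
include b

theorem comm_e (hK : K ∈ BB) (hx : x ∈ K) : x * e = e * x :=
  mem_centralizer_singleton_iff.1 ((b.sub K hK).2 hx)

theorem cj_mem (hK : K ∈ BB) (hx : x ∈ K) (hN : N ∈ BB) : Cit.cj x N ∈ BB :=
  b.cj K hK x (b.comm_e hK hx) (by rwa [mem_normalizer_iff_cj.1 (le_normalizer hx)]) N hN

include h

theorem zz_inj (hK : K ∈ BB) (hL : L ∈ BB) (hz : zz K = zz L) : K = L := by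
  by_contra hne
  exact hne (b.one K hK L hL fun x hx y hy => h.comm_of_zz_eq (b.sub K hK).1 (b.sub L hL).1 hz hne hx hy)

/-- an element of the stabiliser commuting with `zz N` normalises `N` -/
theorem norm_zz (hN : N ∈ BB) (hg : Cit.cj g N ∈ BB) (hc : g * zz N = zz N * g) : g ∈ normalizer (N : Set G) := by
  rw [mem_normalizer_iff_cj]
  refine b.zz_inj h hg hN ?_
  rw [h.hyp.zz_cj (b.sub N hN).1, hc, mul_inv_cancel_right]

theorem norm_zz' (hK : K ∈ BB) (hx : x ∈ K) (hN : N ∈ BB) (hc : x * zz N = zz N * x) : x ∈ normalizer (N : Set G) :=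
  b.norm_zz h hN (b.cj_mem hK hx hN) hc

/-- different members with roots in a common weak closure are linked -/
theorem lk_of (hB : IsA Om U B) (hK : K ∈ BB) (hN : N ∈ BB) (hne : K ≠ N) (hv : v ∈ RR Om U B) (hvK : v ∈ U K)
    (hw : w ∈ RR Om U B) (hwN : w ∈ U N) : Lk Om U v w := by
  refine ⟨fun h0 => ?_, fun h2 => ?_⟩
  · have h1 := h.comm_of_al_zero hB (b.sub K hK).1 hvK hv.2.1 hv.1 (b.sub N hN).1 hwN hw.2.1 hw.1 h0
    exact hne (b.one K hK N hN h1.2)
  · rcases h.al_two hB hv hw h2 with rfl | rfl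
    · exact hne (h.eq_of_mem (b.sub K hK).1 (b.sub N hN).1 hvK hwN hv.2.1)
    · exact hne (h.eq_of_mem (b.sub K hK).1 (b.sub N hN).1 ((U K).inv_mem hvK) hwN hw.2.1)

/-- the third member -/
theorem third (hN : N ∈ BB) (hM : M ∈ BB) (hne : N ≠ M) (hw : w ∈ U N) (hw4 : orderOf w = 4)
    (hn : w ∈ normalizer (M : Set G)) : ∃ P ∈ BB, zz P = zz M * zz N := by
  have hNO := (b.sub N hN).1
  have hMO := (b.sub M hM).1
  obtain ⟨u, hu, hu4⟩ := h.exists_v hMO
  obtain ⟨B, hB, hwB, huB⟩ := h.exists_common hNO hMO hw hw4 hu hu4 hn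
  obtain ⟨y, hy, hyX⟩ := h.exists_y hNO
  refine ⟨Cit.cj y M, b.cj_mem hN hy hM, ?_⟩
  have h1 := h.rf_eq hB hNO hw hw4 hwB.1 hy hyX huB.1
  have h2 := h.sq_rf hB hwB huB (b.lk_of h hB hN hM hne hwB hw huB hu)
  rw [h.hyp.zz_cj hMO, ← h.sq_eq hMO hu hu4, ← h.sq_eq hNO hw hw4, ← h2, ← h1]
  group

/-- `A` acts on `BB` -/
theorem cj_A (hA : IsA Om U A) (he : e ∈ A) (hK : K ∈ BB) (hv : v ∈ U K) (hv4 : orderOf v = 4) (hvA : v ∈ A)
    (ha : a ∈ A) (hN : N ∈ BB) : Cit.cj a N ∈ BB :=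
  b.cj K hK a (h.comm hA ha he)
    (by rwa [mem_normalizer_iff_cj.1 (h.A_le_norm hA (b.sub K hK).1 hv hv4 hvA ha)]) N hN

theorem A_le_YY (hA : IsA Om U A) (he : e ∈ A) (hK : K ∈ BB) (hv : v ∈ U K) (hv4 : orderOf v = 4) (hvA : v ∈ A) :
    A ≤ YY e BB := by
  intro a ha
  refine ⟨h.comm hA ha he, fun N => ⟨fun hN => ?_, fun hN => b.cj_A h hA he hK hv hv4 hvA ha hN⟩⟩
  have h1 := b.cj_A h hA he hK hv hv4 hvA (A.inv_mem ha) hN
  rwa [cj_inv_cj] at h1

omit h in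
theorem mem_YY (hK : K ∈ BB) (hx : x ∈ K) : x ∈ YY e BB := by
  refine ⟨b.comm_e hK hx, fun N => ⟨fun hN => ?_, fun hN => b.cj_mem hK hx hN⟩⟩
  have h1 := b.cj_mem hK (K.inv_mem hx) hN
  rwa [cj_inv_cj] at h1

/-- `zz P ∈ A` implies `U P ≤ A` -/
theorem mem_A_of_zz (hA : IsA Om U A) (he : e ∈ A) (hK : K ∈ BB) (hv : v ∈ U K) (hv4 : orderOf v = 4) (hvA : v ∈ A)
    (hP : P ∈ BB) (hz : zz P ∈ A) (hu : u ∈ U P) (hu4 : orderOf u = 4) : u ∈ RB Om U A BB := by
  have hPO := (b.sub P hP).1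
  have hn : A ≤ normalizer (P : Set G) := fun a ha =>
    b.norm_zz h hP (b.cj_A h hA he hK hv hv4 hvA ha hP) (h.comm hA ha hz)
  have h1 : IsPGroup 2 (A ⊔ P : Subgroup G) := (CVW.isA_two hA).to_sup_of_normal_right' (h.two P hPO) hn
  have h2 := h.WW_eq hA h1 le_sup_left
  have h3 : u ∈ RR Om U (A ⊔ P) := ⟨mem_sup_right (h.vch.le P hPO hu), hu4, P, hPO, hu⟩
  rw [← RR_WW, h2] at h3
  exact ⟨h3, P, hP, hu⟩

/-- `zz N ∉ A` does not centralise all roots of `A` in `BB` -/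
theorem no_cent (hA : IsA Om U A) (he : e ∈ A) (hK : K ∈ BB) (hv : v ∈ U K) (hv4 : orderOf v = 4) (hvA : v ∈ A)
    (hN : N ∈ BB) (hzA : zz N ∉ A) : ∃ u ∈ RB Om U A BB, zz N * u ≠ u * zz N := by
  by_contra hcon
  push Not at hcon
  apply hzA
  have hNO := (b.sub N hN).1
  obtain ⟨w, hw, hw4⟩ := h.exists_v hNO
  have hcw : ∀ u ∈ RB Om U A BB, u * w = w * u := by
    rintro u ⟨hu, L, hL, huL⟩
    refine h.comm_of_norm (b.sub L hL).1 hNO huL hu.2.1 hw hw4 ?_
    exact b.norm_zz' h hL (h.vch.le L (b.sub L hL).1 huL) hN (hcon u ⟨hu, L, hL, huL⟩).symm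
  -- the 2-group
  obtain ⟨T, hT⟩ : ∃ T, T = A ⊓ centralizer {w} ⊔ zpowers w := ⟨_, rfl⟩
  have hT2 : IsPGroup 2 T := by
    rw [hT]
    refine ((CVW.isA_two hA).to_le inf_le_left).to_sup_of_normal_right' (CVW.two_zpowers hw4) ?_
    intro x hx
    refine (centralizer_le_normalizer _) ?_
    intro y hy
    obtain ⟨i, rfl⟩ := mem_zpowers_iff.1 hy
    exact (Commute.zpow_right (mem_centralizer_singleton_iff.1 hx.2 : Commute x w) i).symm.eq
  have hwY : w ∈ YY e BB := b.mem_YY hN (h.vch.le N hNO hw)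
  have hAY := b.A_le_YY h hA he hK hv hv4 hvA
  have hTY : T ≤ YY e BB := by
    rw [hT]
    exact sup_le (inf_le_left.trans hAY) (zpowers_le.2 hwY)
  obtain ⟨S, hS, hAS⟩ := exists_syl_ge (CVW.isA_two hA) hAY
  obtain ⟨S', hS', hTS⟩ := exists_syl_ge hT2 hTY
  obtain ⟨g, hg, hgS⟩ := hS.exists_conj hS'
  have hB := h.isA_cj hA g
  have hWS : WW Om U S' = Cit.cj g A := h.WW_eq hB hS'.2.1 (by rw [← hgS]; exact cj_mono g hAS)
  have hsub : RB Om U A BB ⊆ RB Om U (Cit.cj g A) BB := by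
    rintro u ⟨hu, L, hL, huL⟩
    refine ⟨?_, L, hL, huL⟩
    have h1 : u ∈ T := by
      rw [hT]
      exact mem_sup_left ⟨hu.1, mem_centralizer_singleton_iff.2 (hcw u ⟨hu, L, hL, huL⟩)⟩
    rw [← hWS, RR_WW]
    exact ⟨hTS h1, hu.2⟩
  have hwB : w ∈ RB Om U (Cit.cj g A) BB := by
    refine ⟨?_, N, hN, hw⟩
    rw [← hWS, RR_WW]
    exact ⟨hTS (by rw [hT]; exact mem_sup_right (mem_zpowers w)), hw4, N, hNO, hw⟩
  have himg : RB Om U (Cit.cj g A) BB = (fun x => g * x * g⁻¹) '' RB Om U A BB := by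
    ext x
    constructor
    · rintro ⟨hx, L, hL, hxL⟩
      refine ⟨g⁻¹ * x * g, ⟨?_, Cit.cj g⁻¹ L, ?_, ?_⟩, by group⟩
      · rw [h.RR_cj g]
        have h1 : g * (g⁻¹ * x * g) * g⁻¹ = x := by group
        rwa [h1]
      · rw [← hg.2, cj_cj_inv]; exact hL
      · have h1 := h.vch.conj_mem (b.sub L hL).1 hxL g⁻¹
        rwa [inv_inv] at h1
    · rintro ⟨u, ⟨hu, L, hL, huL⟩, rfl⟩
      exact ⟨(h.RR_cj g).1 hu, Cit.cj g L, (hg.2 L).2 hL, h.vch.conj_mem (b.sub L hL).1 huL g⟩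
  have heq : RB Om U A BB = RB Om U (Cit.cj g A) BB := by
    refine Set.eq_of_subset_of_ncard_le hsub ?_ (Set.toFinite _)
    rw [himg]
    exact Set.ncard_image_le (Set.toFinite _)
  rw [← heq] at hwB
  rw [← h.sq_eq hNO hw hw4]
  exact A.mul_mem hwB.1.1 hwB.1.1

/-- (eps), the commuting case -/
theorem alpha (hN : N ∈ BB) (hM : M ∈ BB) (hw : w ∈ U N) (hw4 : orderOf w = 4) (hg1 : g ≠ 1) (hgw : g * w = w * g)
    (hz : zz M = g * zz N) : ∃ P ∈ BB, zz P = g := by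
  have hNO := (b.sub N hN).1
  have hws : w * zz N = zz N * w := h.hyp.comm_zz hNO (le_normalizer (h.vch.le N hNO hw))
  have hne : N ≠ M := by
    intro hh
    rw [← hh] at hz
    exact hg1 (mul_eq_right.1 hz.symm)
  obtain ⟨P, hP, hzP⟩ := b.third h hN hM hne hw hw4 (b.norm_zz' h hN (h.vch.le N hNO hw) hM (by
    rw [hz, ← mul_assoc, ← hgw, mul_assoc, hws, mul_assoc]))
  refine ⟨P, hP, ?_⟩
  rw [hzP, hz, mul_assoc, h.hyp.zz_mul hNO, mul_one]

/-- two roots of `A` in `BB` which are not linked -/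
theorem rb_class (hA : IsA Om U A) (hv : v ∈ RB Om U A BB) (hw : w ∈ RB Om U A BB) (hl : ¬ Lk Om U v w) :
    w = v ∨ w = v⁻¹ := by
  obtain ⟨hv, K, hK, hvK⟩ := hv
  obtain ⟨hw, L, hL, hwL⟩ := hw
  by_cases h0 : al Om U v w = 0
  · have h1 := h.comm_of_al_zero hA (b.sub K hK).1 hvK hv.2.1 hv.1 (b.sub L hL).1 hwL hw.2.1 hw.1 h0
    exact (h1.1 (b.one K hK L hL h1.2)).elim
  by_cases h2 : al Om U v w = 2
  · exact h.al_two hA hv hw h2
  exact (hl ⟨h0, h2⟩).elim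

omit b in
theorem RB_conj (hs : ∀ K ∈ BB, K ∈ Om) (hg : g ∈ normalizer (A : Set G)) (hgY : ∀ K ∈ BB, Cit.cj g K ∈ BB)
    (hv : v ∈ RB Om U A BB) : g * v * g⁻¹ ∈ RB Om U A BB := by
  obtain ⟨hv, K, hK, hvK⟩ := hv
  exact ⟨h.RR_conj hg hv, Cit.cj g K, hgY K hK, h.vch.conj_mem (hs K hK) hvK g⟩

omit b h in
theorem ne_inv_of_four (hv4 : orderOf v = 4) : v ≠ v⁻¹ := by
  intro hh
  have h3 : v ^ 2 = 1 := by rw [pow_two]; nth_rw 2 [hh]; exact mul_inv_cancel v
  have h4 := orderOf_dvd_of_pow_eq_one h3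
  rw [hv4] at h4
  exact absurd (Nat.le_of_dvd (by norm_num) h4) (by norm_num)

/-- a root over `e` with a symmetric bond to `BB` lies in `BB` -/
theorem lk' (hA : IsA Om U A) (hK : K ∈ BB) (hL : L ∈ Om) (hLe : L ≤ centralizer {e}) (hv : v ∈ RR Om U A)
    (hvK : v ∈ U K) (hw : w ∈ RR Om U A) (hwL : w ∈ U L) (hl : Lk Om U v w) (hs : al Om U w v = al Om U v w) :
    L ∈ BB := by
  have hKO := (b.sub K hK).1
  obtain ⟨y, hy, hyX⟩ := h.exists_y hL
  obtain ⟨v', hv'⟩ : ∃ v', v' = y * v * y⁻¹ := ⟨_, rfl⟩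
  have h1 : v' = rf Om U w v := by rw [hv', h.rf_eq hA hL hwL hw.2.1 hw.1 hy hyX hv.1]
  have hv'R : v' ∈ RR Om U A := by rw [h1]; exact h.rf_mem hA hw hv
  have hv'M : v' ∈ U (Cit.cj y K) := by rw [hv']; exact h.vch.conj_mem hKO hvK y
  have hM := h.hyp.conj K hKO y
  obtain ⟨x, hx, hxX⟩ := h.exists_y hM
  have h2 : x * w * x⁻¹ = rf Om U v' w := h.rf_eq hA hM hv'M hv'R.2.1 hv'R.1 hx hxX hw.1
  obtain ⟨i, hi⟩ : ∃ i, i = al Om U v w := ⟨_, rfl⟩
  have hii : i * i = 1 := by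
    rw [lk_iff] at hl
    rw [hi]
    rcases hl with hl | hl <;> rw [hl] <;> decide
  have h3 : al Om U v' w = -i := by
    rw [h1, h.al_rf' hA hw hv hw.1, h.al_self hA hw, ← hi]; ring
  have hv4 := hv.2.1
  have hw4 := hw.2.1
  have hcm : Commute v (pw w (-i)) := h.comm hA hv.1 (pw_mem hw.1 _)
  have h4 : pw v' i = pw v i * pw w (-1) := by
    rw [h1, rf, hs, ← hi, pw, hcm.mul_pow, ← pw, ← pw]
    congr 1
    have h5 : pw (pw w (-i)) i = pw w (-i * i) := by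
      rw [pw, pw, ← pow_mul, pw, pow_inj_mod, hw4, ZMod.val_mul]
      exact (Nat.mod_mod _ _).symm
    rw [h5, neg_mul, hii]
  have h6 : x * w * x⁻¹ = pw v i := by
    rw [h2, rf, h3, neg_neg, h4, pw_neg_one hw4, h.comm hA (pw_mem hv.1 _) (A.inv_mem hw.1), mul_inv_cancel_left]
  refine b.lk K hK L hL hLe ⟨y, hy, x, hx, ?_⟩
  refine h.eq_of_mem (h.hyp.conj L hL x) hKO (v := pw v i) ?_ (pw_mem hvK i) ?_
  · rw [← h6]; exact h.vch.conj_mem hL hwL x
  · rw [← h6]; exact orderOf_conj_four hw4 x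

/-- an asymmetric bond `v`, `w`: the reflected root lies in `BB` and is linked to `v` -/
theorem g2_mem (hA : IsA Om U A) (he : e ∈ A) (hv : v ∈ RB Om U A BB) (hw : w ∈ RR Om U A) (hwe : al Om U w e = 0)
    (hl : Lk Om U v w) (hg : al Om U w v = -al Om U v w) : rf Om U w v ∈ RB Om U A BB ∧ al Om U v (rf Om U w v) = -1 := by
  obtain ⟨hv, K, hK, hvK⟩ := hv
  have hKO := (b.sub K hK).1
  obtain ⟨L, hL, hwL, y, hy, hyX, hyA, hyy, hrf⟩ := h.exists_root hA hw
  have hve := (h.le_cent_iff hA hKO hvK hv.2.1 hv.1 he).1 (b.sub K hK).2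
  have hv'R : rf Om U w v ∈ RR Om U A := h.rf_mem hA hw hv
  have hv'M : rf Om U w v ∈ U (Cit.cj y K) := by rw [← hrf v hv.1]; exact h.vch.conj_mem hKO hvK y
  have h1 : al Om U v (rf Om U w v) = -1 := by
    rw [h.al_rf_left hA hw hv hv.1, h.al_self hA hv, hg]
    rw [lk_iff] at hl
    rcases hl with hl | hl <;> rw [hl] <;> decide
  have h2 : al Om U (rf Om U w v) v = -1 := by
    rw [h.al_rf' hA hw hv hv.1, h.al_self hA hv, hg]
    rw [lk_iff] at hl
    rcases hl with hl | hl <;> rw [hl] <;> decide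
  have h3 : al Om U (rf Om U w v) e = 0 := by
    rw [h.al_rf' hA hw hv he, hve, hwe, zero_mul, sub_zero]
  have h4 := (h.le_cent_iff hA (h.hyp.conj K hKO y) hv'M hv'R.2.1 hv'R.1 he).2 h3
  exact ⟨⟨hv'R, _, b.lk' h hA hK (h.hyp.conj K hKO y) h4 hv hvK hv'R hv'M ((lk_iff _ _).2 (Or.inr h1))
    (by rw [h1, h2]), hv'M⟩, h1⟩

/-- no asymmetric bonds in `BB` -/
theorem symm_bond (hA : IsA Om U A) (hv : v ∈ RB Om U A BB) (hw : w ∈ RB Om U A BB) (hl : Lk Om U v w) :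
    al Om U w v = al Om U v w := by
  rcases h.al_odd_symm hA hv.1 hw.1 hl.1 hl.2 with h1 | hg
  · exact h1
  exfalso
  obtain ⟨m, hm⟩ : ∃ m, m = rf Om U v w := ⟨_, rfl⟩
  obtain ⟨t, ht⟩ : ∃ t, t = rf Om U w m := ⟨_, rfl⟩
  have hmB : m ∈ RB Om U A BB := by
    obtain ⟨K, hK, hvK⟩ := hv.2
    obtain ⟨y, hy, hyX⟩ := h.exists_y (b.sub K hK).1
    have h1 := h.rf_eq hA (b.sub K hK).1 hvK hv.1.2.1 hv.1.1 hy hyX hw.1.1
    rw [hm, ← h1]
    exact PreBlk.RB_conj h (fun K hK => (b.sub K hK).1)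
      (h.K_le_norm hA (b.sub K hK).1 hvK hv.1.2.1 hv.1.1 hy) (fun L hL => b.cj_mem hK hy hL) hw
  have htB : t ∈ RB Om U A BB := by
    obtain ⟨K, hK, hwK⟩ := hw.2
    obtain ⟨y, hy, hyX⟩ := h.exists_y (b.sub K hK).1
    have h1 := h.rf_eq hA (b.sub K hK).1 hwK hw.1.2.1 hw.1.1 hy hyX hmB.1.1
    rw [ht, ← h1]
    exact PreBlk.RB_conj h (fun K hK => (b.sub K hK).1)
      (h.K_le_norm hA (b.sub K hK).1 hwK hw.1.2.1 hw.1.1 hy) (fun L hL => b.cj_mem hK hy hL) hmB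
  have hv := hv
  obtain ⟨⟨hvR, K, hK, hvK⟩, hwR⟩ := And.intro hv hw.1
  have hv4 := hvR.2.1
  -- values
  have h1 : al Om U w m = -1 := by
    rw [hm, h.al_rf_left hA hvR hwR hwR.1, h.al_self hA hwR, hg]
    rw [lk_iff] at hl
    rcases hl with hl | hl <;> rw [hl] <;> decide
  have h2 : t = w * w * pw v (-al Om U v w) := by
    rw [ht, rf, h1, neg_neg, pw_one, hm, rf]
    calc w * pw v (-al Om U v w) * w = w * (pw v (-al Om U v w) * w) := by group
      _ = w * w * pw v (-al Om U v w) := by rw [h.comm hA (pw_mem hvR.1 _) hwR.1]; group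
  have hodd : -al Om U v w = 1 ∨ -al Om U v w = -1 := by
    rw [lk_iff] at hl
    rcases hl with hl | hl <;> rw [hl] <;> decide
  have hww4 : w * w * (w * w) = 1 := by
    have h3 : w ^ 4 = 1 := by rw [← hwR.2.1]; exact pow_orderOf_eq_one w
    have h4 : w * w * (w * w) = w ^ 4 := by simp [pow_succ, mul_assoc]
    rw [h4, h3]
  have hsqt : t * t = v * v := by
    rw [h2]
    have h3 := h.comm hA (pw_mem hvR.1 (-al Om U v w)) (A.mul_mem hwR.1 hwR.1)
    calc w * w * pw v (-al Om U v w) * (w * w * pw v (-al Om U v w)) =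
          w * w * (pw v (-al Om U v w) * (w * w)) * pw v (-al Om U v w) := by group
      _ = (w * w * (w * w)) * (pw v (-al Om U v w) * pw v (-al Om U v w)) := by rw [h3]; group
      _ = v * v := by rw [hww4, one_mul, CVW.pw_odd_sq hvR hodd]
  have hsq := h.sq_ne hA hvR hwR hl
  have hne : ∀ i : ZMod 4, (i = 1 ∨ i = -1) → t ≠ pw v i := by
    intro i hi hh
    rw [h2] at hh
    have h3 : w * w = pw v (i - -al Om U v w) := by
      rw [sub_eq_add_neg, pw_add hv4, pw_neg hv4 (-al Om U v w)]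
      exact eq_mul_inv_of_mul_eq hh
    have h4 : ∀ i j : ZMod 4, (i = 1 ∨ i = -1) → (j = 1 ∨ j = -1) → i - j = 0 ∨ i - j = 2 := by decide
    rcases h4 i _ hi hodd with h5 | h5
    · rw [h5, pw_zero] at h3
      exact CVW.sq_ne_one hwR h3
    · rw [h5, pw_two] at h3
      exact hsq h3.symm
  obtain ⟨htR, T, hT, htT⟩ := htB
  have hTK : T = K := b.zz_inj h hT hK (by
    rw [← h.sq_eq (b.sub T hT).1 htT htR.2.1, hsqt, h.sq_eq (b.sub K hK).1 hvK hv4])
  rw [hTK] at htT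
  rcases h.eq_or_inv (b.sub K hK).1 hvK hv4 htT htR.2.1 with h3 | h3
  · exact hne 1 (Or.inl rfl) (by rw [h3, pw_one])
  · exact hne (-1) (Or.inr rfl) (by rw [h3, pw_neg_one hv4])

/-! ### No linked roots -/

section AOne

variable (hA : IsA Om U A) (he : e ∈ A) (hK : K ∈ BB) (hv : v ∈ U K) (hv4 : orderOf v = 4) (hvA : v ∈ A)
  (hall : ∀ u ∈ RB Om U A BB, ¬ Lk Om U v u)
include hA he hK hv hv4 hvA hall

omit he in
theorem a1_eq (hu : u ∈ RB Om U A BB) : u = v ∨ u = v⁻¹ :=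
  b.rb_class h hA ⟨⟨hvA, hv4, K, (b.sub K hK).1, hv⟩, K, hK, hv⟩ hu (hall u hu)

theorem a1_zz (hP : P ∈ BB) (hz : zz P ∈ A) : P = K := by
  obtain ⟨u, hu, hu4⟩ := h.exists_v (b.sub P hP).1
  have h1 := b.mem_A_of_zz h hA he hK hv hv4 hvA hP hz hu hu4
  rcases b.a1_eq h hA hK hv hv4 hvA hall h1 with rfl | rfl
  · exact h.eq_of_mem (b.sub P hP).1 (b.sub K hK).1 hu hv hv4
  · exact h.eq_of_mem (b.sub P hP).1 (b.sub K hK).1 hu ((U K).inv_mem hv) hu4

/-- (eps) -/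
theorem a1_invol (hN : N ∈ BB) (hsv : zz N * v * (zz N)⁻¹ = v⁻¹) (hgA : g ∈ A) (hg1 : g ≠ 1)
    (hgs : g * zz N = zz N * g) (hM : M ∈ BB) (hz : zz M = g * zz N) : g = zz K := by
  have hKO := (b.sub K hK).1
  have hNO := (b.sub N hN).1
  have hMO := (b.sub M hM).1
  have hsi := h.hyp.zz_inv hNO
  obtain ⟨w, hw, hw4⟩ := h.exists_v hNO
  have hwN := h.vch.le N hNO hw
  have hgN : g ∈ normalizer (N : Set G) := by
    have h1 : zz M ∈ normalizer (N : Set G) :=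
      b.norm_zz' h hM (h.hyp.zz_mem hMO) hN (by rw [hz, ← mul_assoc, ← hgs])
    have h2 : g = zz M * (zz N)⁻¹ := by rw [hz, mul_inv_cancel_right]
    rw [h2]
    exact mul_mem h1 (inv_mem (le_normalizer (h.hyp.zz_mem hNO)))
  rcases h.conj_or hNO hgN hw hw4 with hgw | hgw
  · obtain ⟨P, hP, hzP⟩ := b.alpha h hN hM hw hw4 hg1 (mul_inv_eq_iff_eq_mul.1 hgw) hz
    rw [← hzP, b.a1_zz h hA he hK hv hv4 hvA hall hP (by rw [hzP]; exact hgA)]
  · have hKv := h.sq_eq hKO hv hv4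
    have hKs : zz N * zz K * (zz N)⁻¹ = zz K := by
      calc zz N * zz K * (zz N)⁻¹ = (zz N * v * (zz N)⁻¹) * (zz N * v * (zz N)⁻¹) := by rw [← hKv]; group
        _ = (v * v)⁻¹ := by rw [hsv, mul_inv_rev]
        _ = zz K := by rw [hKv, h.hyp.zz_inv hKO]
    have hKs' : zz K * zz N = zz N * zz K := (mul_inv_eq_iff_eq_mul.1 hKs).symm
    have hKA : zz K ∈ A := h.zz_mem_A hA hKO hv hv4 hvA
    have hKw : zz K * w * (zz K)⁻¹ = w⁻¹ := by
      refine (h.conj_or hNO (b.norm_zz' h hK (h.hyp.zz_mem hKO) hN hKs') hw hw4).resolve_left fun hh => ?_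
      have h1 : w ∈ normalizer (K : Set G) := b.norm_zz' h hN hwN hK (mul_inv_eq_iff_eq_mul.1 hh).symm
      have h2 := h.comm_of_norm hNO hKO hw hw4 hv hv4 h1
      have h3 : zz N * v = v * zz N := by
        rw [← h.sq_eq hNO hw hw4, mul_assoc, h2, ← mul_assoc, h2, mul_assoc]
      rw [h3, mul_inv_cancel_right] at hsv
      exact ne_inv_of_four hv4 hsv
    have hKg : zz K * g = g * zz K := h.comm hA hKA hgA
    by_contra hne
    have hg' : g * zz K ≠ 1 := fun hh => hne (by rw [eq_inv_of_mul_eq_one_left hh, h.hyp.zz_inv hKO])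
    have hgw' : g * zz K * w = w * (g * zz K) := by
      have h1 : zz K * w = w⁻¹ * zz K := mul_inv_eq_iff_eq_mul.1 hKw
      have h2 : g * w⁻¹ = w * g := by
        have h3 : g * w⁻¹ * g⁻¹ = w := by rw [← conj_inv, hgw, inv_inv]
        exact mul_inv_eq_iff_eq_mul.1 h3
      rw [mul_assoc, h1, ← mul_assoc, h2, mul_assoc]
    have hz' : zz (Cit.cj v M) = g * zz K * zz N := by
      have h1 : zz N * v⁻¹ = v * zz N := by
        have h3 : zz N * v⁻¹ * (zz N)⁻¹ = v := by rw [← conj_inv, hsv, inv_inv]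
        exact mul_inv_eq_iff_eq_mul.1 h3
      rw [h.hyp.zz_cj hMO, hz, ← hKv]
      calc v * (g * zz N) * v⁻¹ = (v * g) * (zz N * v⁻¹) := by group
        _ = g * (v * v) * zz N := by rw [h1, h.comm hA hvA hgA]; group
    obtain ⟨P, hP, hzP⟩ := b.alpha h hN (b.cj_mem hK (h.vch.le K hKO hv) hM) hw hw4 hg' hgw' hz'
    have h3 := b.a1_zz h hA he hK hv hv4 hvA hall hP (by rw [hzP]; exact A.mul_mem hgA hKA)
    rw [h3] at hzP
    exact hg1 (right_eq_mul.1 hzP)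

/-- `f` inverted by `s`, `f s = z_M` -/
theorem a1_f (hN : N ∈ BB) (hsv : zz N * v * (zz N)⁻¹ = v⁻¹) (hfA : f ∈ A) (hf0 : al Om U v f = 0)
    (hfs : zz N * f * (zz N)⁻¹ = f⁻¹) (hM : M ∈ BB) (hz : zz M = f * zz N) : f ∈ zpowers v := by
  have hKO := (b.sub K hK).1
  have hNO := (b.sub N hN).1
  have hMO := (b.sub M hM).1
  have hvR : v ∈ RR Om U A := ⟨hvA, hv4, K, hKO, hv⟩
  have hKv := h.sq_eq hKO hv hv4
  have hf4 := h.pow_four hA hfA
  have hcomm : ∀ {x}, zz N * x * (zz N)⁻¹ = x⁻¹ → x * x = 1 → x * zz N = zz N * x := by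
    intro x h1 h2
    rw [inv_eq_of_mul_eq_one_left h2] at h1
    exact (mul_inv_eq_iff_eq_mul.1 h1).symm
  by_cases hf2 : f * f = 1
  · by_cases hf1 : f = 1
    · rw [hf1]; exact one_mem _
    · rw [b.a1_invol h hA he hK hv hv4 hvA hall hN hsv hfA hf1 (hcomm hfs hf2) hM hz, ← hKv]
      exact mul_mem (mem_zpowers v) (mem_zpowers v)
  · exfalso
    have hff : f * f * (f * f) = 1 := by
      have h4 : f * f * (f * f) = f ^ 4 := by simp [pow_succ, mul_assoc]
      rw [h4, hf4]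
    have hs1 : zz N * (f * f) * (zz N)⁻¹ = (f * f)⁻¹ := by
      calc zz N * (f * f) * (zz N)⁻¹ = (zz N * f * (zz N)⁻¹) * (zz N * f * (zz N)⁻¹) := by group
        _ = (f * f)⁻¹ := by rw [hfs, mul_inv_rev]
    have hsf : zz N * f⁻¹ = f * zz N := by
      have h3 : zz N * f⁻¹ * (zz N)⁻¹ = f := by rw [← conj_inv, hfs, inv_inv]
      exact mul_inv_eq_iff_eq_mul.1 h3
    have hz2 : zz (Cit.cj f N) = f * f * zz N := by
      rw [h.hyp.zz_cj hNO, mul_assoc, hsf, mul_assoc]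
    have h1 := b.a1_invol h hA he hK hv hv4 hvA hall hN hsv (A.mul_mem hfA hfA) hf2 (hcomm hs1 hff)
      (b.cj_A h hA he hK hv hv4 hvA hfA hN) hz2
    -- `f v`
    have hfv := h.comm hA hfA hvA
    have hb1 : f * v ≠ 1 := by
      intro hh
      rw [eq_inv_of_mul_eq_one_left hh, h.al_inv hA hvR hvA, h.al_self hA hvR] at hf0
      exact absurd hf0 (by decide)
    have hb2 : f * v * (f * v) = 1 := by
      calc f * v * (f * v) = f * (v * f) * v := by group
        _ = (f * f) * (v * v) := by rw [← hfv]; group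
        _ = 1 := by rw [h1, hKv, h.hyp.zz_mul hKO]
    have hbs : zz N * (f * v) * (zz N)⁻¹ = (f * v)⁻¹ := by
      calc zz N * (f * v) * (zz N)⁻¹ = (zz N * f * (zz N)⁻¹) * (zz N * v * (zz N)⁻¹) := by group
        _ = (v * f)⁻¹ := by rw [hfs, hsv, mul_inv_rev]
        _ = (f * v)⁻¹ := by rw [hfv]
    have hMv : zz M * v * (zz M)⁻¹ = v⁻¹ := by
      calc zz M * v * (zz M)⁻¹ = f * (zz N * v * (zz N)⁻¹) * f⁻¹ := by rw [hz]; group
        _ = v⁻¹ := by rw [hsv, h.comm hA hfA (A.inv_mem hvA), mul_inv_cancel_right]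
    obtain ⟨k, hk, hzk⟩ := h.exists_cj_mul hKO hMO hv hv4 hMv ((XX U K).inv_mem (h.U_le_XX hKO hv))
    have hzb : zz (Cit.cj k M) = f * v * zz N := by
      have h3 : zz N * v⁻¹ = v * zz N := by
        have h4 : zz N * v⁻¹ * (zz N)⁻¹ = v := by rw [← conj_inv, hsv, inv_inv]
        exact mul_inv_eq_iff_eq_mul.1 h4
      rw [hzk, hz, mul_assoc, h3, mul_assoc]
    have h2 := b.a1_invol h hA he hK hv hv4 hvA hall hN hsv (A.mul_mem hfA hvA) hb1 (hcomm hbs hb2)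
      (b.cj_mem hK hk hM) hzb
    rw [← hKv] at h2
    rw [mul_right_cancel h2, h.al_self hA hvR] at hf0
    exact absurd hf0 (by decide)

end AOne

end PreBlk

namespace OneBlk

variable [Finite G] (b : OneBlk Om U A e BB) (h : CVW Om U)
include b h

section AOne

variable (hA : IsA Om U A) (he : e ∈ A) (hK : K ∈ BB) (hv : v ∈ U K) (hv4 : orderOf v = 4) (hvA : v ∈ A)
  (hall : ∀ u ∈ RB Om U A BB, ¬ Lk Om U v u)
include hA he hK hv hv4 hvA hall

/-- **no linked roots**: the clause `ex` of `LTwo` -/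
theorem lTwo_ex : ∃ N ∈ Om, zz N ∈ normalizer (A : Set G) ∧ zz N * e = e * zz N ∧ zz N * v * (zz N)⁻¹ = v⁻¹ ∧
    ∀ a ∈ A, a⁻¹ * (zz N * a * (zz N)⁻¹) ∈ zpowers v := by
  have hKO := (b.sub K hK).1
  have hvR : v ∈ RR Om U A := ⟨hvA, hv4, K, hKO, hv⟩
  have hvB : v ∈ RB Om U A BB := ⟨hvR, K, hK, hv⟩
  obtain ⟨N, hN, hsA, hsnA⟩ := b.ex K hK (h.U_le_A hA hKO hv hv4 hvA)
  have hNO := (b.sub N hN).1
  have hss := h.hyp.zz_mul hNO
  have hsv : zz N * v * (zz N)⁻¹ = v⁻¹ := by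
    have h1 := PreBlk.RB_conj h (fun K hK => (b.sub K hK).1) hsA
      (fun L hL => b.toPreBlk.cj_mem hN (h.hyp.zz_mem hNO) hL) hvB
    refine (b.toPreBlk.a1_eq h hA hK hv hv4 hvA hall h1).resolve_left fun hh => ?_
    obtain ⟨u, hu, hus⟩ := b.toPreBlk.no_cent h hA he hK hv hv4 hvA hN hsnA
    have h2 : zz N * v = v * zz N := mul_inv_eq_iff_eq_mul.1 hh
    rcases b.toPreBlk.a1_eq h hA hK hv hv4 hvA hall hu with rfl | rfl
    · exact hus h2
    · exact hus ((show Commute (zz N) v from h2).inv_right).eq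
  refine ⟨N, hNO, hsA, b.toPreBlk.comm_e hN (h.hyp.zz_mem hNO), hsv, fun a ha => ?_⟩
  obtain ⟨a', ha'⟩ : ∃ a', a' = zz N * a * (zz N)⁻¹ := ⟨_, rfl⟩
  have ha'A : a' ∈ A := by rw [ha']; exact (mem_normalizer_iff.mp hsA a).mp ha
  rw [← ha']
  obtain ⟨c, hc⟩ : ∃ c, c = a⁻¹ * a' := ⟨_, rfl⟩
  have hcA : c ∈ A := by rw [hc]; exact A.mul_mem (A.inv_mem ha) ha'A
  rw [← hc]
  have hb0A := pw_mem hvA (-al Om U v a)
  obtain ⟨b0, hb0⟩ : ∃ b0, b0 = pw v (-al Om U v a) := ⟨_, rfl⟩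
  rw [← hb0] at hb0A
  have hcs : zz (Cit.cj a⁻¹ N) = c * zz N := by
    rw [h.hyp.zz_cj hNO, hc, ha', inv_inv]
    group
  have hsb : zz N * b0 * (zz N)⁻¹ = b0⁻¹ := by
    rw [hb0, conj_pw, hsv, pw_inv hv4, pw_neg hv4]
  have hsc : zz N * c * (zz N)⁻¹ = c⁻¹ := by
    calc zz N * c * (zz N)⁻¹ = (zz N * a * (zz N)⁻¹)⁻¹ * ((zz N * zz N) * a * (zz N * zz N)⁻¹) := by
          rw [hc, ha']; group
      _ = c⁻¹ := by rw [← ha', hss, hc]; group
  have hcb := h.comm hA hcA hb0A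
  have hfs : zz N * (c * b0⁻¹) * (zz N)⁻¹ = (c * b0⁻¹)⁻¹ := by
    calc zz N * (c * b0⁻¹) * (zz N)⁻¹ = (zz N * c * (zz N)⁻¹) * (zz N * b0 * (zz N)⁻¹)⁻¹ := by group
      _ = c⁻¹ * b0 := by rw [hsc, hsb, inv_inv]
      _ = (b0⁻¹ * c)⁻¹ := by group
      _ = (c * b0⁻¹)⁻¹ := by rw [h.comm hA (A.inv_mem hb0A) hcA]
  have hf0 : al Om U v (c * b0⁻¹) = 0 := by
    rw [h.al_mul hA hvR hcA (A.inv_mem hb0A), h.al_inv hA hvR hb0A, hb0, h.al_pw hA hvR hvA, h.al_self hA hvR, hc,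
      h.al_mul hA hvR (A.inv_mem ha) ha'A, h.al_inv hA hvR ha, ha', h.al_inverted hA hsA hvR hsv ha]
    ring
  have hN'B := b.toPreBlk.cj_A h hA he hK hv hv4 hvA (A.inv_mem ha) hN
  have hN'v : zz (Cit.cj a⁻¹ N) * v * (zz (Cit.cj a⁻¹ N))⁻¹ = v⁻¹ := by
    calc zz (Cit.cj a⁻¹ N) * v * (zz (Cit.cj a⁻¹ N))⁻¹ = c * (zz N * v * (zz N)⁻¹) * c⁻¹ := by rw [hcs]; group
      _ = v⁻¹ := by rw [hsv, h.comm hA hcA (A.inv_mem hvA), mul_inv_cancel_right]
  obtain ⟨k, hk, hzk⟩ := h.exists_cj_mul hKO (b.sub _ hN'B).1 hv hv4 hN'v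
    (show b0 ∈ XX U K by rw [hb0]; exact pw_mem (h.U_le_XX hKO hv) _)
  have hz : zz (Cit.cj k (Cit.cj a⁻¹ N)) = c * b0⁻¹ * zz N := by
    have h3 : zz N * b0 = b0⁻¹ * zz N := mul_inv_eq_iff_eq_mul.1 hsb
    rw [hzk, hcs, mul_assoc, h3, mul_assoc]
  have h1 := b.toPreBlk.a1_f h hA he hK hv hv4 hvA hall hN hsv (A.mul_mem hcA (A.inv_mem hb0A)) hf0 hfs
    (b.toPreBlk.cj_mem hK hk hN'B) hz
  have h2 : c = c * b0⁻¹ * b0 := by group
  rw [h2]
  exact mul_mem h1 (by rw [hb0]; exact pw_mem (mem_zpowers v) _)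

theorem lTwo_of (un : ∀ L ∈ Om, L ≤ centralizer {e} → zz L = zz K → L = K) : LTwo Om U A e v := by
  refine ⟨b.lTwo_ex h hA he hK hv hv4 hvA hall, ?_⟩
  rintro w ⟨hwA, hw4, L, hL, hwL⟩ hw0 hww
  have h1 : L = K := un L hL ((h.le_cent_iff hA hL hwL hw4 hwA he).2 hw0)
    (by rw [← h.sq_eq hL hwL hw4, hww, h.sq_eq (b.sub K hK).1 hv hv4])
  rw [h1] at hwL
  exact h.eq_or_inv (b.sub K hK).1 hv hv4 hwL hw4

end AOne

end OneBlk

/-! ### Linked roots -/

/-- three linked roots of `A` in `BB` -/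
structure ATwo (Om : Set (Subgroup G)) (U : Subgroup G → Subgroup G) (A : Subgroup G) (BB : Set (Subgroup G))
    (v₁ v₂ v₃ : G) : Prop where
  m1 : v₁ ∈ RB Om U A BB
  m2 : v₂ ∈ RB Om U A BB
  m3 : v₃ ∈ RB Om U A BB
  prod : v₁ * v₂ * v₃ = 1
  a12 : al Om U v₁ v₂ = -1
  a21 : al Om U v₂ v₁ = -1
  a13 : al Om U v₁ v₃ = -1
  a31 : al Om U v₃ v₁ = -1
  a23 : al Om U v₂ v₃ = -1
  a32 : al Om U v₃ v₂ = -1

/-- `zz N`, `N ∈ BB`, normalises `A`, is not in `A`, fixes `v₁` and exchanges `v₂`, `v₃` -/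
def SN (A : Subgroup G) (BB : Set (Subgroup G)) (v₁ v₂ v₃ : G) : Prop := ∃ N ∈ BB, zz N ∈ normalizer (A : Set G) ∧
  zz N ∉ A ∧ zz N * v₁ * (zz N)⁻¹ = v₁ ∧ zz N * v₂ * (zz N)⁻¹ = v₃ ∧ zz N * v₃ * (zz N)⁻¹ = v₂

theorem RB_inv [Finite G] (hv : v ∈ RB Om U A BB) : v⁻¹ ∈ RB Om U A BB := by
  obtain ⟨hv, K, hK, hvK⟩ := hv
  exact ⟨CVW.RR_inv hv, K, hK, (U K).inv_mem hvK⟩

namespace ATwo

variable [Finite G] (q : ATwo Om U A BB v₁ v₂ v₃) (h : CVW Om U) (hA : IsA Om U A)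
include q h hA

theorem rot : ATwo Om U A BB v₂ v₃ v₁ where
  m1 := q.m2
  m2 := q.m3
  m3 := q.m1
  prod := by
    rw [← q.prod, h.comm hA (A.mul_mem q.m2.1.1 q.m3.1.1) q.m1.1.1, mul_assoc]
  a12 := q.a23
  a21 := q.a32
  a13 := q.a21
  a31 := q.a12
  a23 := q.a31
  a32 := q.a13

theorem three_inv : v₃⁻¹ = v₂ * v₁ := by
  have h1 := q.prod
  rw [h.comm hA q.m1.1.1 q.m2.1.1] at h1
  rw [eq_inv_of_mul_eq_one_right h1, inv_inv]

theorem rf_eq : rf Om U v₁ v₂ = v₃⁻¹ := by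
  rw [rf, q.a12, neg_neg, pw_one, q.three_inv h hA]

/-- the three functions have sum zero -/
theorem sum (ha : a ∈ A) : al Om U v₁ a + al Om U v₂ a + al Om U v₃ a = 0 := by
  have h2 := h.al_rf' hA q.m1.1 q.m2.1 ha
  rw [q.rf_eq h hA, h.al_neg hA q.m3.1 ha, q.a21] at h2
  linear_combination -h2

theorem ne12 : v₂ ≠ v₁ ∧ v₂ ≠ v₁⁻¹ := by
  have h1 := q.a12
  constructor
  · rintro rfl
    rw [h.al_self hA q.m1.1] at h1
    exact absurd h1 (by decide)
  · intro hh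
    rw [hh, h.al_inv hA q.m1.1 q.m1.1.1, h.al_self hA q.m1.1] at h1
    exact absurd h1 (by decide)

/-- the roots of `A` in `BB` -/
theorem cls (b : PreBlk Om e BB) (hu : u ∈ RB Om U A BB) :
    u = v₁ ∨ u = v₁⁻¹ ∨ u = v₂ ∨ u = v₂⁻¹ ∨ u = v₃ ∨ u = v₃⁻¹ := by
  by_cases h1 : Lk Om U v₁ u
  · by_cases h2 : Lk Om U v₂ u
    · by_cases h3 : Lk Om U v₃ u
      · exfalso
        have h4 := q.sum h hA hu.1.1
        rw [lk_iff] at h1 h2 h3
        rcases h1 with h1 | h1 <;> rcases h2 with h2 | h2 <;> rcases h3 with h3 | h3 <;> rw [h1, h2, h3] at h4 <;>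
          revert h4 <;> decide
      · have := b.rb_class h hA q.m3 hu h3
        (clear * - this; tauto)
    · have := b.rb_class h hA q.m2 hu h2
      (clear * - this; tauto)
  · have := b.rb_class h hA q.m1 hu h1
    (clear * - this; tauto)

/-- `s` inverts no root -/
theorem not_inv (b : PreBlk Om e BB) (hN : N ∈ BB) (hsA : zz N ∈ normalizer (A : Set G)) :
    zz N * v₁ * (zz N)⁻¹ ≠ v₁⁻¹ := by
  intro hs
  have hNO := (b.sub N hN).1
  have h12 : Lk Om U v₁ v₂ := (lk_iff _ _).mpr (Or.inr q.a12)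
  obtain ⟨i1, i2, i3, i4⟩ := h.inverted hA hNO hsA q.m1.1 q.m2.1 h12.1 h12.2 hs
  rw [q.rf_eq h hA] at i3 i4
  rw [inv_inv] at i4
  have h2 := PreBlk.RB_conj h (fun K hK => (b.sub K hK).1) hsA
      (fun L hL => b.cj_mem hN (h.hyp.zz_mem hNO) hL) q.m2
  have h3 := q.ne12 h hA
  rcases q.cls h hA b h2 with h4 | h4 | h4 | h4 | h4 | h4
  · rw [← inv_inv v₁, ← hs, conj_inv] at h4
    exact h3.2 (conj_injective h4)
  · rw [← hs] at h4
    exact h3.1 (conj_injective h4)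
  · exact i1 h4
  · exact i2 h4
  · exact i4 h4
  · exact i3 h4

/-- `s` fixes one of the three roots and exchanges the other two -/
theorem act (b : PreBlk Om e BB) (he : e ∈ A) (hN : N ∈ BB) (hsA : zz N ∈ normalizer (A : Set G))
    (hsnA : zz N ∉ A) :
    (zz N * v₁ * (zz N)⁻¹ = v₁ ∧ zz N * v₂ * (zz N)⁻¹ = v₃ ∧ zz N * v₃ * (zz N)⁻¹ = v₂) ∨
    (zz N * v₂ * (zz N)⁻¹ = v₂ ∧ zz N * v₃ * (zz N)⁻¹ = v₁ ∧ zz N * v₁ * (zz N)⁻¹ = v₃) ∨
    (zz N * v₃ * (zz N)⁻¹ = v₃ ∧ zz N * v₁ * (zz N)⁻¹ = v₂ ∧ zz N * v₂ * (zz N)⁻¹ = v₁) := by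
  have hNO := (b.sub N hN).1
  have q2 := q.rot h hA
  have q3 := q2.rot h hA
  have n1 := q.not_inv h hA b hN hsA
  have n2 := q2.not_inv h hA b hN hsA
  have n3 := q3.not_inv h hA b hN hsA
  have hcj : ∀ {x y}, zz N * x * (zz N)⁻¹ = y → zz N * y * (zz N)⁻¹ = x := by
    rintro x y rfl
    calc zz N * (zz N * x * (zz N)⁻¹) * (zz N)⁻¹ = (zz N * zz N) * x * (zz N * zz N)⁻¹ := by group
      _ = x := by rw [h.hyp.zz_mul hNO]; group
  have hpr : ∀ {x y z}, x * y * z = 1 → zz N * x * (zz N)⁻¹ * (zz N * y * (zz N)⁻¹) * (zz N * z * (zz N)⁻¹) = 1 := by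
    intro x y z h1
    calc zz N * x * (zz N)⁻¹ * (zz N * y * (zz N)⁻¹) * (zz N * z * (zz N)⁻¹) = zz N * (x * y * z) * (zz N)⁻¹ := by group
      _ = 1 := by rw [h1]; group
  have p1 := hpr q.prod
  have e3 := q.three_inv h hA
  have e1 := q2.three_inv h hA
  have e2 := q3.three_inv h hA
  have hinv : ∀ {x y}, zz N * x⁻¹ * (zz N)⁻¹ = y → zz N * x * (zz N)⁻¹ = y⁻¹ := by
    intro x y h1
    rw [← h1, ← conj_inv, inv_inv]
  -- the image of `v₁`
  have h1 := PreBlk.RB_conj h (fun K hK => (b.sub K hK).1) hsA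
      (fun L hL => b.cj_mem hN (h.hyp.zz_mem hNO) hL) q.m1
  rcases q.cls h hA b h1 with h4 | h4 | h4 | h4 | h4 | h4
  · -- `v₁` is fixed
    have h2 := PreBlk.RB_conj h (fun K hK => (b.sub K hK).1) hsA
      (fun L hL => b.cj_mem hN (h.hyp.zz_mem hNO) hL) q.m2
    rcases q.cls h hA b h2 with h5 | h5 | h5 | h5 | h5 | h5
    · exact ((q.ne12 h hA).1 (conj_injective (h5.trans h4.symm))).elim
    · refine ((q.ne12 h hA).2 (conj_injective (h5.trans ?_))).elim
      show v₁⁻¹ = zz N * v₁⁻¹ * (zz N)⁻¹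
      rw [← conj_inv, h4]
    · exfalso
      have h6 : zz N * v₃ * (zz N)⁻¹ = v₃ := by
        rw [h4, h5] at p1
        have h7 := q.prod
        exact mul_left_cancel (p1.trans h7.symm)
      obtain ⟨K, hK, hvK⟩ := q.m1.2
      obtain ⟨u, hu, hus⟩ := b.no_cent h hA he hK hvK q.m1.1.2.1 q.m1.1.1 hN hsnA
      have hc : ∀ {x}, zz N * x * (zz N)⁻¹ = x → zz N * x = x * zz N := mul_inv_eq_iff_eq_mul.1
      have hc' : ∀ {x}, zz N * x * (zz N)⁻¹ = x → zz N * x⁻¹ = x⁻¹ * zz N := fun {x} h1 =>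
        (show Commute (zz N) x from hc h1).inv_right.eq
      rcases q.cls h hA b hu with rfl | rfl | rfl | rfl | rfl | rfl
      · exact hus (hc h4)
      · exact hus (hc' h4)
      · exact hus (hc h5)
      · exact hus (hc' h5)
      · exact hus (hc h6)
      · exact hus (hc' h6)
    · exact (n2 h5).elim
    · exact Or.inl ⟨h4, h5, hcj h5⟩
    · exfalso
      have h6 := hinv (hcj h5)
      rw [h4, h5, h6, mul_assoc, ← mul_inv_rev, h.comm hA q.m2.1.1 q.m3.1.1, ← e1, inv_inv] at p1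
      exact CVW.sq_ne_one q.m1.1 p1
  · exact (n1 h4).elim
  · have h5 := hcj h4
    refine Or.inr (Or.inr ⟨?_, h4, h5⟩)
    rw [h4, h5, ← e3] at p1
    exact (eq_of_inv_mul_eq_one p1).symm
  · exfalso
    have h5 := hinv (hcj h4)
    rw [h4, h5, ← mul_inv_rev, h.comm hA q.m1.1.1 q.m2.1.1, ← e3, inv_inv] at p1
    exact n3 (eq_inv_of_mul_eq_one_right p1)
  · have h5 := hcj h4
    refine Or.inr (Or.inl ⟨?_, h5, h4⟩)
    rw [h4, h5] at p1
    have h6 : zz N * v₂ * (zz N)⁻¹ = v₃⁻¹ * v₁⁻¹ := by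
      rw [← mul_one v₃⁻¹, ← p1]; group
    rw [h6, ← mul_inv_rev, ← e2, inv_inv]
  · exfalso
    have h5 := hinv (hcj h4)
    rw [h4, h5] at p1
    have h6 : zz N * v₂ * (zz N)⁻¹ = v₃ * v₁ := by
      rw [← mul_one v₃, ← p1]; group
    rw [h.comm hA q.m3.1.1 q.m1.1.1, ← e2] at h6
    exact n2 h6

/-- the conjugate under the member of `v₃` -/
theorem rotN (b : PreBlk Om e BB) (hn : SN A BB v₁ v₂ v₃) : SN A BB v₂ v₃ v₁ := by
  obtain ⟨N, hN, hs, hsn, h1, h2, h3⟩ := hn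
  obtain ⟨K, hK, hvK⟩ := q.m3.2
  have hKO := (b.sub K hK).1
  have hNO := (b.sub N hN).1
  have hvR := q.m3.1
  obtain ⟨y, hy, hyX⟩ := h.exists_y hKO
  have hyA := h.K_le_norm hA hKO hvK hvR.2.1 hvR.1 hy
  have hrf := fun a (ha : a ∈ A) => h.rf_eq hA hKO hvK hvR.2.1 hvR.1 hy hyX ha
  have q2 := q.rot h hA
  have q3 := q2.rot h hA
  have y3 : y * v₃ * y⁻¹ = v₃⁻¹ := h.y_inv hKO hy hyX hvK
  have y1 : y * v₁ * y⁻¹ = v₂⁻¹ := by
    rw [hrf v₁ q.m1.1.1, rf, q.a31, neg_neg, pw_one, ← q3.three_inv h hA]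
  have y2 : y * v₂ * y⁻¹ = v₁⁻¹ := by
    rw [hrf v₂ q.m2.1.1, rf, q.a32, neg_neg, pw_one, h.comm hA q.m2.1.1 q.m3.1.1, ← q2.three_inv h hA]
  have i1 : y * v₁⁻¹ * y⁻¹ = v₂ := by rw [← conj_inv, y1, inv_inv]
  have i2 : y * v₂⁻¹ * y⁻¹ = v₁ := by rw [← conj_inv, y2, inv_inv]
  have i3 : y * v₃⁻¹ * y⁻¹ = v₃ := by rw [← conj_inv, y3, inv_inv]
  have j1 : zz N * v₁⁻¹ * (zz N)⁻¹ = v₁⁻¹ := by rw [← conj_inv, h1]
  have j2 : zz N * v₂⁻¹ * (zz N)⁻¹ = v₃⁻¹ := by rw [← conj_inv, h2]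
  have j3 : zz N * v₃⁻¹ * (zz N)⁻¹ = v₂⁻¹ := by rw [← conj_inv, h3]
  have hcj : ∀ {x z}, zz N * x * (zz N)⁻¹ = z →
      y * zz N * y⁻¹ * (y * x * y⁻¹) * (y * zz N * y⁻¹)⁻¹ = y * z * y⁻¹ := by
    rintro x z rfl
    group
  refine ⟨Cit.cj y N, b.cj_mem hK hy hN, ?_, ?_, ?_, ?_, ?_⟩ <;> rw [h.hyp.zz_cj hNO]
  · exact mul_mem (mul_mem hyA hs) (inv_mem hyA)
  · intro hh
    exact hsn ((mem_normalizer_iff.mp hyA _).mpr hh)
  · have := hcj j1
    rwa [i1] at this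
  · have := hcj j3
    rwa [i3, i2] at this
  · have := hcj j2
    rwa [i2, i3] at this

/-- the exchanging elements -/
theorem exists_SN (b : OneBlk Om U A e BB) (he : e ∈ A) : SN A BB v₁ v₂ v₃ ∧ SN A BB v₂ v₃ v₁ ∧ SN A BB v₃ v₁ v₂ := by
  have q2 := q.rot h hA
  have q3 := q2.rot h hA
  obtain ⟨K, hK, hvK⟩ := q.m1.2
  obtain ⟨N, hN, hsA, hsnA⟩ := b.ex K hK (h.U_le_A hA (b.sub K hK).1 hvK q.m1.1.2.1 q.m1.1.1)
  rcases q.act h hA b.toPreBlk he hN hsA hsnA with h1 | h1 | h1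
  · have s1 : SN A BB v₁ v₂ v₃ := ⟨N, hN, hsA, hsnA, h1⟩
    have s2 := q.rotN h hA b.toPreBlk s1
    exact ⟨s1, s2, q2.rotN h hA b.toPreBlk s2⟩
  · have s2 : SN A BB v₂ v₃ v₁ := ⟨N, hN, hsA, hsnA, h1⟩
    have s3 := q2.rotN h hA b.toPreBlk s2
    exact ⟨q3.rotN h hA b.toPreBlk s3, s2, s3⟩
  · have s3 : SN A BB v₃ v₁ v₂ := ⟨N, hN, hsA, hsnA, h1⟩
    have s1 := q3.rotN h hA b.toPreBlk s3
    exact ⟨s1, q.rotN h hA b.toPreBlk s1, s3⟩

omit q in
/-- no asymmetric bond: the reflection in `u` would exchange `x`, `y` -/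
theorem g2_kill (b : PreBlk Om e BB) (hx : x ∈ RR Om U A) (hu : u ∈ RR Om U A) (hl : Lk Om U u x)
    (hr : rf Om U u x = y)
    (hs : ∃ N ∈ BB, zz N ∈ normalizer (A : Set G) ∧ zz N * x * (zz N)⁻¹ = y ∧ zz N * y * (zz N)⁻¹ = x) : False := by
  obtain ⟨N, hN, hsA, h1, h2⟩ := hs
  have hu4 := hu.2.1
  have h3 : pw u (-al Om U u x) = x⁻¹ * y := by rw [← hr, rf]; group
  have hcm : x * y = y * x := by
    rw [← hr]
    exact h.comm hA hx.1 (CVW.rf_mem_A hu hx.1)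
  have h4 : zz N * pw u (-al Om U u x) * (zz N)⁻¹ = (pw u (-al Om U u x))⁻¹ := by
    calc zz N * pw u (-al Om U u x) * (zz N)⁻¹ = (zz N * x * (zz N)⁻¹)⁻¹ * (zz N * y * (zz N)⁻¹) := by rw [h3]; group
      _ = (x⁻¹ * y)⁻¹ := by rw [h1, h2]; group
      _ = _ := by rw [h3]
  have h5 : zz N * u * (zz N)⁻¹ = u⁻¹ := by
    have h6 : u = pw u (-al Om U u x) ∨ u = (pw u (-al Om U u x))⁻¹ := by
      have h7 := (lk_iff _ _).1 hl
      rcases h7 with h7 | h7 <;> rw [h7]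
      · right; rw [pw_neg_one hu4, inv_inv]
      · left; rw [neg_neg, pw_one]
    rcases h6 with h6 | h6
    · rw [← h6] at h4
      exact h4
    · have h7 : pw u (-al Om U u x) = u⁻¹ := by rw [h6, inv_inv, ← h6]
      rw [h7, ← conj_inv, inv_inv, inv_eq_iff_eq_inv] at h4
      exact h4
  exact (h.inverted hA (b.sub N hN).1 hsA hu hx hl.1 hl.2 h5).2.2.1 (by rw [h1, hr])

/-- roots over `e` -/
theorem cl (b : OneBlk Om U A e BB) (he : e ∈ A) (hu : u ∈ RR Om U A) (hu0 : al Om U u e = 0) :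
    (u = v₁ ∨ u = v₁⁻¹ ∨ u = v₂ ∨ u = v₂⁻¹ ∨ u = v₃ ∨ u = v₃⁻¹) ∨
    (al Om U v₁ u = 0 ∧ al Om U v₂ u = 0 ∧ al Om U v₃ u = 0) := by
  obtain ⟨L, hL, huL, -⟩ := h.exists_root hA hu
  have hLe := (h.le_cent_iff hA hL huL hu.2.1 hu.1 he).2 hu0
  have q2 := q.rot h hA
  have q3 := q2.rot h hA
  obtain ⟨s1, s2, s3⟩ := q.exists_SN h hA b he
  have key : ∀ {v₁ v₂ v₃}, ATwo Om U A BB v₁ v₂ v₃ → SN A BB v₂ v₃ v₁ → SN A BB v₃ v₁ v₂ → al Om U v₁ u ≠ 0 →
      u ∈ RB Om U A BB := by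
    clear q q2 q3 s1 s2 s3
    intro v₁ v₂ v₃ q s2 s3 hne
    obtain ⟨hv, K, hK, hvK⟩ := q.m1
    by_cases h2 : al Om U v₁ u = 2
    · rcases h.al_two hA hv hu h2 with rfl | rfl
      · exact q.m1
      · exact RB_inv q.m1
    have hl : Lk Om U v₁ u := ⟨hne, h2⟩
    rcases h.al_odd_symm hA hv hu hne h2 with h3 | h3
    · exact ⟨hu, L, b.toPreBlk.lk' h hA hK hL hLe hv hvK hu huL hl h3, huL⟩
    · exfalso
      obtain ⟨h4, h5⟩ := b.toPreBlk.g2_mem h hA he q.m1 hu hu0 hl h3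
      have hl' := h.lk_symm hA hv hu hl
      rcases q.cls h hA b.toPreBlk h4 with h6 | h6 | h6 | h6 | h6 | h6
      · rw [h6, h.al_self hA hv] at h5; exact absurd h5 (by decide)
      · rw [h6, h.al_inv hA hv hv.1, h.al_self hA hv] at h5; exact absurd h5 (by decide)
      · obtain ⟨N, hN, hsA, -, -, t1, t2⟩ := s3
        exact ATwo.g2_kill h hA b.toPreBlk hv hu hl' h6 ⟨N, hN, hsA, t1, t2⟩
      · rw [h6, h.al_inv hA hv q.m2.1.1, q.a12] at h5; exact absurd h5 (by decide)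
      · obtain ⟨N, hN, hsA, -, -, t1, t2⟩ := s2
        exact ATwo.g2_kill h hA b.toPreBlk hv hu hl' h6 ⟨N, hN, hsA, t2, t1⟩
      · rw [h6, h.al_inv hA hv q.m3.1.1, q.a13] at h5; exact absurd h5 (by decide)
  by_cases h1 : al Om U v₁ u = 0
  · by_cases h2 : al Om U v₂ u = 0
    · by_cases h3 : al Om U v₃ u = 0
      · exact Or.inr ⟨h1, h2, h3⟩
      · exact Or.inl (q.cls h hA b.toPreBlk (key q3 s1 s2 h3))
    · exact Or.inl (q.cls h hA b.toPreBlk (key q2 s3 s1 h2))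
  · exact Or.inl (q.cls h hA b.toPreBlk (key q s2 s3 h1))

/-- no involution in `C_A(K₁ K₂ K₃)` commuting with `s` and moving `s` in its class in `BB` -/
theorem no_invol (b : PreBlk Om e BB) (he : e ∈ A) (hN : N ∈ BB) (hsnA : zz N ∉ A)
    (s1 : zz N * v₁ = v₁ * zz N) (hgA : g ∈ A) (hg1 : g ≠ 1) (hgs : g * zz N = zz N * g) (hM : M ∈ BB)
    (hz : zz M = g * zz N) (g1 : al Om U v₁ g = 0) (g2 : al Om U v₂ g = 0) (g3 : al Om U v₃ g = 0) : False := by
  have hNO := (b.sub N hN).1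
  have hMO := (b.sub M hM).1
  obtain ⟨K, hK, hvK⟩ := q.m1.2
  have hKO := (b.sub K hK).1
  have hvR := q.m1.1
  have hv4 := hvR.2.1
  obtain ⟨w, hw, hw4⟩ := h.exists_v hNO
  have hwN := h.vch.le N hNO hw
  have hgN : g ∈ normalizer (N : Set G) := by
    have h1 : zz M ∈ normalizer (N : Set G) :=
      b.norm_zz' h hM (h.hyp.zz_mem hMO) hN (by rw [hz, ← mul_assoc, ← hgs])
    have h2 : g = zz M * (zz N)⁻¹ := by rw [hz, mul_inv_cancel_right]
    rw [h2]
    exact mul_mem h1 (inv_mem (le_normalizer (h.hyp.zz_mem hNO)))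
  rcases h.conj_or hNO hgN hw hw4 with hgw | hgw
  · obtain ⟨P, hP, hzP⟩ := b.alpha h hN hM hw hw4 hg1 (mul_inv_eq_iff_eq_mul.1 hgw) hz
    obtain ⟨u, hu, hu4⟩ := h.exists_v (b.sub P hP).1
    have h1 := b.mem_A_of_zz h hA he hK hvK hv4 hvR.1 hP (by rw [hzP]; exact hgA) hu hu4
    have h2 : u * u = g := by rw [← hzP, h.sq_eq (b.sub P hP).1 hu hu4]
    rcases q.cls h hA b h1 with h3 | h3 | h3 | h3 | h3 | h3
    · rw [← h2, h3, h.al_sq hA q.m2.1 q.m1.1.1, q.a21] at g2; exact absurd g2 (by decide)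
    · rw [← h2, h3, CVW.sq_inv q.m1.1, h.al_sq hA q.m2.1 q.m1.1.1, q.a21] at g2; exact absurd g2 (by decide)
    · rw [← h2, h3, h.al_sq hA q.m3.1 q.m2.1.1, q.a32] at g3; exact absurd g3 (by decide)
    · rw [← h2, h3, CVW.sq_inv q.m2.1, h.al_sq hA q.m3.1 q.m2.1.1, q.a32] at g3; exact absurd g3 (by decide)
    · rw [← h2, h3, h.al_sq hA q.m1.1 q.m3.1.1, q.a13] at g1; exact absurd g1 (by decide)
    · rw [← h2, h3, CVW.sq_inv q.m3.1, h.al_sq hA q.m1.1 q.m3.1.1, q.a13] at g1; exact absurd g1 (by decide)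
  · have hn : v₁ ∈ normalizer (N : Set G) := b.norm_zz' h hK (h.vch.le K hKO hvK) hN s1.symm
    obtain ⟨B, hB, hvB, hwB⟩ := h.exists_common hKO hNO hvK hv4 hw hw4 hn
    have hne : K ≠ N := by
      rintro rfl
      exact hsnA (h.zz_mem_A hA hKO hvK hv4 hvR.1)
    have hlk := b.lk_of h hB hK hN hne hvB hvK hwB hw
    obtain ⟨y, hy, hyX⟩ := h.exists_y hKO
    have hyw := h.rf_eq hB hKO hvK hv4 hvB.1 hy hyX hwB.1
    have hgK := (h.le_cent_iff hA hKO hvK hv4 hvR.1 hgA).2 g1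
    have hyg : y * g = g * y := mem_centralizer_singleton_iff.1 (hgK hy)
    have hpg := pw_comm (h.comm hA hgA hvR.1) (-al Om U v₁ w)
    have hpw := pw_comm (h.comm hB hwB.1 hvB.1) (-al Om U v₁ w)
    rw [rf] at hyw
    obtain ⟨i, hi⟩ : ∃ i, i = -al Om U v₁ w := ⟨_, rfl⟩
    rw [← hi] at hyw hpg hpw
    have h5 : g * (y * w * y⁻¹) * g⁻¹ = (y * w * y⁻¹)⁻¹ := by
      have h6 : y⁻¹ * g⁻¹ = g⁻¹ * y⁻¹ := by rw [← mul_inv_rev, ← mul_inv_rev, hyg]
      calc g * (y * w * y⁻¹) * g⁻¹ = (g * y) * w * (y⁻¹ * g⁻¹) := by group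
        _ = y * (g * w * g⁻¹) * y⁻¹ := by rw [← hyg, h6]; group
        _ = (y * w * y⁻¹)⁻¹ := by rw [hgw]; group
    have h7 : g * (w * pw v₁ i) * g⁻¹ = w⁻¹ * pw v₁ i := by
      calc g * (w * pw v₁ i) * g⁻¹ = (g * w * g⁻¹) * (g * pw v₁ i) * g⁻¹ := by group
        _ = w⁻¹ * pw v₁ i := by rw [hgw, hpg]; group
    rw [hyw, h7, hpw, mul_inv_rev, mul_right_inj, ← pw_neg hv4] at h5
    have h8 := pw_inj hv4 h5
    rw [lk_iff] at hlk
    rw [hi] at h8
    rcases hlk with hlk | hlk <;> rw [hlk] at h8 <;> exact absurd h8 (by decide)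

theorem f_one (b : PreBlk Om e BB) (he : e ∈ A) (hN : N ∈ BB) (hsnA : zz N ∉ A)
    (s1 : zz N * v₁ = v₁ * zz N) (hfA : f ∈ A) (hfs : zz N * f * (zz N)⁻¹ = f⁻¹) (hM : M ∈ BB)
    (hz : zz M = f * zz N) (f1 : al Om U v₁ f = 0) (f2 : al Om U v₂ f = 0) (f3 : al Om U v₃ f = 0) : f = 1 := by
  have hNO := (b.sub N hN).1
  obtain ⟨K, hK, hvK⟩ := q.m1.2
  by_contra hf1
  have hf4 := h.pow_four hA hfA
  have hcomm : ∀ {x}, zz N * x * (zz N)⁻¹ = x⁻¹ → x * x = 1 → x * zz N = zz N * x := by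
    intro x h1 h2
    rw [inv_eq_of_mul_eq_one_left h2] at h1
    exact (mul_inv_eq_iff_eq_mul.1 h1).symm
  by_cases hf2 : f * f = 1
  · exact q.no_invol h hA b he hN hsnA s1 hfA hf1 (hcomm hfs hf2) hM hz f1 f2 f3
  · have hff : f * f * (f * f) = 1 := by
      have h4 : f * f * (f * f) = f ^ 4 := by simp [pow_succ, mul_assoc]
      rw [h4, hf4]
    have hs1 : zz N * (f * f) * (zz N)⁻¹ = (f * f)⁻¹ := by
      calc zz N * (f * f) * (zz N)⁻¹ = (zz N * f * (zz N)⁻¹) * (zz N * f * (zz N)⁻¹) := by group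
        _ = (f * f)⁻¹ := by rw [hfs, mul_inv_rev]
    have hsf : zz N * f⁻¹ = f * zz N := by
      have h3 : zz N * f⁻¹ * (zz N)⁻¹ = f := by rw [← conj_inv, hfs, inv_inv]
      exact mul_inv_eq_iff_eq_mul.1 h3
    have hz2 : zz (Cit.cj f N) = f * f * zz N := by
      rw [h.hyp.zz_cj hNO, mul_assoc, hsf, mul_assoc]
    exact q.no_invol h hA b he hN hsnA s1 (A.mul_mem hfA hfA) hf2 (hcomm hs1 hff)
      (b.cj_A h hA he hK hvK q.m1.1.2.1 q.m1.1.1 hfA hN) hz2 (by rw [h.al_sq hA q.m1.1 hfA, f1, mul_zero])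
      (by rw [h.al_sq hA q.m2.1 hfA, f2, mul_zero]) (by rw [h.al_sq hA q.m3.1 hfA, f3, mul_zero])

theorem pw_three (n : ZMod 4) : pw v₃ n = pw v₂ (-n) * pw v₁ (-n) := by
  have h1 : pw v₃⁻¹ (-n) = pw v₂ (-n) * pw v₁ (-n) := by
    rw [q.three_inv h hA, pw, pw, pw]
    exact (show Commute v₂ v₁ from h.comm hA q.m2.1.1 q.m1.1.1).mul_pow _
  rw [← h1, pw_inv q.m3.1.2.1, neg_neg]

theorem sThree (b : PreBlk Om e BB) (he : e ∈ A) (hn : SN A BB v₁ v₂ v₃) : SThree A v₁ v₂ v₃ := by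
  obtain ⟨N, hN, hsA, hsnA, s1, s2, s3⟩ := hn
  refine ⟨zz N, hsA, s1, s2, s3, fun a ha => ?_⟩
  have hNO := (b.sub N hN).1
  have hss := h.hyp.zz_mul hNO
  obtain ⟨K, hK, hvK⟩ := q.m1.2
  obtain ⟨L, hL, hvL⟩ := q.m2.2
  have hA1 := q.m1.1.1
  have hA2 := q.m2.1.1
  have h41 := q.m1.1.2.1
  have h42 := q.m2.1.2.1
  obtain ⟨a', ha'⟩ : ∃ a', a' = zz N * a * (zz N)⁻¹ := ⟨_, rfl⟩
  have ha'A : a' ∈ A := by rw [ha']; exact (mem_normalizer_iff.mp hsA a).mp ha
  have l1 : al Om U v₁ a' = al Om U v₁ a := by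
    have := h.al_conj hA hsA q.m1.1 ha
    rwa [s1, ← ha'] at this
  have l2 : al Om U v₂ a' = al Om U v₃ a := by
    have := h.al_conj hA hsA q.m3.1 ha
    rwa [s3, ← ha'] at this
  have l3 : al Om U v₃ a' = al Om U v₂ a := by
    have := h.al_conj hA hsA q.m2.1 ha
    rwa [s2, ← ha'] at this
  rw [← ha']
  obtain ⟨c, hc⟩ : ∃ c, c = a⁻¹ * a' := ⟨_, rfl⟩
  have hcA : c ∈ A := by rw [hc]; exact A.mul_mem (A.inv_mem ha) ha'A
  rw [← hc]
  obtain ⟨d, hd⟩ : ∃ d, d = al Om U v₃ a - al Om U v₂ a := ⟨_, rfl⟩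
  have c1 : al Om U v₁ c = 0 := by
    rw [hc, h.al_mul hA q.m1.1 (A.inv_mem ha) ha'A, h.al_inv hA q.m1.1 ha, l1, neg_add_cancel]
  have c2 : al Om U v₂ c = d := by
    rw [hc, h.al_mul hA q.m2.1 (A.inv_mem ha) ha'A, h.al_inv hA q.m2.1 ha, l2, hd]; ring
  have c3 : al Om U v₃ c = -d := by
    rw [hc, h.al_mul hA q.m3.1 (A.inv_mem ha) ha'A, h.al_inv hA q.m3.1 ha, l3, hd]; ring
  have p1A : ∀ n, pw v₁ n ∈ A := fun n => pw_mem hA1 n
  have p2A : ∀ n, pw v₂ n ∈ A := fun n => pw_mem hA2 n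
  obtain ⟨b0, hb0⟩ : ∃ b0, b0 = pw v₁ (-d) * pw v₂ (-(2 * d)) := ⟨_, rfl⟩
  have hb0A : b0 ∈ A := by rw [hb0]; exact A.mul_mem (p1A _) (p2A _)
  have b1 : al Om U v₁ b0 = 0 := by
    rw [hb0, h.al_mul hA q.m1.1 (p1A _) (p2A _), h.al_pw hA q.m1.1 hA1, h.al_pw hA q.m1.1 hA2,
      h.al_self hA q.m1.1, q.a12]
    ring
  have b2 : al Om U v₂ b0 = d := by
    rw [hb0, h.al_mul hA q.m2.1 (p1A _) (p2A _), h.al_pw hA q.m2.1 hA1, h.al_pw hA q.m2.1 hA2,
      h.al_self hA q.m2.1, q.a21]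
    clear hd c2 c3 hb0
    revert d
    decide
  have b3 : al Om U v₃ b0 = -d := by
    rw [hb0, h.al_mul hA q.m3.1 (p1A _) (p2A _), h.al_pw hA q.m3.1 hA1, h.al_pw hA q.m3.1 hA2, q.a31, q.a32]
    clear hd c2 c3 hb0 b2
    revert d
    decide
  have hb0i : b0⁻¹ = pw v₂ (2 * d) * pw v₁ d := by
    rw [hb0, mul_inv_rev, ← pw_neg h42, ← pw_neg h41, neg_neg, neg_neg]
  have hcm : ∀ m n, pw v₁ m * pw v₂ n = pw v₂ n * pw v₁ m := fun m n => h.comm hA (p1A m) (p2A n)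
  have hsb : zz N * b0 * (zz N)⁻¹ = b0⁻¹ := by
    have h1 : zz N * b0 * (zz N)⁻¹ = (zz N * pw v₁ (-d) * (zz N)⁻¹) * (zz N * pw v₂ (-(2 * d)) * (zz N)⁻¹) := by
      rw [hb0]; group
    rw [h1, conj_pw, conj_pw, s1, s2, q.pw_three h hA, neg_neg, hb0i, ← mul_assoc, hcm, mul_assoc, ← pw_add h41]
    congr 2
    ring
  have hcs : zz (Cit.cj a⁻¹ N) = c * zz N := by
    rw [h.hyp.zz_cj hNO, hc, ha', inv_inv]
    group
  have hsc : zz N * c * (zz N)⁻¹ = c⁻¹ := by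
    calc zz N * c * (zz N)⁻¹ = (zz N * a * (zz N)⁻¹)⁻¹ * ((zz N * zz N) * a * (zz N * zz N)⁻¹) := by
          rw [hc, ha']; group
      _ = c⁻¹ := by rw [← ha', hss, hc]; group
  have hcb := h.comm hA hcA hb0A
  have hfs : zz N * (c * b0⁻¹) * (zz N)⁻¹ = (c * b0⁻¹)⁻¹ := by
    calc zz N * (c * b0⁻¹) * (zz N)⁻¹ = (zz N * c * (zz N)⁻¹) * (zz N * b0 * (zz N)⁻¹)⁻¹ := by group
      _ = c⁻¹ * b0 := by rw [hsc, hsb, inv_inv]
      _ = (b0⁻¹ * c)⁻¹ := by group
      _ = (c * b0⁻¹)⁻¹ := by rw [h.comm hA (A.inv_mem hb0A) hcA]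
  have hfal : ∀ {v}, v ∈ RR Om U A → al Om U v (c * b0⁻¹) = al Om U v c - al Om U v b0 := by
    intro v hv
    rw [h.al_mul hA hv hcA (A.inv_mem hb0A), h.al_inv hA hv hb0A]
    ring
  have hz : zz (Cit.cj (pw v₂ d) (Cit.cj a⁻¹ N)) = c * b0⁻¹ * zz N := by
    have h1 : zz N * (pw v₂ d)⁻¹ * (zz N)⁻¹ = pw v₂ d * pw v₁ d := by
      rw [← pw_neg h42, conj_pw, s2, q.pw_three h hA, neg_neg]
    have h2 : pw v₂ d * c = c * pw v₂ d := h.comm hA (p2A d) hcA
    rw [h.hyp.zz_cj (b.sub _ (b.cj_A h hA he hK hvK h41 hA1 (A.inv_mem ha) hN)).1, hcs]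
    calc pw v₂ d * (c * zz N) * (pw v₂ d)⁻¹ = (pw v₂ d * c) * (zz N * (pw v₂ d)⁻¹ * (zz N)⁻¹) * zz N := by group
      _ = c * ((pw v₂ d * pw v₂ d) * pw v₁ d) * zz N := by rw [h1, h2]; group
      _ = c * b0⁻¹ * zz N := by rw [← pw_add h42, ← two_mul, hb0i]
  have h1 := q.f_one h hA b he hN hsnA (mul_inv_eq_iff_eq_mul.1 s1) (A.mul_mem hcA (A.inv_mem hb0A)) hfs
    (b.cj_mem hL (pw_mem (h.vch.le L (b.sub L hL).1 hvL) d)
      (b.cj_A h hA he hK hvK h41 hA1 (A.inv_mem ha) hN)) hz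
    (by rw [hfal q.m1.1, c1, b1, sub_zero]) (by rw [hfal q.m2.1, c2, b2, sub_self])
    (by rw [hfal q.m3.1, c3, b3, sub_self])
  rw [mul_inv_eq_one.1 h1, hb0]
  exact mul_mem (pw_mem (_root_.Subgroup.subset_closure (by simp)) _) (pw_mem (_root_.Subgroup.subset_closure (by simp)) _)

end ATwo

namespace PreBlk

variable [Finite G] (b : PreBlk Om e BB) (h : CVW Om U)
include b h

/-- the three roots -/
theorem exists_ATwo (hA : IsA Om U A) (hv : v ∈ RB Om U A BB) (hw : w ∈ RB Om U A BB) (hl : Lk Om U v w) :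
    ∃ v₂ v₃, ATwo Om U A BB v v₂ v₃ := by
  have hsym := b.symm_bond h hA hv hw hl
  -- the second root
  obtain ⟨v₂, m2, a12, a21⟩ : ∃ v₂ ∈ RB Om U A BB, al Om U v v₂ = -1 ∧ al Om U v₂ v = -1 := by
    rcases (lk_iff v w).1 hl with h1 | h1
    · refine ⟨w⁻¹, RB_inv hw, ?_, ?_⟩
      · rw [h.al_inv hA hv.1 hw.1.1, h1]
      · rw [h.al_neg hA hw.1 hv.1.1, hsym, h1]
    · exact ⟨w, hw, h1, by rw [hsym, h1]⟩
  -- the third root
  have hrf : rf Om U v v₂ = v₂ * v := by rw [rf, a12, neg_neg, pw_one]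
  have m3' : v₂ * v ∈ RB Om U A BB := by
    obtain ⟨K, hK, hvK⟩ := hv.2
    obtain ⟨y, hy, hyX⟩ := h.exists_y (b.sub K hK).1
    have h1 := h.rf_eq hA (b.sub K hK).1 hvK hv.1.2.1 hv.1.1 hy hyX m2.1.1
    rw [← hrf, ← h1]
    exact PreBlk.RB_conj h (fun K hK => (b.sub K hK).1)
      (h.K_le_norm hA (b.sub K hK).1 hvK hv.1.2.1 hv.1.1 hy) (fun L hL => b.cj_mem hK hy hL) m2
  have m3 := RB_inv m3'
  have hcm := h.comm hA m2.1.1 hv.1.1
  have h3A := m3'.1.1
  have t1 : al Om U v (v₂ * v) = 1 := by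
    rw [h.al_mul hA hv.1 m2.1.1 hv.1.1, a12, h.al_self hA hv.1]; decide
  have t2 : al Om U v₂ (v₂ * v) = 1 := by
    rw [h.al_mul hA m2.1 m2.1.1 hv.1.1, a21, h.al_self hA m2.1]; decide
  have t3 : ∀ a ∈ A, al Om U (v₂ * v)⁻¹ a = -(al Om U v₂ a + al Om U v a) := by
    intro a ha
    rw [h.al_neg hA m3'.1 ha, ← hrf, h.al_rf' hA hv.1 m2.1 ha, a21]
    ring
  refine ⟨v₂, (v₂ * v)⁻¹, hv, m2, m3, ?_, a12, a21, ?_, ?_, ?_, ?_⟩
  · rw [← hcm, mul_inv_cancel]
  · rw [h.al_inv hA hv.1 h3A, t1]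
  · rw [t3 v hv.1.1, a21, h.al_self hA hv.1]; decide
  · rw [h.al_inv hA m2.1 h3A, t2]
  · rw [t3 v₂ m2.1.1, a12, h.al_self hA m2.1]; decide

theorem e_zero (hA : IsA Om U A) (he : e ∈ A) (hv : v ∈ RB Om U A BB) : al Om U v e = 0 := by
  obtain ⟨hv, K, hK, hvK⟩ := hv
  exact (h.le_cent_iff hA (b.sub K hK).1 hvK hv.2.1 hv.1 he).1 (b.sub K hK).2

end PreBlk

namespace OneBlk

variable [Finite G] (b : OneBlk Om U A e BB) (h : CVW Om U)
include b h

/-- **linked roots**: the output `LThree` -/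
theorem lThree_of (hA : IsA Om U A) (he : e ∈ A) (hv : v ∈ RB Om U A BB)
    (hw : w ∈ RB Om U A BB) (hl : Lk Om U v w) : ∃ v₂ v₃, LThree Om U A e v v₂ v₃ := by
  obtain ⟨v₂, v₃, q⟩ := b.toPreBlk.exists_ATwo h hA hv hw hl
  have q2 := q.rot h hA
  have q3 := q2.rot h hA
  obtain ⟨n1, n2, n3⟩ := q.exists_SN h hA b he
  exact ⟨v₂, v₃,
    { m1 := q.m1.1, m2 := q.m2.1, m3 := q.m3.1, prod := q.prod, a12 := q.a12, a21 := q.a21, a13 := q.a13, a31 := q.a31
      a23 := q.a23, a32 := q.a32, e1 := b.toPreBlk.e_zero h hA he q.m1, e2 := b.toPreBlk.e_zero h hA he q.m2, e3 := b.toPreBlk.e_zero h hA he q.m3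
      cl := fun u hu hu0 => q.cl h hA b he hu hu0, s1 := q.sThree h hA b.toPreBlk he n1
      s2 := q2.sThree h hA b.toPreBlk he n2, s3 := q3.sThree h hA b.toPreBlk he n3 }⟩

end OneBlk

end Cfsg.Agent.Cit.CV
end

-- part: Cit/Nil/CV1/Basic
section
set_option linter.all false
open scoped Cfsg.Agent.FastGrp

/-!
# (6b)(CV), rank one: basic facts

`Phi Om S` = the members contained in `S`; `TT U K s` = `s` commutes with `zz K` and not with `V_K`.
Frames `Phi Om S`, `S` Sylow: exchange, maximality; the block relation `Conn` of `H`; `full` = (F2).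
-/

set_option autoImplicit false
set_option linter.style.haveILetI false
set_option linter.unusedSectionVars false

namespace Cfsg.Agent.Cit.CV1

open Subgroup Cfsg Cit Tau CV

variable {G : Type*} [Group G]

/-- the members contained in `S` -/
def Phi (Om : Set (Subgroup G)) (S : Subgroup G) : Set (Subgroup G) := {K | K ∈ Om ∧ K ≤ S}

/-- `s` commutes with `zz K`, not with `V_K` -/
def TT (U : Subgroup G → Subgroup G) (K : Subgroup G) (s : G) : Prop :=
  s * zz K = zz K * s ∧ ∃ v ∈ U K, orderOf v = 4 ∧ s * v ≠ v * s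

variable {Om : Set (Subgroup G)} {U : Subgroup G → Subgroup G} {H K L M N S T : Subgroup G} {a b e g s u v w x y : G}

theorem Phi_mono (h : S ≤ T) : Phi Om S ⊆ Phi Om T := fun _ hK => ⟨hK.1, hK.2.trans h⟩

theorem Orth.symm (h : Orth K L) : Orth L K := ⟨h.1.symm, fun x hx y hy => (h.2 y hy x hx).symm⟩

theorem comm_cj (h : ∀ x ∈ K, ∀ y ∈ L, x * y = y * x) (g : G) : ∀ x ∈ cj g K, ∀ y ∈ cj g L, x * y = y * x := by
  rintro _ ⟨x, hx, rfl⟩ _ ⟨y, hy, rfl⟩
  have := h x hx y hy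
  simp only [MulEquiv.coe_toMonoidHom, ← map_mul, this]

theorem Orth.cj (h : Orth K L) (g : G) : Orth (cj g K) (cj g L) :=
  ⟨fun hh => h.1 (cj_inj.1 hh), comm_cj h.2 g⟩

theorem Phi_cj (hO : ∀ K ∈ Om, ∀ g, cj g K ∈ Om) (g : G) : Phi Om (cj g S) = cj g '' Phi Om S := by
  ext K
  constructor
  · rintro ⟨hK, hKS⟩
    refine ⟨cj g⁻¹ K, ⟨hO K hK _, ?_⟩, cj_cj_inv g K⟩
    rw [← cj_le_cj (g := g), cj_cj_inv]
    exact hKS
  · rintro ⟨K, ⟨hK, hKS⟩, rfl⟩
    exact ⟨hO K hK g, cj_mono g hKS⟩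

theorem ncard_Phi_cj (hO : ∀ K ∈ Om, ∀ g, cj g K ∈ Om) (g : G) : (Phi Om (cj g S)).ncard = (Phi Om S).ncard := by
  rw [Phi_cj hO, Set.ncard_image_of_injective _ (cj_injective g)]

theorem cj_top (g : G) : cj g (⊤ : Subgroup G) = ⊤ := by
  ext x; rw [mem_cj]; simp

section finite

variable [Finite G]

theorem syl_cj_top (hS : Syl S ⊤) (g : G) : Syl (cj g S) ⊤ := by
  have := hS.cj g
  rwa [cj_top] at this

theorem ncard_Phi_eq (hO : ∀ K ∈ Om, ∀ g, cj g K ∈ Om) (hS : Syl S ⊤) (hT : Syl T ⊤) :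
    (Phi Om S).ncard = (Phi Om T).ncard := by
  obtain ⟨g, -, rfl⟩ := hS.exists_conj hT
  rw [ncard_Phi_cj hO]

theorem exists_top (hT : IsPGroup 2 T) : ∃ S, Syl S (⊤ : Subgroup G) ∧ T ≤ S := exists_syl_ge hT le_top

/-- a 2-group containing all members of a Sylow subgroup `S` contains no others -/
theorem Phi_eq_of_le (hO : ∀ K ∈ Om, ∀ g, cj g K ∈ Om) (hS : Syl S ⊤) (hT : IsPGroup 2 T)
    (h : ∀ K ∈ Phi Om S, K ≤ T) : Phi Om T = Phi Om S := by
  obtain ⟨S', hS', hTS'⟩ := exists_top hT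
  have h1 : Phi Om S ⊆ Phi Om T := fun K hK => ⟨hK.1, h K hK⟩
  symm
  refine Set.eq_of_subset_of_ncard_le h1 ?_ (Set.toFinite _)
  rw [ncard_Phi_eq hO hS hS']
  exact Set.ncard_le_ncard (Phi_mono hTS') (Set.toFinite _)

omit [Finite G] in
theorem le_centralizer_of_comm (h : ∀ x ∈ K, ∀ y ∈ L, x * y = y * x) : L ≤ centralizer (K : Set G) := by
  intro y hy
  rw [mem_centralizer_iff]
  intro x hx
  exact h x hx y hy

omit [Finite G] in
theorem comm_of_le_centralizer (h : L ≤ centralizer (K : Set G)) : ∀ x ∈ K, ∀ y ∈ L, x * y = y * x :=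
  fun x hx _ hy => mem_centralizer_iff.1 (h hy) x hx

/-- commuting 2-groups generate a 2-group -/
theorem two_sup (hK : IsPGroup 2 K) (hL : IsPGroup 2 L) (h : K ≤ normalizer (L : Set G)) :
    IsPGroup 2 (L ⊔ K : Subgroup G) := by
  haveI : Fact (Nat.Prime 2) := ⟨Nat.prime_two⟩
  exact IsPGroup.to_sup_of_normal_left' hL hK h

theorem two_sup_comm (hK : IsPGroup 2 K) (hL : IsPGroup 2 L) (h : ∀ x ∈ K, ∀ y ∈ L, x * y = y * x) :
    IsPGroup 2 (L ⊔ K : Subgroup G) := by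
  refine two_sup hK hL ?_
  intro x hx
  rw [mem_normalizer_iff_cj]
  ext z
  rw [mem_cj]
  constructor
  · intro hz
    have h1 := h x hx _ hz
    have h2 : z = x * (x⁻¹ * z * x) * x⁻¹ := by group
    rw [h2, h1, mul_inv_cancel_right]
    exact hz
  · intro hz
    have h1 := h x⁻¹ (K.inv_mem hx) z hz
    rw [h1, inv_mul_cancel_right]
    exact hz

/-- pairwise commuting 2-groups generate a 2-group -/
theorem two_sSup {F : Set (Subgroup G)} (h2 : ∀ K ∈ F, IsPGroup 2 K)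
    (hc : ∀ K ∈ F, ∀ L ∈ F, K ≠ L → ∀ x ∈ K, ∀ y ∈ L, x * y = y * x) : IsPGroup 2 (sSup F : Subgroup G) := by
  have hF : F.Finite := Set.toFinite F
  induction F, hF using Set.Finite.induction_on with
  | empty => rw [sSup_empty]; exact IsPGroup.of_bot
  | @insert K F hKF hF ih =>
    have h3 := ih (fun L hL => h2 L (Set.mem_insert_of_mem _ hL))
      (fun L hL M hM => hc L (Set.mem_insert_of_mem _ hL) M (Set.mem_insert_of_mem _ hM))
    rw [sSup_insert, sup_comm]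
    refine two_sup_comm (h2 K (Set.mem_insert _ _)) h3 ?_
    apply comm_of_le_centralizer
    refine sSup_le fun L hL => le_centralizer_of_comm ?_
    exact hc K (Set.mem_insert _ _) L (Set.mem_insert_of_mem _ hL) (by rintro rfl; exact hKF hL)

end finite

/-! ### The block relation -/

section block

theorem Adj.symm (h : Adj Om H K L) : Adj Om H L K := ⟨h.2.1, h.1, by rw [commutator_comm]; exact h.2.2⟩

theorem Conn.symm (h : Conn Om H K L) : Conn Om H L K := by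
  induction h with
  | refl => exact Relation.ReflTransGen.refl
  | tail _ h2 ih => exact Relation.ReflTransGen.head h2.symm ih

theorem Conn.trans (h : Conn Om H K L) (h' : Conn Om H L M) : Conn Om H K M := Relation.ReflTransGen.trans h h'

theorem Adj.conn (h : Adj Om H K L) : Conn Om H K L := Relation.ReflTransGen.single h

theorem Conn.rfl : Conn Om H K K := Relation.ReflTransGen.refl

/-- a commutator outside `O(H)` -/
theorem adj_of_comm (hK : K ∈ Om) (hKH : K ≤ H) (hL : L ∈ Om) (hLH : L ≤ H) (hx : x ∈ K) (hy : y ∈ L)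
    (h : x * y * x⁻¹ * y⁻¹ ∉ OO H) : Adj Om H K L :=
  ⟨⟨hK, hKH⟩, ⟨hL, hLH⟩, fun hh => h (hh (commutator_mem_commutator hx hy))⟩

theorem comm_mem_of_not_conn (hK : K ∈ Om) (hKH : K ≤ H) (hL : L ∈ Om) (hLH : L ≤ H) (h : ¬ Conn Om H K L)
    (hx : x ∈ K) (hy : y ∈ L) : x * y * x⁻¹ * y⁻¹ ∈ OO H := by
  by_contra hh
  exact h (adj_of_comm hK hKH hL hLH hx hy hh).conn

theorem Adj.cj (hO : ∀ K ∈ Om, ∀ g, cj g K ∈ Om) (h : Adj Om H K L) (hg : g ∈ normalizer (H : Set G)) :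
    Adj Om H (cj g K) (cj g L) := by
  have hgH := mem_normalizer_iff_cj.1 hg
  refine ⟨⟨hO K h.1.1 g, ?_⟩, ⟨hO L h.2.1.1 g, ?_⟩, ?_⟩
  · rw [← hgH]; exact cj_mono g h.1.2
  · rw [← hgH]; exact cj_mono g h.2.1.2
  · have h1 : OO H = Cit.cj g (OO H) := by rw [← OO_cj, hgH]
    rw [← cj_commutator, h1, cj_le_cj]
    exact h.2.2

theorem Conn.cj (hO : ∀ K ∈ Om, ∀ g, cj g K ∈ Om) (h : Conn Om H K L) (hg : g ∈ normalizer (H : Set G)) :
    Conn Om H (cj g K) (cj g L) := by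
  induction h with
  | refl => exact Relation.ReflTransGen.refl
  | tail _ h2 ih => exact Relation.ReflTransGen.tail ih (h2.cj hO hg)

theorem Conn.mem (h : Conn Om H K L) (hK : K ∈ Om ∧ K ≤ H) : L ∈ Om ∧ L ≤ H := by
  induction h with
  | refl => exact hK
  | tail _ h2 _ => exact h2.2.1

end block

namespace RW

variable [Finite G] (h : RW Om U)
include h

theorem hO : ∀ K ∈ Om, ∀ g, cj g K ∈ Om := h.hyp.conj

/-- distinct members in a 2-group are orthogonal -/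
theorem orth_of_two (hT : IsPGroup 2 T) (hK : K ∈ Om) (hKT : K ≤ T) (hL : L ∈ Om) (hLT : L ≤ T) (hne : K ≠ L) :
    Orth K L := by
  refine ⟨hne, fun x hx y hy => ?_⟩
  exact h.hyp.comm hT (mem_OmS_of_le hK (syl_self (h.two K hK)) hKT) (mem_OmS_of_le hL (syl_self (h.two L hL)) hLT)
    hne ⟨hx, hKT hx⟩ ⟨hy, hLT hy⟩

theorem orth_of_Phi (hS : Syl S T) (hK : K ∈ Phi Om S) (hL : L ∈ Phi Om S) (hne : K ≠ L) : Orth K L :=
  h.orth_of_two hS.2.1 hK.1 hK.2 hL.1 hL.2 hne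

/-- **(B2)** -/
theorem comm_of_zz (hK : K ∈ Om) (hN : N ∈ Om) (hv : v ∈ U K) (hv4 : orderOf v = 4)
    (hc : zz N * v = v * zz N) : K = N ∨ ∀ x ∈ K, ∀ y ∈ N, x * y = y * x := by
  obtain ⟨w, hw, hw4⟩ := h.exists_v hN
  have h1 : v ∈ normalizer (N : Set G) := h.norm_h3 hK hN (h.vch.le K hK hv) (by rw [hv4]) hc.symm
  have h2 : IsPGroup 2 (N ⊔ zpowers v : Subgroup G) := by
    refine two_sup ((h.two K hK).to_le (zpowers_le.2 (h.vch.le K hK hv))) (h.two N hN) ?_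
    rwa [zpowers_le]
  exact h.lin K hK N hN v hv w hw hv4 hw4 (h.vch.commute h.hyp h2 hK hN hv hw hv4 hw4
    (mem_sup_right (mem_zpowers v)) (mem_sup_left (h.vch.le N hN hw)))

theorem comm_of_not_tt (hK : K ∈ Om) (hN : N ∈ Om) (hc : zz N * zz K = zz K * zz N) (ht : ¬ TT U K (zz N)) :
    K = N ∨ ∀ x ∈ K, ∀ y ∈ N, x * y = y * x := by
  obtain ⟨v, hv, hv4⟩ := h.exists_v hK
  refine h.comm_of_zz hK hN hv hv4 ?_
  by_contra hne
  exact ht ⟨hc, v, hv, hv4, hne⟩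

theorem not_tt_of_comm (hK : K ∈ Om) (hN : N ∈ Om) (hc : K = N ∨ ∀ x ∈ K, ∀ y ∈ N, x * y = y * x) :
    ¬ TT U K (zz N) := by
  rintro ⟨-, v, hv, -, hne⟩
  apply hne
  rcases hc with rfl | hc
  · exact (h.hyp.comm_zz hK (le_normalizer (h.vch.le K hK hv))).symm
  · exact (hc v (h.vch.le K hK hv) _ (h.hyp.zz_mem hN)).symm

theorem tt_symm (hK : K ∈ Om) (hN : N ∈ Om) (ht : TT U K (zz N)) : TT U N (zz K) := by
  by_contra hh
  refine h.not_tt_of_comm hK hN ?_ ht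
  rcases h.comm_of_not_tt hN hK ht.1.symm hh with h1 | h1
  · exact Or.inl h1.symm
  · exact Or.inr fun x hx y hy => (h1 y hy x hx).symm

theorem tt_cj (hK : K ∈ Om) (ht : TT U K s) (g : G) : TT U (cj g K) (g * s * g⁻¹) := by
  obtain ⟨h1, v, hv, hv4, hne⟩ := ht
  refine ⟨?_, g * v * g⁻¹, h.vch.conj_mem hK hv g, orderOf_conj_four hv4 g, ?_⟩
  · rw [h.hyp.zz_cj hK]
    calc g * s * g⁻¹ * (g * zz K * g⁻¹) = g * (s * zz K) * g⁻¹ := by group
      _ = _ := by rw [h1]; group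
  · intro hh
    apply hne
    have h2 : g * (s * v) * g⁻¹ = g * (v * s) * g⁻¹ := by
      calc g * (s * v) * g⁻¹ = g * s * g⁻¹ * (g * v * g⁻¹) := by group
        _ = _ := by rw [hh]; group
    simpa using h2

/-- **(n + 1)**: a member commuting with all members of a Sylow subgroup lies in it -/
theorem mem_Phi_of_comm (hS : Syl S ⊤) (hN : N ∈ Om)
    (hc : ∀ K ∈ Phi Om S, K = N ∨ ∀ x ∈ K, ∀ y ∈ N, x * y = y * x) : N ∈ Phi Om S := by
  by_contra hNS
  have h0 : ∀ K ∈ Phi Om S, ∀ x ∈ K, ∀ y ∈ N, x * y = y * x := by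
    intro K hK
    rcases hc K hK with rfl | h1
    · exact absurd hK hNS
    · exact h1
  have hD : IsPGroup 2 (sSup (Phi Om S) : Subgroup G) := hS.2.1.to_le (sSup_le fun K hK => hK.2)
  have hT : IsPGroup 2 (sSup (Phi Om S) ⊔ N : Subgroup G) := by
    refine two_sup_comm (h.two N hN) hD ?_
    apply comm_of_le_centralizer
    refine sSup_le fun K hK => le_centralizer_of_comm fun x hx y hy => (h0 K hK y hy x hx).symm
  have h1 := Phi_eq_of_le h.hO hS hT (fun K hK => (le_sSup hK).trans le_sup_left)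
  exact hNS (by rw [← h1]; exact ⟨hN, le_sup_right⟩)

/-- a frame: `n` pairwise commuting members lie in a Sylow subgroup -/
theorem exists_frame (hS : Syl S ⊤) {F : Set (Subgroup G)} (hF : F ⊆ Om)
    (hc : ∀ K ∈ F, ∀ L ∈ F, K ≠ L → ∀ x ∈ K, ∀ y ∈ L, x * y = y * x) (hn : (Phi Om S).ncard ≤ F.ncard)
    {P : Subgroup G} (hP : IsPGroup 2 P) (hPF : ∀ K ∈ F, P ≤ normalizer (K : Set G)) :
    ∃ S', Syl S' (⊤ : Subgroup G) ∧ F = Phi Om S' ∧ P ≤ S' := by
  have h1 := two_sSup (fun K hK => h.two K (hF hK)) hc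
  have h2 : P ≤ normalizer ((sSup F : Subgroup G) : Set G) := by
    intro g hg
    rw [mem_normalizer_iff_cj]
    apply le_antisymm
    · have h3 : sSup F ≤ cj g⁻¹ (sSup F) := by
        refine sSup_le fun K hK => ?_
        have h4 : cj g K = K := mem_normalizer_iff_cj.1 (hPF K hK hg)
        rw [← cj_le_cj (g := g), cj_cj_inv, h4]
        exact le_sSup hK
      rw [← cj_le_cj (g := g⁻¹), cj_inv_cj]
      exact h3
    · refine sSup_le fun K hK => ?_
      have h4 : cj g K = K := mem_normalizer_iff_cj.1 (hPF K hK hg)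
      rw [← h4]
      exact cj_mono g (le_sSup hK)
  have h3 := two_sup hP h1 h2
  obtain ⟨S', hS', hle⟩ := exists_top h3
  refine ⟨S', hS', ?_, le_sup_right.trans hle⟩
  refine Set.eq_of_subset_of_ncard_le (fun K hK => ⟨hF hK, (le_sSup hK).trans (le_sup_left.trans hle)⟩) ?_
    (Set.toFinite _)
  rw [← ncard_Phi_eq h.hO hS hS']
  exact hn

/-- `K` and its conjugate under `O(H)` are adjacent -/
theorem adj_conj_core (hK : K ∈ Om) (hKH : K ≤ H) (hg : g ∈ OO H) : Adj Om H (cj g K) K := by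
  obtain ⟨v, hv, c, hc, hvc⟩ := h.hyp.exists_comm_eq hK (h.two K hK)
  have hgH : g ∈ H := OO_le H hg
  have hn := le_normalizer_OO H
  have hm : ∀ k ∈ K, ∀ o ∈ OO H, k * o * k⁻¹ ∈ OO H := fun k hk o ho => (mem_normalizer_iff.1 (hn (hKH hk)) o).1 ho
  have e : g * v * g⁻¹ * c * (g * v * g⁻¹)⁻¹ * c⁻¹ =
      g * (v * g⁻¹ * v⁻¹) * ((v * c) * g * (v * c)⁻¹) * (v * c * v⁻¹ * c⁻¹) * (c * g⁻¹ * c⁻¹) := by group
  refine adj_of_comm (h.hO K hK g) ?_ hK hKH (conj_mem_cj hv) hc ?_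
  · have := cj_mono g hKH
    rwa [mem_normalizer_iff_cj.1 (le_normalizer hgH)] at this
  · intro hh
    rw [e, hvc] at hh
    have h1 : g * (v * g⁻¹ * v⁻¹) * ((v * c) * g * (v * c)⁻¹) ∈ OO H :=
      mul_mem (mul_mem hg (hm v hv _ (inv_mem hg))) (hm _ (K.mul_mem hv hc) _ hg)
    have h2 : c * g⁻¹ * c⁻¹ ∈ OO H := hm c hc _ (inv_mem hg)
    have h3 := mul_mem (inv_mem h1) (mul_mem hh (inv_mem h2))
    have h4 : (g * (v * g⁻¹ * v⁻¹) * ((v * c) * g * (v * c)⁻¹))⁻¹ *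
        (g * (v * g⁻¹ * v⁻¹) * ((v * c) * g * (v * c)⁻¹) * zz K * (c * g⁻¹ * c⁻¹) * (c * g⁻¹ * c⁻¹)⁻¹) = zz K := by group
    rw [h4] at h3
    exact h.hyp.zz_ne hK (eq_one_of_odd (odd_OO H) h3 (a := 1) (by rw [pow_one, pow_two]; exact h.hyp.zz_mul hK))

/-- **(F2)**: if `H` contains `n` pairwise commuting members `F`, every member of `H` is connected to one of them -/
theorem full (hS : Syl S ⊤) {F : Set (Subgroup G)} (hF : F ⊆ Om) (hFH : ∀ K ∈ F, K ≤ H)
    (hc : ∀ K ∈ F, ∀ L ∈ F, K ≠ L → ∀ x ∈ K, ∀ y ∈ L, x * y = y * x) (hn : (Phi Om S).ncard ≤ F.ncard)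
    (hM : M ∈ Om) (hMH : M ≤ H) : ∃ K ∈ F, Conn Om H K M := by
  by_contra hcon
  push Not at hcon
  set D := sSup F with hD
  have hD2 : IsPGroup 2 D := two_sSup (fun K hK => h.two K (hF hK)) hc
  have hDH : D ≤ H := sSup_le hFH
  -- `M` normalises `D ⊔ O`
  have h1 : M ≤ normalizer ((OO H ⊔ D : Subgroup G) : Set G) := by
    have key : ∀ m ∈ M, OO H ⊔ D ≤ cj m (OO H ⊔ D) := by
      intro m hm
      rw [cj_sup]
      have hmO : cj m (OO H) = OO H := mem_normalizer_iff_cj.1 (le_normalizer_OO H (hMH hm))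
      rw [hmO]
      refine sup_le le_sup_left (sSup_le fun K hK x hx => ?_)
      have h2 := comm_mem_of_not_conn (hF hK) (hFH K hK) hM hMH (hcon K hK) hx hm
      have h3 : x = (x * m * x⁻¹ * m⁻¹) * (m * x * m⁻¹) := by group
      rw [h3]
      exact mul_mem (mem_sup_left h2) (mem_sup_right (conj_mem_cj (le_sSup hK hx)))
    intro m hm
    rw [mem_normalizer_iff_cj]
    refine le_antisymm ?_ (key m hm)
    have h2 := key m⁻¹ (M.inv_mem hm)
    rw [← cj_le_cj (g := m), cj_cj_inv] at h2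
    exact h2
  have hDO : D ≤ normalizer (OO H : Set G) := hDH.trans (le_normalizer_OO H)
  obtain ⟨T, hT, hMT⟩ := exists_syl_ge (h.two M hM) (le_sup_right : M ≤ (OO H ⊔ D) ⊔ M)
  have hJn : (OO H ⊔ D) ⊔ M ≤ normalizer ((OO H ⊔ D : Subgroup G) : Set G) := sup_le le_normalizer h1
  have hTJ : Syl (T ⊓ (OO H ⊔ D)) (OO H ⊔ D) := LB.syl_inf_normal hT le_sup_left hJn
  -- `D` is Sylow in `O D`
  have hDJ : Syl D (OO H ⊔ D) := by
    refine ⟨le_sup_right, hD2, fun h2 => ?_⟩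
    obtain ⟨R, hR, hDR⟩ := exists_syl_ge hD2 (le_sup_right : D ≤ OO H ⊔ D)
    have h3 : R = D := by
      refine le_antisymm (fun r hr => ?_) hDR
      obtain ⟨o, ho, d, hd, rfl⟩ := LB.exists_mul_of_mem_sup hDO (hR.1 hr)
      have h4 : o ∈ R := by
        have := R.mul_mem hr (R.inv_mem (hDR hd))
        rwa [mul_inv_cancel_right] at this
      rw [eq_one_of_mem_odd hR.2.1 (odd_OO H) h4 ho, one_mul]
      exact hd
    rw [h3] at hR
    exact hR.2.2 h2
  obtain ⟨j, hj, hjT⟩ := hDJ.exists_conj hTJ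
  obtain ⟨o, ho, d, hd, rfl⟩ := LB.exists_mul_of_mem_sup hDO hj
  rw [cj_mul, mem_normalizer_iff_cj.1 (le_normalizer hd)] at hjT
  -- the members `cj o K`
  have hDS : ∀ K ∈ F, cj o K ≤ T := fun K hK => by
    have h2 : cj o K ≤ cj o D := cj_mono o (le_sSup hK)
    rw [hjT] at h2
    exact h2.trans inf_le_left
  obtain ⟨S', hS', hTS'⟩ := exists_top hT.2.1
  have h2 : cj o '' F = Phi Om S' := by
    refine Set.eq_of_subset_of_ncard_le ?_ ?_ (Set.toFinite _)
    · rintro _ ⟨K, hK, rfl⟩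
      exact ⟨h.hO K (hF hK) o, (hDS K hK).trans hTS'⟩
    · rw [Set.ncard_image_of_injective _ (cj_injective o), ← ncard_Phi_eq h.hO hS hS']
      exact hn
  have h3 : M ∈ Phi Om S' := ⟨hM, hMT.trans hTS'⟩
  rw [← h2] at h3
  obtain ⟨K, hK, rfl⟩ := h3
  exact hcon K hK (h.adj_conj_core (hF hK) (hFH K hK) ho).conn.symm

end RW

end Cfsg.Agent.Cit.CV1
end

-- part: Cit/Nil/CV/Dead
section
prune_inst 0x420100c00712200000018001020003c6292000002004b0001f140070207cf9c40a0470621fa600e1000102c54283c806813dc0050423800002a008800411c01a014020002b008a000010016408007180c00000000000000000000000000041000000000000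
set_option linter.all false
open scoped Cfsg.Agent.FastGrp

/-!
# S1309 (CV), rank at least three: the case (T1) is impossible

Helper 542, from helper995's text (C) (bb R18, 04:00Z).  `s = zz N ∈ B ∩ N(A)` acts on `A` as the product of the two
reflections in `g`, `g'` (over the same involution), `zz N2 ∈ B ∩ N(A)` inverts a root `g2` linked to `g`.
-/

set_option autoImplicit false
set_option linter.style.haveILetI false
set_option linter.unusedSectionVars false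

namespace Cfsg.Agent.Cit.Nil.CV.Dead

open Subgroup Cfsg Cit Tau Cit.CV XLevel

variable {G : Type*} [Group G] [Finite G] {Om : Set (Subgroup G)} {U : Subgroup G → Subgroup G}
  {A B K L M N N2 : Subgroup G} {a b d g g' g2 s t v w x x' y : G}

/-- **(3f)** -/
theorem dead (h : CVW Om U) (hA : IsA Om U A) (hN : N ∈ Om) (hCB : centralizer {zz N} ≤ normalizer (B : Set G))
    (hcb : ∀ b ∈ B, (∀ a ∈ A, b * a = a * b) → b = 1)
    (hg : g ∈ RR Om U A) (hg' : g' ∈ RR Om U A) (hd : d ∈ RR Om U A)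
    (hgg : g' * g' = g * g) (hne : g' ≠ g) (hne' : g' ≠ g⁻¹)
    (hsg : zz N * g * (zz N)⁻¹ = g⁻¹) (hsg' : zz N * g' * (zz N)⁻¹ = g'⁻¹)
    (hgd0 : al Om U g d ≠ 0) (hgd2 : al Om U g d ≠ 2) (hgd0' : al Om U g' d ≠ 0) (hgd2' : al Om U g' d ≠ 2)
    (hsA : ∀ a ∈ A, zz N * a * (zz N)⁻¹ = rf Om U g (rf Om U g' a))
    (hrel : zz N * d * (zz N)⁻¹ * d = g * g)
    (hN2 : N2 ∈ Om) (hs2B : zz N2 ∈ B) (hs2A : zz N2 ∈ normalizer (A : Set G))
    (hg2 : g2 ∈ RR Om U A) (hsg2 : zz N2 * g2 * (zz N2)⁻¹ = g2⁻¹)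
    (h20 : al Om U g2 g ≠ 0) (h22 : al Om U g2 g ≠ 2) : False := by
  obtain ⟨K, hK, hgK⟩ := hg.2.2
  obtain ⟨K', hK', hgK'⟩ := hg'.2.2
  obtain ⟨L, hL, hdL⟩ := hd.2.2
  obtain ⟨K2, hK2, hgK2⟩ := hg2.2.2
  obtain ⟨y, hy, hyX⟩ := h.exists_y hK
  obtain ⟨y', hy', hyX'⟩ := h.exists_y hK'
  obtain ⟨s, hs⟩ : ∃ s, s = zz N := ⟨_, rfl⟩
  have hsinv : s⁻¹ = s := by rw [hs]; exact h.hyp.zz_inv hN
  have hss : s * s = 1 := by rw [hs]; exact h.hyp.zz_mul hN
  have hKK' : K ≠ K' := by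
    rintro rfl
    rcases h.eq_or_inv hK hgK hg.2.1 hgK' hg'.2.1 with h1 | h1
    · exact hne h1
    · exact hne' h1
  have hz : zz K = zz K' := by rw [← h.sq_eq hK hgK hg.2.1, ← h.sq_eq hK' hgK' hg'.2.1, hgg]
  have hcomm : ∀ a ∈ K, ∀ b ∈ K', a * b = b * a := fun a ha b hb => h.comm_of_zz_eq hK hK' hz hKK' ha hb
  -- the elements `δ`, `δ'`
  obtain ⟨hδX, hδodd⟩ := inv_y h hN hK hgK hg.2.1 hsg hy hyX
  obtain ⟨hδX', hδodd'⟩ := inv_y h hN hK' hgK' hg'.2.1 hsg' hy' hyX'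
  rw [← hs] at hδX hδodd hδX' hδodd' hrel hsg hsg' hsA
  obtain ⟨δ, hδ⟩ : ∃ δ, δ = (s * y * s⁻¹)⁻¹ * y := ⟨_, rfl⟩
  obtain ⟨δ', hδ'⟩ : ∃ δ', δ' = (s * y' * s⁻¹)⁻¹ * y' := ⟨_, rfl⟩
  rw [← hδ] at hδX hδodd
  rw [← hδ'] at hδX' hδodd'
  have hsy : s * y * s⁻¹ = y * δ⁻¹ := by rw [hδ]; group
  have hsy' : s * y' * s⁻¹ = y' * δ'⁻¹ := by rw [hδ']; group
  have hyy := (h.y_facts hK hy hyX).1
  have hyy' := (h.y_facts hK' hy' hyX').1
  -- `Y`
  obtain ⟨Y, hY⟩ : ∃ Y, Y = y * y' := ⟨_, rfl⟩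
  have hYY : Y * Y = 1 := by
    calc Y * Y = y * (y' * y) * y' := by rw [hY]; group
      _ = (y * y) * (y' * y') := by rw [← hcomm y hy y' hy']; group
      _ = 1 := by rw [hyy, hyy', hz, h.hyp.zz_mul hK']
  have hYinv : Y⁻¹ = Y := inv_eq_of_mul_eq_one_right hYY
  have hYA : ∀ a ∈ A, Y * a * Y⁻¹ = s * a * s⁻¹ := by
    intro a ha
    have h1 := h.al_spec hA hK' hgK' hg'.2.1 hg'.1 hy' hyX' ha
    have h2 := h.al_spec hA hK hgK hg.2.1 hg.1 hy hyX (CVW.rf_mem_A (Om := Om) (U := U) hg' ha)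
    calc Y * a * Y⁻¹ = y * (y' * a * y'⁻¹) * y⁻¹ := by rw [hY]; group
      _ = y * rf Om U g' a * y⁻¹ := by rw [h1]; rfl
      _ = rf Om U g (rf Om U g' a) := h2
      _ = _ := (hsA a ha).symm
  -- `c0 = Y s`
  obtain ⟨c0, hc0⟩ : ∃ c0, c0 = Y * s := ⟨_, rfl⟩
  have hc0A : ∀ a ∈ A, c0 * a = a * c0 := by
    intro a ha
    have h1 := hYA a ha
    have h2 : Y * s * a * (Y * s)⁻¹ = a := by
      calc Y * s * a * (Y * s)⁻¹ = Y * (s * a * s⁻¹) * Y⁻¹ := by group
        _ = Y * (Y * a * Y⁻¹) * Y⁻¹ := by rw [h1]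
        _ = (Y * Y) * a * (Y * Y)⁻¹ := by group
        _ = a := by rw [hYY]; group
    rw [hc0]
    exact mul_inv_eq_iff_eq_mul.mp h2
  have hsc0 : s * c0 * s⁻¹ = c0⁻¹ := by
    calc s * c0 * s⁻¹ = s * Y := by rw [hc0]; group
      _ = s⁻¹ * Y⁻¹ := by rw [hsinv, hYinv]
      _ = c0⁻¹ := by rw [hc0]; group
  have hc0c0 : c0 * c0 = δ⁻¹ * δ'⁻¹ := by
    have hδK := K.inv_mem (XX_le K hδX)
    calc c0 * c0 = Y * (s * Y * s⁻¹) * (s * s) := by rw [hc0]; group
      _ = y * y' * ((s * y * s⁻¹) * (s * y' * s⁻¹)) := by rw [hss, hY]; group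
      _ = y * (y' * (y * δ⁻¹)) * y' * δ'⁻¹ := by rw [hsy, hsy']; group
      _ = y * y * (δ⁻¹ * y') * y' * δ'⁻¹ := by rw [← hcomm _ (K.mul_mem hy hδK) y' hy']; group
      _ = y * y * (y' * δ⁻¹) * y' * δ'⁻¹ := by rw [hcomm _ hδK y' hy']
      _ = y * y * y' * (δ⁻¹ * y') * δ'⁻¹ := by group
      _ = y * y * y' * (y' * δ⁻¹) * δ'⁻¹ := by rw [hcomm _ hδK y' hy']
      _ = (y * y) * (y' * y') * δ⁻¹ * δ'⁻¹ := by group
      _ = _ := by rw [hyy, hyy', hz, h.hyp.zz_mul hK', one_mul]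
  have hc0K : ∀ x ∈ XX U K, c0 * x = x * c0 := by
    intro x hx
    have h1 : s * x * s⁻¹ = x⁻¹ := by rw [hs]; exact inv_xx h hN hK hgK hg.2.1 (by rw [← hs]; exact hsg) hx
    have h2 : Y * x * Y⁻¹ = x⁻¹ := by
      calc Y * x * Y⁻¹ = y * (y' * x * y'⁻¹) * y⁻¹ := by rw [hY]; group
        _ = y * x * y⁻¹ := by rw [← hcomm x (XX_le K hx) y' hy', mul_inv_cancel_right]
        _ = x⁻¹ := (h.y_facts hK hy hyX).2.2 x hx
    have h3 : c0 * x * c0⁻¹ = x := by
      calc c0 * x * c0⁻¹ = Y * (s * x * s⁻¹) * Y⁻¹ := by rw [hc0]; group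
        _ = (Y * x * Y⁻¹)⁻¹ := by rw [h1]; group
        _ = x := by rw [h2, inv_inv]
    exact mul_inv_eq_iff_eq_mul.mp h3
  have hc0K' : ∀ x ∈ XX U K', c0 * x = x * c0 := by
    intro x hx
    have h1 : s * x * s⁻¹ = x⁻¹ := by rw [hs]; exact inv_xx h hN hK' hgK' hg'.2.1 (by rw [← hs]; exact hsg') hx
    have h2 : Y * x * Y⁻¹ = x⁻¹ := by
      calc Y * x * Y⁻¹ = y * (y' * x * y'⁻¹) * y⁻¹ := by rw [hY]; group
        _ = y * x⁻¹ * y⁻¹ := by rw [(h.y_facts hK' hy' hyX').2.2 x hx]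
        _ = x⁻¹ := by rw [hcomm y hy x⁻¹ (K'.inv_mem (XX_le K' hx)), mul_inv_cancel_right]
    have h3 : c0 * x * c0⁻¹ = x := by
      calc c0 * x * c0⁻¹ = Y * (s * x * s⁻¹) * Y⁻¹ := by rw [hc0]; group
        _ = (Y * x * Y⁻¹)⁻¹ := by rw [h1]; group
        _ = x := by rw [h2, inv_inv]
    exact mul_inv_eq_iff_eq_mul.mp h3
  have hc0L : ∀ x ∈ XX U L, c0 * x = x * c0 := fun x hx =>
    cent_xx h hA hK hgK hg hL hdL hd hgd0 hgd2 hc0A hc0K hx
  have hc0K2 : ∀ x ∈ XX U K2, c0 * x = x * c0 := fun x hx =>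
    cent_xx h hA hK hgK hg hK2 hgK2 hg2 (fun hh => h20 (h.al_zero_symm hA hg hg2 hh))
      (fun hh => h22 (h.al_two_symm hA hg hg2 hh)) hc0A hc0K hx
  -- `c`
  obtain ⟨c, hcX, hcodd⟩ := exists_odd h hL
  obtain ⟨θ, hθ⟩ : ∃ θ, θ = y * c * y⁻¹ * c⁻¹ := ⟨_, rfl⟩
  obtain ⟨θ', hθ'⟩ : ∃ θ', θ' = y' * c * y'⁻¹ * c⁻¹ := ⟨_, rfl⟩
  have hθX : θ ∈ XX U K := by rw [hθ]; exact y_xx h hA hK hgK hg hL hdL hd hy hcX
  have hθX' : θ' ∈ XX U K' := by rw [hθ']; exact y_xx h hA hK' hgK' hg' hL hdL hd hy' hcX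
  have hθodd : ¬ W2 U K θ := by
    rw [hθ, y_xx_odd h hA hK hgK hg hL hdL hd hgd0 hgd2 hy hyX hcX]; exact hcodd
  have hθodd' : ¬ W2 U K' θ' := by
    rw [hθ', y_xx_odd h hA hK' hgK' hg' hL hdL hd hgd0' hgd2' hy' hyX' hcX]; exact hcodd
  have hyc : y * c * y⁻¹ = θ * c := by rw [hθ]; group
  have hyc' : y' * c * y'⁻¹ = θ' * c := by rw [hθ']; group
  have hsc : s * c * s⁻¹ = θ' * (θ * c) := by
    have h1 : Y * c * Y⁻¹ = θ' * (θ * c) := by
      calc Y * c * Y⁻¹ = y * (y' * c * y'⁻¹) * y⁻¹ := by rw [hY]; group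
        _ = y * (θ' * c) * y⁻¹ := by rw [hyc']
        _ = (y * θ') * c * y⁻¹ := by group
        _ = θ' * (y * c * y⁻¹) := by rw [hcomm y hy θ' (XX_le K' hθX')]; group
        _ = _ := by rw [hyc]
    have h2 := hc0L c hcX
    rw [← h1]
    calc s * c * s⁻¹ = Y⁻¹ * ((Y * s) * c) * s⁻¹ := by group
      _ = Y⁻¹ * (c * (Y * s)) * s⁻¹ := by rw [← hc0, h2]
      _ = Y⁻¹ * c * Y := by group
      _ = Y * c * Y⁻¹ := by rw [hYinv]
  -- `κ`, `κ'`
  obtain ⟨κ, hκX, hκ⟩ := (h.W2_iff hK).mp ((h.W2_mul hK hθX hδX).mpr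
    ⟨fun hh => absurd hh hθodd, fun hh => absurd hh hδodd⟩)
  obtain ⟨κ', hκX', hκ'⟩ := (h.W2_iff hK').mp ((h.W2_mul hK' hθX' hδX').mpr
    ⟨fun hh => absurd hh hθodd', fun hh => absurd hh hδodd'⟩)
  have hsκ : s * κ * s⁻¹ = κ⁻¹ := by rw [hs]; exact inv_xx h hN hK hgK hg.2.1 (by rw [← hs]; exact hsg) hκX
  have hsκ' : s * κ' * s⁻¹ = κ'⁻¹ := by
    rw [hs]; exact inv_xx h hN hK' hgK' hg'.2.1 (by rw [← hs]; exact hsg') hκX'
  -- everything commutes
  have kKL : ∀ {x x' : G}, x ∈ XX U K → x' ∈ XX U L → Commute x x' := fun hx hx' =>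
    xx_comm h hA hK hgK hg hL hdL hd hx hx'
  have kK'L : ∀ {x x' : G}, x ∈ XX U K' → x' ∈ XX U L → Commute x x' := fun hx hx' =>
    xx_comm h hA hK' hgK' hg' hL hdL hd hx hx'
  have kKK' : ∀ {x x' : G}, x ∈ XX U K → x' ∈ XX U K' → Commute x x' := fun hx hx' =>
    hcomm _ (XX_le K hx) _ (XX_le K' hx')
  have kK : ∀ {x x' : G}, x ∈ XX U K → x' ∈ XX U K → Commute x x' := fun hx hx' => xx_comm_self h hK hx hx'
  have kK' : ∀ {x x' : G}, x ∈ XX U K' → x' ∈ XX U K' → Commute x x' := fun hx hx' => xx_comm_self h hK' hx hx'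
  obtain ⟨e, he⟩ : ∃ e, e = c * κ * κ' := ⟨_, rfl⟩
  have hθκ : θ * κ⁻¹ = δ⁻¹ * κ := by
    rw [mul_inv_eq_iff_eq_mul, mul_assoc, ← hκ, (kK hθX hδX).eq, inv_mul_cancel_left]
  have hθκ' : θ' * κ'⁻¹ = δ'⁻¹ * κ' := by
    rw [mul_inv_eq_iff_eq_mul, mul_assoc, ← hκ', (kK' hθX' hδX').eq, inv_mul_cancel_left]
  have hse : s * e * s⁻¹ = c0 * c0 * e := by
    have h1 : s * e * s⁻¹ = θ' * (θ * c) * κ⁻¹ * κ'⁻¹ := by
      calc s * e * s⁻¹ = (s * c * s⁻¹) * (s * κ * s⁻¹) * (s * κ' * s⁻¹) := by rw [he]; group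
        _ = _ := by rw [hsc, hsκ, hsκ']
    have hκi := (XX U K).inv_mem hκX
    have hκi' := (XX U K').inv_mem hκX'
    have hδi := (XX U K).inv_mem hδX
    have hδi' := (XX U K').inv_mem hδX'
    have h2 : θ' * (θ * c) * κ⁻¹ * κ'⁻¹ = (θ * κ⁻¹) * (θ' * κ'⁻¹) * c := by
      calc θ' * (θ * c) * κ⁻¹ * κ'⁻¹ = (θ' * θ) * (c * κ⁻¹) * κ'⁻¹ := by group
        _ = (θ * θ') * (κ⁻¹ * c) * κ'⁻¹ := by rw [(kKK' hθX hθX').eq, (kKL hκi hcX).eq]
        _ = θ * (θ' * κ⁻¹) * (c * κ'⁻¹) := by group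
        _ = θ * (κ⁻¹ * θ') * (κ'⁻¹ * c) := by rw [(kKK' hκi hθX').eq, (kK'L hκi' hcX).eq]
        _ = _ := by group
    have h3 : c0 * c0 * e = (δ⁻¹ * κ) * (δ'⁻¹ * κ') * c := by
      rw [hc0c0, he]
      calc δ⁻¹ * δ'⁻¹ * (c * κ * κ') = δ⁻¹ * δ'⁻¹ * ((c * κ) * κ') := by group
        _ = δ⁻¹ * δ'⁻¹ * (κ * (c * κ')) := by rw [← (kKL hκX hcX).eq]; group
        _ = δ⁻¹ * (δ'⁻¹ * κ) * (κ' * c) := by rw [← (kK'L hκX' hcX).eq]; group
        _ = δ⁻¹ * (κ * δ'⁻¹) * (κ' * c) := by rw [(kKK' hκX hδi').eq]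
        _ = _ := by group
    rw [h1, h2, h3, hθκ, hθκ']
  have hc0e : Commute c0 e := by
    rw [he]
    exact ((show Commute c0 c from hc0L c hcX).mul_right (hc0K κ hκX)).mul_right (hc0K' κ' hκX')
  have heA : ∀ a ∈ A, e * a = a * e := by
    rw [he]
    exact cent_mul (cent_mul (fun a ha => xx_A h hA hL hdL hd hcX ha)
      (fun a ha => xx_A h hA hK hgK hg hκX ha)) (fun a ha => xx_A h hA hK' hgK' hg' hκX' ha)
  -- `k = c0 e`
  obtain ⟨k, hk⟩ : ∃ k, k = c0 * e := ⟨_, rfl⟩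
  have hkA : ∀ a ∈ A, k * a = a * k := by rw [hk]; exact cent_mul hc0A heA
  have hsk : s * k * s⁻¹ = k := by
    calc s * k * s⁻¹ = (s * c0 * s⁻¹) * (s * e * s⁻¹) := by rw [hk]; group
      _ = c0⁻¹ * (c0 * c0 * e) := by rw [hsc0, hse]
      _ = k := by rw [hk]; group
  have hkB : k ∈ normalizer (B : Set G) := by
    apply hCB
    rw [mem_centralizer_singleton_iff, ← hs]
    exact (mul_inv_eq_iff_eq_mul.mp hsk).symm
  have hkk : k * k = s * c * s⁻¹ * c := by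
    have h1 : k * k = (s * e * s⁻¹) * e := by
      calc k * k = c0 * (e * c0) * e := by rw [hk]; group
        _ = c0 * c0 * e * e := by rw [← hc0e.eq]; group
        _ = _ := by rw [hse]
    have h2 : s * e * s⁻¹ = (s * c * s⁻¹) * κ⁻¹ * κ'⁻¹ := by
      calc s * e * s⁻¹ = (s * c * s⁻¹) * (s * κ * s⁻¹) * (s * κ' * s⁻¹) := by rw [he]; group
        _ = _ := by rw [hsκ, hsκ']
    rw [h1, h2, he]
    calc (s * c * s⁻¹) * κ⁻¹ * κ'⁻¹ * (c * κ * κ') = (s * c * s⁻¹) * (κ⁻¹ * (κ'⁻¹ * c) * κ * κ') := by group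
      _ = (s * c * s⁻¹) * (κ⁻¹ * c * (κ'⁻¹ * κ) * κ') := by
        rw [(kK'L ((XX U K').inv_mem hκX') hcX).eq]; group
      _ = (s * c * s⁻¹) * (c * κ⁻¹ * (κ * κ'⁻¹) * κ') := by
        rw [(kKL ((XX U K).inv_mem hκX) hcX).eq, (kKK' hκX ((XX U K').inv_mem hκX')).eq]
      _ = _ := by group
  -- `k` commutes with `zz N2`
  obtain ⟨s2, hs2⟩ : ∃ s2, s2 = zz N2 := ⟨_, rfl⟩
  rw [← hs2] at hs2B hs2A hsg2
  have hks2 : k * s2 = s2 * k := by
    have h1 : k * s2 * k⁻¹ * s2⁻¹ ∈ B := B.mul_mem ((mem_normalizer_iff.mp hkB s2).mp hs2B) (B.inv_mem hs2B)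
    have h2 : ∀ a ∈ A, (k * (s2 * k⁻¹ * s2⁻¹)) * a = a * (k * (s2 * k⁻¹ * s2⁻¹)) :=
      cent_mul hkA (cent_conj hs2A (cent_inv hkA))
    have h3 : k * (s2 * k⁻¹ * s2⁻¹) = k * s2 * k⁻¹ * s2⁻¹ := by group
    rw [h3] at h2
    have h4 := hcb _ h1 h2
    rw [mul_inv_eq_one, mul_inv_eq_iff_eq_mul] at h4
    exact h4
  -- `K2`
  obtain ⟨y2, hy2, hy2X⟩ := h.exists_y hK2
  have hkK2 : k ∈ normalizer (K2 : Set G) := norm_of_cent h hK2 hgK2 hg2 hkA
  have hηX := h.dif_mem hK2 hkK2 hy2 hy2X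
  obtain ⟨hζX, -⟩ := inv_y h hN2 hK2 hgK2 hg2.2.1 (by rw [← hs2]; exact hsg2) hy2 hy2X
  rw [← hs2] at hζX
  obtain ⟨η, hη⟩ : ∃ η, η = (k * y2 * k⁻¹)⁻¹ * y2 := ⟨_, rfl⟩
  obtain ⟨ζ, hζ⟩ : ∃ ζ, ζ = (s2 * y2 * s2⁻¹)⁻¹ * y2 := ⟨_, rfl⟩
  rw [← hη] at hηX
  rw [← hζ] at hζX
  have hky : k * y2 * k⁻¹ = y2 * η⁻¹ := by rw [hη]; group
  have hs2y : s2 * y2 * s2⁻¹ = y2 * ζ⁻¹ := by rw [hζ]; group
  have hs2η : s2 * η * s2⁻¹ = η⁻¹ := by
    rw [hs2]; exact inv_xx h hN2 hK2 hgK2 hg2.2.1 (by rw [← hs2]; exact hsg2) hηX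
  have hkX : ∀ x ∈ XX U K2, Commute k x := by
    intro x hx
    have h1 : Commute c0 x := hc0K2 x hx
    have h2 : Commute c x := xx_comm h hA hL hdL hd hK2 hgK2 hg2 hcX hx
    have h3 : Commute κ x := xx_comm h hA hK hgK hg hK2 hgK2 hg2 hκX hx
    have h4 : Commute κ' x := xx_comm h hA hK' hgK' hg' hK2 hgK2 hg2 hκX' hx
    rw [hk, he]
    exact h1.mul_left ((h2.mul_left h3).mul_left h4)
  have hηη : η * η = 1 := by
    have e1 : s2 * (k * y2 * k⁻¹) * s2⁻¹ = y2 * ζ⁻¹ * η := by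
      calc s2 * (k * y2 * k⁻¹) * s2⁻¹ = (s2 * y2 * s2⁻¹) * (s2 * η * s2⁻¹)⁻¹ := by rw [hky]; group
        _ = _ := by rw [hs2y, hs2η, inv_inv]
    have e2 : k * (s2 * y2 * s2⁻¹) * k⁻¹ = y2 * η⁻¹ * ζ⁻¹ := by
      calc k * (s2 * y2 * s2⁻¹) * k⁻¹ = (k * y2 * k⁻¹) * (k * ζ⁻¹ * k⁻¹) := by rw [hs2y]; group
        _ = y2 * η⁻¹ * ζ⁻¹ := by
          rw [hky, (hkX _ ((XX U K2).inv_mem hζX)).eq, mul_inv_cancel_right]
    have e3 : s2 * (k * y2 * k⁻¹) * s2⁻¹ = k * (s2 * y2 * s2⁻¹) * k⁻¹ := by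
      calc s2 * (k * y2 * k⁻¹) * s2⁻¹ = (s2 * k) * y2 * (s2 * k)⁻¹ := by group
        _ = (k * s2) * y2 * (k * s2)⁻¹ := by rw [hks2]
        _ = _ := by group
    rw [e1, e2, mul_assoc, mul_assoc] at e3
    have e4 := mul_left_cancel e3
    have e5 : η⁻¹ * ζ⁻¹ = ζ⁻¹ * η⁻¹ :=
      xx_comm_self h hK2 ((XX U K2).inv_mem hηX) ((XX U K2).inv_mem hζX)
    rw [e5] at e4
    have e6 := mul_left_cancel e4
    nth_rewrite 1 [e6]
    exact inv_mul_cancel η
  have hkky : Commute (k * k) y2 := by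
    have h1 : k * k * y2 * (k * k)⁻¹ = y2 := by
      calc k * k * y2 * (k * k)⁻¹ = k * (k * y2 * k⁻¹) * k⁻¹ := by group
        _ = k * (y2 * η⁻¹) * k⁻¹ := by rw [hky]
        _ = (k * y2 * k⁻¹) * (k * η⁻¹ * k⁻¹) := by group
        _ = y2 * η⁻¹ * η⁻¹ := by rw [hky, (hkX _ ((XX U K2).inv_mem hηX)).eq, mul_inv_cancel_right]
        _ = y2 * (η * η)⁻¹ := by group
        _ = y2 := by rw [hηη]; group
    exact mul_inv_eq_iff_eq_mul.mp h1
  -- `g * g` is a power of `k * k`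
  obtain ⟨i, hi⟩ := gen_of_odd h hL hcX hcodd (h.U_le_XX hL hdL)
  have hscc : Commute (s * c * s⁻¹) c := by
    rw [hsc]
    exact ((kK'L hθX' hcX).mul_left ((kKL hθX hcX).mul_left (Commute.refl c)))
  have hgk : (k * k) ^ i = g * g := by
    rw [hkk, hscc.mul_zpow, conj_zpow, ← hi, hrel]
  have hyg : Commute (g * g) y2 := by
    rw [← hgk]
    exact hkky.zpow_left i
  have h1 := h.al_spec hA hK2 hgK2 hg2.2.1 hg2.1 hy2 hy2X (A.mul_mem hg.1 hg.1)
  rw [← hyg.eq, mul_inv_cancel_right, h.al_sq hA hg2 hg.1] at h1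
  have h2 : pw g2 (-(2 * al Om U g2 g)) = pw g2 0 := by
    rw [pw_zero]
    exact (left_eq_mul.mp h1)
  have h3 := pw_inj hg2.2.1 h2
  revert h20 h22 h3
  generalize al Om U g2 g = j
  revert j
  decide

end Cfsg.Agent.Cit.Nil.CV.Dead
end

-- part: Cit/Nil/CV/Glue
section
prune_inst 0x430104d00750000000000001020001c62b20000020048000130400702078f9c4080460020fa200c1000000c042034006813dc0010422000000a000800011c01a010020002b008a000000016000007180c00000000000000000000000000041000000000000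
set_option linter.all false
open scoped Cfsg.Agent.FastGrp

/-!
# S1309 (CV): `A` as an additive group with a root system modulo 4

Helper 542.  `AT h hA` = `A` written additively, `rA`, `fA` roots and functionals, `rm` : `RootMod.RM` (in the symmetric
case), `cjA hg` = conjugation by `g ∈ N(A)`, `iv_of`, `ez_of`.
-/

set_option autoImplicit false
set_option linter.style.haveILetI false
set_option linter.unusedSectionVars false

namespace Cfsg.Agent.Cit.Nil.CV.Glue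

open Subgroup Cfsg Cit Tau Cit.CV XLevel

variable {G : Type*} [Group G] [Finite G] {Om : Set (Subgroup G)} {U : Subgroup G → Subgroup G}
  {A B K L M N : Subgroup G} {g s v w x y : G}

/-- `A` as an additive group -/
def AT (_h : CVW Om U) (_hA : IsA Om U A) : Type _ := Additive ↥A

instance (h : CVW Om U) (hA : IsA Om U A) : AddCommGroup (AT h hA) :=
  { (inferInstance : AddGroup (Additive ↥A)) with
    add_comm := fun a b => by
      have h1 := h.comm hA (Additive.toMul (α := ↥A) a).2 (Additive.toMul (α := ↥A) b).2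
      exact congrArg Additive.ofMul (Subtype.ext h1) }

instance (h : CVW Om U) (hA : IsA Om U A) : Finite (AT h hA) := inferInstanceAs (Finite (Additive ↥A))

variable {h : CVW Om U} {hA : IsA Om U A}

/-- the value in `G` -/
def vl (a : AT h hA) : G := ((Additive.toMul (α := ↥A) a : ↥A) : G)

/-- the element of `AT` -/
def mk (h : CVW Om U) (hA : IsA Om U A) (a : G) (ha : a ∈ A) : AT h hA := Additive.ofMul (⟨a, ha⟩ : ↥A)

@[simp] theorem vl_mk {a : G} (ha : a ∈ A) : vl (mk h hA a ha) = a := rfl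

theorem vl_mem (a : AT h hA) : vl a ∈ A := (Additive.toMul (α := ↥A) a).2

@[simp] theorem mk_vl (a : AT h hA) : mk h hA (vl a) (vl_mem a) = a := rfl

@[simp] theorem vl_add (a b : AT h hA) : vl (a + b) = vl a * vl b := rfl

@[simp] theorem vl_zero : vl (0 : AT h hA) = 1 := rfl

@[simp] theorem vl_neg (a : AT h hA) : vl (-a) = (vl a)⁻¹ := rfl

@[simp] theorem vl_sub (a b : AT h hA) : vl (a - b) = vl a * (vl b)⁻¹ := by rw [sub_eq_add_neg, vl_add, vl_neg]

theorem vl_inj {a b : AT h hA} (hab : vl a = vl b) : a = b := congrArg Additive.ofMul (Subtype.ext hab)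

/-- the roots -/
def rA (h : CVW Om U) (hA : IsA Om U A) : Set (AT h hA) := {v | vl v ∈ RR Om U A}

open Classical in
/-- the functionals -/
noncomputable def fA (h : CVW Om U) (hA : IsA Om U A) (v : AT h hA) : AT h hA →+ ZMod 4 :=
  if hv : vl v ∈ RR Om U A then
    AddMonoidHom.mk' (fun a => al Om U (vl v) (vl a)) (fun a b => h.al_mul hA hv (vl_mem a) (vl_mem b))
  else 0

theorem fA_eq {v : AT h hA} (hv : v ∈ rA h hA) (a : AT h hA) : fA h hA v a = al Om U (vl v) (vl a) := by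
  have hv' : vl v ∈ RR Om U A := hv
  rw [fA, dif_pos hv']
  rfl

/-- conjugation -/
def cjA (h : CVW Om U) (hA : IsA Om U A) (hg : g ∈ normalizer (A : Set G)) : AT h hA →+ AT h hA :=
  AddMonoidHom.mk' (fun a => mk h hA (g * vl a * g⁻¹) ((mem_normalizer_iff.mp hg _).mp (vl_mem a))) (by
    intro a b
    apply vl_inj
    simp only [vl_mk, vl_add]
    group)

@[simp] theorem vl_cjA (hg : g ∈ normalizer (A : Set G)) (a : AT h hA) : vl (cjA h hA hg a) = g * vl a * g⁻¹ := rfl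

theorem rA_mem_neg {v : AT h hA} (hv : v ∈ rA h hA) : -v ∈ rA h hA := by
  change vl (-v) ∈ RR Om U A
  rw [vl_neg]
  exact CVW.RR_inv hv

theorem four_ne (hv4 : orderOf v = 4) : v * v ≠ 1 := by
  intro hh
  have h3 : v ^ 2 = 1 := by rw [pow_two]; exact hh
  have h4 := orderOf_dvd_of_pow_eq_one h3
  rw [hv4] at h4
  exact absurd (Nat.le_of_dvd (by norm_num) h4) (by norm_num)

theorem four_pow (hv4 : orderOf v = 4) : v * v * (v * v) = 1 := by
  have h1 : v ^ 4 = 1 := by rw [← hv4]; exact pow_orderOf_eq_one v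
  rw [← h1]
  simp [pow_succ, mul_assoc]

/-- **the root system modulo 4** -/
theorem rm (h : CVW Om U) (hA : IsA Om U A)
    (hsym : ∀ v ∈ RR Om U A, ∀ w ∈ RR Om U A, al Om U v w = al Om U w v) :
    RootMod.RM (rA h hA) (fA h hA) where
  neg hv := rA_mem_neg hv
  fneg := by
    intro v hv a
    rw [fA_eq (rA_mem_neg hv), fA_eq hv, vl_neg]
    exact h.al_neg hA hv (vl_mem a)
  self := by
    intro v hv
    rw [fA_eq hv]
    exact h.al_self hA hv
  small := by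
    intro v w hv hw h1 h2
    rw [fA_eq hv]
    have h3 : al Om U (vl v) (vl w) ≠ 2 := by
      intro h4
      rcases h.al_two hA hv hw h4 with h5 | h5
      · exact h1 (vl_inj h5)
      · exact h2 (vl_inj (by rw [vl_neg]; exact h5))
    revert h3
    generalize al Om U (vl v) (vl w) = i
    revert i
    decide
  symm := by
    intro v w hv hw
    rw [fA_eq hv, fA_eq hw]
    exact hsym _ hv _ hw
  add := by
    intro v w hv hw h1
    rw [fA_eq hv] at h1
    change vl (v + w) ∈ RR Om U A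
    have h2 := h.rf_mem hA hv hw
    rw [rf, h1, neg_neg, pw_one] at h2
    rw [vl_add, h.comm hA (vl_mem v) (vl_mem w)]
    exact h2
  fadd := by
    intro v w hv hw h1 a
    have h1' := h1
    rw [fA_eq hv] at h1
    have h2 := h.rf_mem hA hv hw
    have h3 : rf Om U (vl v) (vl w) = vl (v + w) := by
      rw [rf, h1, neg_neg, pw_one, vl_add, h.comm hA (vl_mem v) (vl_mem w)]
    have hvw : v + w ∈ rA h hA := by
      change vl (v + w) ∈ RR Om U A
      rw [← h3]; exact h2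
    rw [fA_eq hvw, fA_eq hv, fA_eq hw, ← h3]
    -- `a = rf v b`
    have h4 : ∀ b ∈ A, rf Om U (vl v) (rf Om U (vl v) b) = b := by
      intro b hb
      have h5 := h.al_rf_left hA hv hv hb
      rw [h.al_self hA hv] at h5
      have h6 : al Om U (vl v) (rf Om U (vl v) b) = -al Om U (vl v) b := by
        rw [h5]; generalize al Om U (vl v) b = i; revert i; decide
      rw [rf, h6, neg_neg, rf, mul_assoc, ← pw_add hv.2.1, neg_add_cancel, pw_zero, mul_one]
    have hrfa : rf Om U (vl v) (vl a) ∈ A := CVW.rf_mem_A hv (vl_mem a)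
    have h5 := h.al_rf hA hv hw hrfa
    rw [h4 _ (vl_mem a)] at h5
    rw [h5, h.al_rf_left hA hv hw (vl_mem a), ← hsym _ hv _ hw, h1]
    ring
  four := by
    intro v hv
    apply vl_inj
    rw [vl_add, vl_add, vl_zero]
    exact four_pow hv.2.1
  two := by
    intro v hv h1
    have h2 := congrArg vl h1
    rw [vl_add, vl_zero] at h2
    exact four_ne hv.2.1 h2

theorem iv_of (hg : g ∈ normalizer (A : Set G)) (hgg : ∀ a ∈ A, g * g * a = a * (g * g)) :
    RootMod.Iv (rA h hA) (fA h hA) (cjA h hA hg) where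
  invol := by
    intro a
    apply vl_inj
    rw [vl_cjA, vl_cjA]
    have h1 : g * g * vl a * (g * g)⁻¹ = vl a := by
      rw [hgg _ (vl_mem a), mul_inv_cancel_right]
    calc g * (g * vl a * g⁻¹) * g⁻¹ = g * g * vl a * (g * g)⁻¹ := by group
      _ = vl a := h1
  maps := by
    intro v hv
    exact h.RR_conj hg hv
  iso := by
    intro v hv a
    have h1 : cjA h hA hg v ∈ rA h hA := h.RR_conj hg hv
    rw [fA_eq h1, fA_eq hv, vl_cjA, vl_cjA]
    exact h.al_conj hA hg hv (vl_mem a)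

/-- **`s = zz N` in `N(A)` centralising no root** -/
theorem ez_of (hN : N ∈ Om) (hs : zz N ∈ normalizer (A : Set G))
    (hno : ∀ v ∈ RR Om U A, zz N * v * (zz N)⁻¹ ≠ v) : RootMod.Ez (rA h hA) (fA h hA) (cjA h hA hs) where
  toIv := iv_of hs (fun a _ => by rw [h.hyp.zz_mul hN, one_mul, mul_one])
  nofix := by
    intro v hv h1
    exact hno _ hv (by rw [← vl_cjA hs, h1])
  noinv := by
    intro v w hv hw h1 h2 h3
    have h4 : zz N * vl v * (zz N)⁻¹ = (vl v)⁻¹ := by rw [← vl_cjA hs, h1, vl_neg]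
    rw [fA_eq hv] at h2
    refine (h.inverted hA hN hs hv hw (by rw [h2]; decide) (by rw [h2]; decide) h4).2.1 ?_
    rw [← vl_cjA hs, h3, vl_neg]
  norefl := by
    intro v w hv hw h1 h2 h3
    have h4 : zz N * vl v * (zz N)⁻¹ = (vl v)⁻¹ := by rw [← vl_cjA hs, h1, vl_neg]
    rw [fA_eq hv] at h2
    refine (h.inverted hA hN hs hv hw (by rw [h2]; decide) (by rw [h2]; decide) h4).2.2.1 ?_
    rw [← vl_cjA hs, h3, vl_sub, rf, h2, pw_neg_one hv.2.1]

/-- no isolated root -/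
theorem hlk_of (hlk : ∀ v ∈ RR Om U A, ∃ w ∈ RR Om U A, al Om U v w ≠ 0 ∧ al Om U v w ≠ 2) :
    ∀ v ∈ rA h hA, ∃ w ∈ rA h hA, fA h hA v w = -1 := by
  intro v hv
  obtain ⟨w, hw, h0, h2⟩ := hlk _ hv
  have h1 : al Om U (vl v) w = -1 ∨ al Om U (vl v) w = 1 := by
    revert h0 h2
    generalize al Om U (vl v) w = i
    revert i
    decide
  rcases h1 with h1 | h1
  · exact ⟨mk h hA w hw.1, hw, by rw [fA_eq hv]; exact h1⟩
  · refine ⟨mk h hA w⁻¹ (A.inv_mem hw.1), CVW.RR_inv hw, ?_⟩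
    rw [fA_eq hv, vl_mk, h.al_inv hA hv hw.1, h1]

theorem closure_rA (h : CVW Om U) (hA : IsA Om U A) : AddSubgroup.closure (rA h hA) = ⊤ := by
  rw [eq_top_iff]
  intro a _
  have key : ∀ b ∈ A, b ∈ A ∧ ∀ hb : b ∈ A, mk h hA b hb ∈ AddSubgroup.closure (rA h hA) := by
    refine CVW.exists_gen hA ⟨A.one_mem, fun _ => ?_⟩ ?_ ?_
    · exact (AddSubgroup.closure (rA h hA)).zero_mem
    · intro b hb c hc h1 h2
      exact ⟨A.mul_mem hb hc, fun _ => (AddSubgroup.closure (rA h hA)).add_mem (h1.2 hb) (h2.2 hc)⟩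
    · intro v hv
      exact ⟨hv.1, fun _ => AddSubgroup.subset_closure hv⟩
  exact (key (vl a) (vl_mem a)).2 (vl_mem a)

/-! ### The case (T1) -/

section abstract

open RootMod

variable {X : Type*} [AddCommGroup X] {R : Set X} {f : X → X →+ ZMod 4} {s s2 : X →+ X} {g d g2 d2 : X}

/-- the action of `s` in the case (T1) -/
theorem t1_act (hR : RM R f) (t : T1 R f s g d) {v : X} (hv : v ∈ R) :
    (f g v + f g v = 0 → s v + v = 0) ∧ (f g v + f g v = 2 → s v + v = g + g) := by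
  have h4g := hR.four t.hg
  have key : ∀ e : X, (e = g ∨ e = d ∨ e = g + d ∨ e = d - g ∨ e = g + g - d ∨ e = d + d - g) →
      ((f g e + f g e = 0 ∧ s e + e = 0) ∨ (f g e + f g e = 2 ∧ s e + e = g + g)) := by
    intro e he
    have hgg := hR.self t.hg
    have hgd := t.gd
    rcases he with rfl | rfl | rfl | rfl | rfl | rfl
    · exact Or.inl ⟨by rw [hgg]; decide, by rw [t.sg]; abel⟩
    · exact Or.inr ⟨by rw [hgd]; decide, by rw [t.sd]; abel⟩
    · exact Or.inr ⟨by rw [map_add, hgg, hgd]; decide, by rw [map_add, t.sg, t.sd]; abel⟩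
    · exact Or.inr ⟨by rw [map_sub, hgg, hgd]; decide, by rw [map_sub, t.sg, t.sd]; abel⟩
    · refine Or.inr ⟨by rw [map_sub, map_add, hgg, hgd]; decide, ?_⟩
      rw [map_sub, map_add, t.sg, t.sd]
      have h1 : -g + -g - (g + g - d) + (g + g - d) = (g + g) - ((g + g) + (g + g)) := by abel
      rw [h1, h4g, sub_zero]
    · refine Or.inl ⟨by rw [map_sub, map_add, hgg, hgd]; decide, ?_⟩
      rw [map_sub, map_add, t.sg, t.sd]
      have h1 : g + g - d + (g + g - d) - -g + (d + d - g) = (g + g) + (g + g) := by abel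
      rw [h1, h4g]
  obtain ⟨e, he, hve⟩ := t.all v hv
  rcases hve with rfl | rfl
  · rcases key v he with ⟨h1, h2⟩ | ⟨h1, h2⟩
    · exact ⟨fun _ => h2, fun h3 => by rw [h1] at h3; exact absurd h3 (by decide)⟩
    · exact ⟨fun h3 => by rw [h1] at h3; exact absurd h3 (by decide), fun _ => h2⟩
  · have e1 : f g (-e) + f g (-e) = -(f g e + f g e) := by rw [map_neg]; ring
    have e2 : s (-e) + -e = -(s e + e) := by rw [map_neg]; abel
    rw [e1, e2]
    rcases key e he with ⟨h1, h2⟩ | ⟨h1, h2⟩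
    · rw [h1, h2]
      exact ⟨fun _ => neg_zero, fun h3 => absurd h3 (by decide)⟩
    · rw [h1, h2, neg_eq_of_add_eq_zero_left h4g]
      exact ⟨fun h3 => absurd h3 (by decide), fun _ => rfl⟩

theorem t1_linked (hR : RM R f) (hcl : AddSubgroup.closure R = ⊤) (t : T1 R f s g d) (t2 : T1 R f s2 g2 d2)
    (hne : s ≠ s2) : f g2 g = 1 ∨ f g2 g = -1 := by
  have hgg := hR.self t2.hg
  have hgd := t2.gd
  obtain ⟨e, he, hge⟩ := t2.all g t.hg
  have h4 := hR.four t2.hg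
  have h4d := hR.four t2.hd
  -- the case of equal involutions
  have same : g + g = g2 + g2 → False := by
    intro h2
    apply hne
    have hroot : ∀ v ∈ R, s v = s2 v := by
      intro v hv
      have h5 : f g v + f g v = f g2 v + f g2 v := by
        rw [hR.symm t.hg hv, hR.symm t2.hg hv, ← map_add, ← map_add, h2]
      have h6 := t1_act hR t hv
      have h7 := t1_act hR t2 hv
      have h8 : f g v + f g v = 0 ∨ f g v + f g v = 2 := by
        generalize f g v = x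
        revert x
        decide
      rcases h8 with h8 | h8
      · have h9 := h6.1 h8
        rw [← h7.1 (by rw [← h5]; exact h8)] at h9
        exact add_right_cancel h9
      · have h9 := h6.2 h8
        rw [h2, ← h7.2 (by rw [← h5]; exact h8)] at h9
        exact add_right_cancel h9
    ext v
    have h9 : v ∈ AddSubgroup.closure R := by rw [hcl]; trivial
    induction h9 using AddSubgroup.closure_induction with
    | mem v hv => exact hroot v hv
    | zero => rw [map_zero, map_zero]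
    | add x y _ _ hx hy => rw [map_add, map_add, hx, hy]
    | neg x _ hx => rw [map_neg, map_neg, hx]
  have hneg : ∀ e : X, f g2 e = 1 ∨ f g2 e = -1 → g = e ∨ g = -e → f g2 g = 1 ∨ f g2 g = -1 := by
    rintro e h1 (rfl | rfl)
    · exact h1
    · rw [map_neg]
      rcases h1 with h1 | h1 <;> rw [h1]
      · exact Or.inr rfl
      · exact Or.inl (neg_neg 1)
  rcases he with rfl | rfl | rfl | rfl | rfl | rfl
  · exfalso
    rcases hge with rfl | rfl
    · exact same rfl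
    · exact same (by rw [neg_two h4])
  · exact hneg _ (Or.inr hgd) hge
  · exact hneg _ (Or.inl (by rw [map_add, hgg, hgd]; decide)) hge
  · exact hneg _ (Or.inl (by rw [map_sub, hgg, hgd]; decide)) hge
  · exact hneg _ (Or.inl (by rw [map_sub, map_add, hgg, hgd]; decide)) hge
  · exfalso
    have h5 : (d2 + d2 - g2) + (d2 + d2 - g2) = g2 + g2 := by
      have h6 : (d2 + d2 - g2) + (d2 + d2 - g2) = ((d2 + d2) + (d2 + d2)) + (-g2 + -g2) := by abel
      rw [h6, h4d, zero_add, neg_two h4]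
    rcases hge with rfl | rfl
    · exact same h5
    · exact same (by rw [neg_two (by rw [h5]; exact h4), h5])

end abstract

theorem rf_mul (h : CVW Om U) (hA : IsA Om U A) (hv : v ∈ RR Om U A) {a b : G} (ha : a ∈ A) (hb : b ∈ A) :
    rf Om U v (a * b) = rf Om U v a * rf Om U v b := by
  rw [rf, rf, rf, h.al_mul hA hv ha hb, neg_add, pw_add hv.2.1]
  have h4 := pw_comm (h.comm hA hb hv.1) (-al Om U v a)
  calc a * b * (pw v (-al Om U v a) * pw v (-al Om U v b)) = a * (b * pw v (-al Om U v a)) * pw v (-al Om U v b) := by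
        group
    _ = _ := by rw [h4]; group

/-- (T1) for two different involutions of `B` is impossible -/
theorem dead_T1 (h : CVW Om U) (hA : IsA Om U A)
    (hsym : ∀ v ∈ RR Om U A, ∀ w ∈ RR Om U A, al Om U v w = al Om U w v)
    {N2 : Subgroup G} (hN : N ∈ Om) (hN2 : N2 ∈ Om) (hsA : zz N ∈ normalizer (A : Set G))
    (hs2A : zz N2 ∈ normalizer (A : Set G)) (hsB : zz N ∈ B) (hs2B : zz N2 ∈ B)
    (hCB : centralizer {zz N} ≤ normalizer (B : Set G))
    (hcb : ∀ b ∈ B, (∀ a ∈ A, b * a = a * b) → b = 1) (hne : zz N ≠ zz N2)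
    {g d g2 d2 : AT h hA} (t : RootMod.T1 (rA h hA) (fA h hA) (cjA h hA hsA) g d)
    (t2 : RootMod.T1 (rA h hA) (fA h hA) (cjA h hA hs2A) g2 d2) : False := by
  have hR := rm h hA hsym
  have hmaps : cjA h hA hsA ≠ cjA h hA hs2A := by
    intro h1
    have h2 : zz N * zz N2 = 1 := by
      apply hcb _ (B.mul_mem hsB hs2B)
      intro a ha
      have h3 := congrArg vl (DFunLike.congr_fun h1 (mk h hA a ha))
      rw [vl_cjA, vl_cjA, vl_mk] at h3
      have h4 := h.hyp.zz_mul hN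
      have h5 := h.hyp.zz_mul hN2
      have h6 : zz N * (zz N2 * a * (zz N2)⁻¹) * (zz N)⁻¹ = a := by
        rw [← h3]
        calc zz N * (zz N * a * (zz N)⁻¹) * (zz N)⁻¹ = (zz N * zz N) * a * (zz N * zz N)⁻¹ := by group
          _ = a := by rw [h4]; group
      have h7 : zz N * zz N2 * a * (zz N * zz N2)⁻¹ = a := by
        rw [← h6]
        simp only [h6]
        calc zz N * zz N2 * a * (zz N * zz N2)⁻¹ = zz N * (zz N2 * a * (zz N2)⁻¹) * (zz N)⁻¹ := by group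
          _ = a := h6
      exact mul_inv_eq_iff_eq_mul.mp h7
    apply hne
    rw [← h.hyp.zz_inv hN2]
    exact eq_inv_of_mul_eq_one_left h2
  have hlk := t1_linked hR (closure_rA h hA) t t2 hmaps
  have h4d := hR.four t.hd
  have h4g := hR.four t.hg
  have hgg := hR.self t.hg
  have hdg : fA h hA d g = -1 := by rw [hR.symm t.hd t.hg, t.gd]
  have hg'g' : (d + d - g) + (d + d - g) = g + g := by
    have h6 : (d + d - g) + (d + d - g) = ((d + d) + (d + d)) + (-g + -g) := by abel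
    rw [h6, h4d, zero_add, RootMod.neg_two h4g]
  have hgg' : fA h hA g (d + d - g) = 0 := by rw [map_sub, map_add, hgg, t.gd]; decide
  have hg'g : fA h hA (d + d - g) g = 0 := by rw [hR.symm t.g2 t.hg, hgg']
  have hg'd : fA h hA (d + d - g) d = 1 := by
    rw [hR.symm t.g2 t.hd, map_sub, map_add, hR.self t.hd, hdg]; decide
  have hsg : zz N * vl g * (zz N)⁻¹ = (vl g)⁻¹ := by rw [← vl_cjA hsA, t.sg, vl_neg]
  have hsd : zz N * vl d * (zz N)⁻¹ = vl (g + g - d) := by rw [← vl_cjA hsA, t.sd]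
  have hsg' : zz N * vl (d + d - g) * (zz N)⁻¹ = (vl (d + d - g))⁻¹ := by
    rw [← vl_cjA hsA, ← vl_neg]
    congr 1
    rw [map_sub, map_add, t.sg, t.sd]
    have h6 : g + g - d + (g + g - d) - -g = ((g + g) + (g + g)) + -(d + d - g) := by abel
    rw [h6, h4g, zero_add]
  refine Dead.dead h hA hN hCB hcb (g := vl g) (g' := vl (d + d - g)) (d := vl d) (g2 := vl g2) t.hg t.g2 t.hd
    ?_ ?_ ?_ hsg hsg' ?_ ?_ ?_ ?_ ?_ ?_ hN2 hs2B hs2A t2.hg ?_ ?_ ?_
  · rw [← vl_add, hg'g', vl_add]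
  · intro h1
    have h2 := vl_inj h1
    rw [h2, hgg] at hgg'
    exact absurd hgg' (by decide)
  · intro h1
    rw [← vl_neg] at h1
    have h2 := vl_inj h1
    rw [h2, map_neg, hgg] at hgg'
    exact absurd hgg' (by decide)
  · rw [← fA_eq t.hg, t.gd]; decide
  · rw [← fA_eq t.hg, t.gd]; decide
  · rw [← fA_eq t.g2, hg'd]; decide
  · rw [← fA_eq t.g2, hg'd]; decide
  · -- the action
    let p : G → Prop := fun a => zz N * a * (zz N)⁻¹ = rf Om U (vl g) (rf Om U (vl (d + d - g)) a)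
    have pmul : ∀ a ∈ A, ∀ b ∈ A, p a → p b → p (a * b) := by
      intro a ha b hb h1 h2
      change zz N * (a * b) * (zz N)⁻¹ = _
      rw [rf_mul h hA t.g2 ha hb, rf_mul h hA t.hg (CVW.rf_mem_A t.g2 ha) (CVW.rf_mem_A t.g2 hb), ← h1, ← h2]
      group
    have p1 : p 1 := by
      change zz N * 1 * (zz N)⁻¹ = _
      have h1 : rf Om U (vl (d + d - g)) 1 = 1 := by rw [rf, h.al_one hA t.g2, neg_zero, pw_zero, mul_one]
      have h2 : rf Om U (vl g) 1 = 1 := by rw [rf, h.al_one hA t.hg, neg_zero, pw_zero, mul_one]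
      rw [h1, h2, mul_one, mul_inv_cancel]
    have pinv : ∀ a ∈ A, p a → p a⁻¹ := by
      intro a ha h1
      have hai := A.inv_mem ha
      have h2 : rf Om U (vl g) (rf Om U (vl (d + d - g)) a) * rf Om U (vl g) (rf Om U (vl (d + d - g)) a⁻¹) = 1 := by
        rw [← rf_mul h hA t.hg (CVW.rf_mem_A t.g2 ha) (CVW.rf_mem_A t.g2 hai), ← rf_mul h hA t.g2 ha hai,
          mul_inv_cancel]
        have := p1
        change zz N * 1 * (zz N)⁻¹ = _ at this
        rw [← this, mul_one, mul_inv_cancel]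
      have h1' : zz N * a * (zz N)⁻¹ = rf Om U (vl g) (rf Om U (vl (d + d - g)) a) := h1
      rw [← h1'] at h2
      change zz N * a⁻¹ * (zz N)⁻¹ = _
      rw [eq_inv_of_mul_eq_one_right h2]
      group
    have pg : p (vl g) := by
      change zz N * vl g * (zz N)⁻¹ = _
      have h1 : rf Om U (vl (d + d - g)) (vl g) = vl g := by
        rw [rf, ← fA_eq t.g2, hg'g, neg_zero, pw_zero, mul_one]
      have h2 : rf Om U (vl g) (vl g) = (vl g)⁻¹ := by
        rw [rf, ← fA_eq t.hg, hgg, show (-2 : ZMod 4) = 1 + 1 by decide, pw_add t.hg.2.1, pw_one]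
        rw [eq_inv_iff_mul_eq_one]
        rw [← four_pow t.hg.2.1]
        group
      rw [h1, h2, hsg]
    have pd : p (vl d) := by
      change zz N * vl d * (zz N)⁻¹ = _
      have h1 : rf Om U (vl (d + d - g)) (vl d) = vl (d - (d + d - g)) := by
        rw [rf, ← fA_eq t.g2, hg'd, pw_neg_one t.g2.2.1]
        exact (vl_sub _ _).symm
      have h2 : rf Om U (vl g) (vl (d - (d + d - g))) = vl (d - (d + d - g) + g) := by
        rw [rf, ← fA_eq t.hg, map_sub, t.gd, hgg', sub_zero, neg_neg, pw_one, vl_add]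
      rw [h1, h2, hsd]
      congr 1
      abel
    refine CVW.exists_gen hA p1 pmul ?_
    intro v hv
    have hvg := vl_mem g
    have hvd := vl_mem d
    have pe : ∀ e : AT h hA, (e = g ∨ e = d ∨ e = g + d ∨ e = d - g ∨ e = g + g - d ∨ e = d + d - g) → p (vl e) := by
      rintro e (rfl | rfl | rfl | rfl | rfl | rfl)
      · exact pg
      · exact pd
      · rw [vl_add]; exact pmul _ hvg _ hvd pg pd
      · rw [vl_sub]; exact pmul _ hvd _ (A.inv_mem hvg) pd (pinv _ hvg pg)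
      · rw [vl_sub, vl_add]
        exact pmul _ (A.mul_mem hvg hvg) _ (A.inv_mem hvd) (pmul _ hvg _ hvg pg pg) (pinv _ hvd pd)
      · rw [vl_sub, vl_add]
        exact pmul _ (A.mul_mem hvd hvd) _ (A.inv_mem hvg) (pmul _ hvd _ hvd pd pd) (pinv _ hvg pg)
    obtain ⟨e, he, hve⟩ := t.all (mk h hA v hv.1) hv
    rcases hve with hve | hve
    · have h1 := congrArg vl hve
      rw [vl_mk] at h1
      rw [h1]
      exact pe e he
    · have h1 := congrArg vl hve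
      rw [vl_mk, vl_neg] at h1
      rw [h1]
      exact pinv _ (vl_mem e) (pe e he)
  · rw [hsd, ← vl_add, ← vl_add]
    congr 1
    abel
  · rw [← vl_cjA hs2A, t2.sg, vl_neg]
  · rw [← fA_eq t2.hg]
    rcases hlk with h1 | h1 <;> rw [h1] <;> decide
  · rw [← fA_eq t2.hg]
    rcases hlk with h1 | h1 <;> rw [h1] <;> decide

end Cfsg.Agent.Cit.Nil.CV.Glue

private theorem dce_5330e3aad95b : _root_.True := by
  try have : _root_.True := by simp only [_root_.Cfsg.Agent.Cit.Nil.CV.Glue.fA.eq_1]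
  try have : _root_.True := by simp only [_root_.Cfsg.Agent.Cit.Nil.CV.Glue.mk.congr_simp]
  exact _root_.True.intro
end

-- part: Cit/Nil/CV/Trans
section
set_option linter.all false
open scoped Cfsg.Agent.FastGrp

/-!
# (6b)(CV): transitivity on the roots, the three cases

* `CVW.exists_tr` : the pairs `(A, ± v)`, `v` a root of `A`, are conjugate (one class of members);
* `CVW.trich` : rank one, type `A2`, rank at least three.
-/

set_option autoImplicit false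
set_option linter.style.haveILetI false
set_option linter.unusedSectionVars false

namespace Cfsg.Agent.Cit.CV

open Subgroup Cfsg Cit Tau

variable {G : Type*} [Group G] {Om : Set (Subgroup G)} {U : Subgroup G → Subgroup G} {A B K L N : Subgroup G}
  {a b e f g s t u v w x y : G}

/-- no root is linked to another root -/
def RkOne (Om : Set (Subgroup G)) (U : Subgroup G → Subgroup G) (A : Subgroup G) : Prop :=
  ∀ v ∈ RR Om U A, ∀ w ∈ RR Om U A, ¬ Lk Om U v w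

/-- every component is of type `A2` -/
def RkTwo (Om : Set (Subgroup G)) (U : Subgroup G → Subgroup G) (A : Subgroup G) : Prop :=
  ∀ v ∈ RR Om U A, ∃ w ∈ RR Om U A, Lk Om U v w ∧ ∀ u ∈ RR Om U A, Lk Om U v u →
    u = w ∨ u = w⁻¹ ∨ u = rf Om U v w ∨ u = (rf Om U v w)⁻¹

namespace CVW

variable [Finite G]

theorem RR_cj' (h : CVW Om U) (hv : v ∈ RR Om U A) (g : G) : g * v * g⁻¹ ∈ RR Om U (cj g A) := (h.RR_cj g).1 hv

/-- equivariance of `al` -/
theorem al_cj' (h : CVW Om U) (hA : IsA Om U A) (hv : v ∈ RR Om U A) (ha : a ∈ A) (g : G) :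
    al Om U (g * v * g⁻¹) (g * a * g⁻¹) = al Om U v a := by
  have hv' := h.RR_cj' hv g
  obtain ⟨hvA, hv4, K, hK, hvK⟩ := hv
  obtain ⟨y, hy, hyX⟩ := h.exists_y hK
  refine h.al_eq (h.isA_cj hA g) (h.hyp.conj K hK g) (h.vch.conj_mem hK hvK g) (orderOf_conj_four hv4 g) hv'.1
    (conj_mem_cj hy) (fun hh => hyX ((Tau.conj_mem_XX (h.vch.cj K hK g)).mp hh)) (conj_mem_cj ha) ?_
  have h1 := h.al_spec hA hK hvK hv4 hvA hy hyX ha
  calc g * y * g⁻¹ * (g * a * g⁻¹) * (g * y * g⁻¹)⁻¹ = g * (y * a * y⁻¹) * g⁻¹ := by group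
    _ = g * a * g⁻¹ * (g * pw v (-al Om U v a) * g⁻¹) := by rw [h1]; group
    _ = g * a * g⁻¹ * pw (g * v * g⁻¹) (-al Om U v a) := by rw [conj_pw]

theorem rf_cj (h : CVW Om U) (hA : IsA Om U A) (hv : v ∈ RR Om U A) (ha : a ∈ A) (g : G) :
    rf Om U (g * v * g⁻¹) (g * a * g⁻¹) = g * rf Om U v a * g⁻¹ := by
  rw [rf, rf, h.al_cj' hA hv ha, ← conj_pw]
  group

/-- the pairs `(A, ± v)` are conjugate -/
theorem exists_tr (h : CVW Om U) (one : ∀ K ∈ Om, ∀ L ∈ Om, ∃ g, L = cj g K) (hA : IsA Om U A) (hB : IsA Om U B)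
    (hv : v ∈ RR Om U A) (hw : w ∈ RR Om U B) : ∃ g, B = cj g A ∧ (w = g * v * g⁻¹ ∨ w = g * v⁻¹ * g⁻¹) := by
  obtain ⟨hvA, hv4, K, hK, hvK⟩ := id hv
  obtain ⟨hwB, hw4, L, hL, hwL⟩ := id hw
  obtain ⟨g, rfl⟩ := one K hK L hL
  have h1 := h.eq_or_inv hL (h.vch.conj_mem hK hvK g) (orderOf_conj_four hv4 g) hwL hw4
  have h2 : w = g * v * g⁻¹ ∨ w = g * v⁻¹ * g⁻¹ := by
    rcases h1 with h1 | h1
    · exact Or.inl h1
    · right; rw [h1]; group
  -- both `cj g A` and `B` centralise `w`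
  have h3 : w ∈ cj g A := by
    rcases h2 with h2 | h2
    · rw [h2]; exact conj_mem_cj hvA
    · rw [h2]; exact conj_mem_cj (A.inv_mem hvA)
  have hA' := h.isA_cj hA g
  have h4 : cj g A ≤ centralizer {w} := fun x hx => mem_centralizer_singleton_iff.mpr (h.comm hA' hx h3)
  have h5 : B ≤ centralizer {w} := fun x hx => mem_centralizer_singleton_iff.mpr (h.comm hB hx hwB)
  obtain ⟨R1, hR1, hAR⟩ := LB.exists_syl_ge (isA_two hA') h4
  obtain ⟨R2, hR2, hBR⟩ := LB.exists_syl_ge (isA_two hB) h5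
  obtain ⟨c, hc, hcR⟩ := hR1.exists_conj hR2
  have h6 : cj c (cj g A) = B := by
    rw [← h.WW_eq hA' hR1.2.1 hAR, ← h.WW_cj, hcR, h.WW_eq hB hR2.2.1 hBR]
  rw [mem_centralizer_singleton_iff] at hc
  have h7 : c * w * c⁻¹ = w := by rw [hc, mul_inv_cancel_right]
  refine ⟨c * g, by rw [← h6, cj_mul], ?_⟩
  rcases h2 with h2 | h2
  · left
    rw [← h7, h2]; group
  · right
    rw [← h7, h2]; group

theorem exists_mem (h : CVW Om U) (hne : Om.Nonempty) : ∃ A, IsA Om U A ∧ ∃ v, v ∈ RR Om U A := by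
  obtain ⟨K, hK⟩ := hne
  obtain ⟨v, hvK, hv4⟩ := h.exists_v hK
  obtain ⟨S, hKS⟩ := (h.two K hK).exists_le_sylow
  exact ⟨WW Om U (S : Subgroup G), ⟨S, rfl⟩, v, subset_closure ⟨hKS (h.vch.le K hK hvK), hv4, K, hK, hvK⟩, hv4, K, hK, hvK⟩

theorem exists_mem' (h : CVW Om U) (hne : Om.Nonempty) (hA : IsA Om U A) : ∃ v, v ∈ RR Om U A := by
  obtain ⟨B, hB, v, hv⟩ := h.exists_mem hne
  obtain ⟨g, rfl⟩ := isA_conj hB h hA
  exact ⟨_, h.RR_cj' hv g⟩

theorem lk_inv_left (h : CVW Om U) (hA : IsA Om U A) (hv : v ∈ RR Om U A) (hw : w ∈ RR Om U A) :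
    Lk Om U v⁻¹ w ↔ Lk Om U v w := by
  rw [lk_iff, lk_iff, h.al_neg hA hv hw.1]
  generalize al Om U v w = i
  revert i
  decide

theorem rf_inv_left (h : CVW Om U) (hA : IsA Om U A) (hv : v ∈ RR Om U A) (hw : w ∈ RR Om U A) :
    rf Om U v⁻¹ w = rf Om U v w := by
  rw [rf, rf, h.al_neg hA hv hw.1, pw_inv hv.2.1, neg_neg]

/-- a property of the pairs `(A, v)` which is invariant under conjugation and under `v ↦ v⁻¹` holds everywhere if it holds
somewhere -/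
theorem transport (h : CVW Om U) (one : ∀ K ∈ Om, ∀ L ∈ Om, ∃ g, L = cj g K) {P : Subgroup G → G → Prop}
    (hP : ∀ A, IsA Om U A → ∀ v ∈ RR Om U A, P A v → P A v⁻¹)
    (hc : ∀ A, IsA Om U A → ∀ v ∈ RR Om U A, ∀ g, P A v → P (cj g A) (g * v * g⁻¹)) (hA : IsA Om U A)
    (hv : v ∈ RR Om U A) (h0 : P A v) : ∀ B, IsA Om U B → ∀ w ∈ RR Om U B, P B w := by
  intro B hB w hw
  obtain ⟨g, rfl, h1⟩ := h.exists_tr one hA hB hv hw
  rcases h1 with rfl | rfl
  · exact hc A hA v hv g h0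
  · exact hc A hA v⁻¹ (RR_inv hv) g (hP A hA v hv h0)

/-- the roots of `cj g A` -/
theorem exists_of_cj (h : CVW Om U) (hu : u ∈ RR Om U (cj g A)) : ∃ x ∈ RR Om U A, u = g * x * g⁻¹ := by
  refine ⟨g⁻¹ * u * g, ?_, by group⟩
  have h1 := h.RR_cj' hu g⁻¹
  rwa [cj_inv_cj, inv_inv] at h1

/-- **the three cases** -/
theorem trich (h : CVW Om U) (one : ∀ K ∈ Om, ∀ L ∈ Om, ∃ g, L = cj g K) (hne : Om.Nonempty) :
    (∀ A, IsA Om U A → RkOne Om U A) ∨ (∀ A, IsA Om U A → RkTwo Om U A) ∨ ∀ A, IsA Om U A → RkThree Om U A := by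
  obtain ⟨A, hA, v, hv⟩ := h.exists_mem hne
  by_cases h1 : ∃ w ∈ RR Om U A, Lk Om U v w
  swap
  · left
    push Not at h1
    refine h.transport one (P := fun A v => ∀ w ∈ RR Om U A, ¬ Lk Om U v w) ?_ ?_ hA hv h1
    · intro A hA v hv h2 w hw
      rw [h.lk_inv_left hA hv hw]
      exact h2 w hw
    · intro A hA v hv g h2 w hw
      obtain ⟨x, hx, rfl⟩ := h.exists_of_cj hw
      unfold Lk
      rw [h.al_cj' hA hv hx.1]
      exact h2 x hx
  obtain ⟨w, hw, hl⟩ := h1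
  right
  by_cases h2 : ∀ u ∈ RR Om U A, Lk Om U v u → u = w ∨ u = w⁻¹ ∨ u = rf Om U v w ∨ u = (rf Om U v w)⁻¹
  · left
    refine h.transport one (P := fun A v => ∃ w ∈ RR Om U A, Lk Om U v w ∧ ∀ u ∈ RR Om U A, Lk Om U v u →
      u = w ∨ u = w⁻¹ ∨ u = rf Om U v w ∨ u = (rf Om U v w)⁻¹) ?_ ?_ hA hv ⟨w, hw, hl, h2⟩
    · rintro A hA v hv ⟨w, hw, h3, h4⟩
      refine ⟨w, hw, (h.lk_inv_left hA hv hw).2 h3, fun u hu h5 => ?_⟩
      rw [h.rf_inv_left hA hv hw]
      exact h4 u hu ((h.lk_inv_left hA hv hu).1 h5)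
    · rintro A hA v hv g ⟨w, hw, h3, h4⟩
      refine ⟨g * w * g⁻¹, h.RR_cj' hw g, ?_, fun u hu h5 => ?_⟩
      · unfold Lk
        rw [h.al_cj' hA hv hw.1]
        exact h3
      · obtain ⟨x, hx, rfl⟩ := h.exists_of_cj hu
        unfold Lk at h5
        rw [h.al_cj' hA hv hx.1] at h5
        rw [h.rf_cj hA hv hw.1]
        rcases h4 x hx h5 with rfl | rfl | rfl | rfl
        · exact Or.inl rfl
        · right; left; group
        · right; right; left; rfl
        · right; right; right; group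
  · right
    push Not at h2
    obtain ⟨u, hu, hl', n1, n2, n3, n4⟩ := h2
    refine h.transport one (P := fun A v => ∃ w ∈ RR Om U A, ∃ u ∈ RR Om U A, Lk Om U v w ∧ Lk Om U v u ∧ u ≠ w ∧
      u ≠ w⁻¹ ∧ u ≠ rf Om U v w ∧ u ≠ (rf Om U v w)⁻¹) ?_ ?_ hA hv ⟨w, hw, u, hu, hl, hl', n1, n2, n3, n4⟩
    · rintro A hA v hv ⟨w, hw, u, hu, h3, h4, h5⟩
      refine ⟨w, hw, u, hu, (h.lk_inv_left hA hv hw).2 h3, (h.lk_inv_left hA hv hu).2 h4, ?_⟩
      rw [h.rf_inv_left hA hv hw]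
      exact h5
    · rintro A hA v hv g ⟨w, hw, u, hu, h3, h4, n1, n2, n3, n4⟩
      have inj : ∀ a b : G, g * a * g⁻¹ = g * b * g⁻¹ → a = b := fun a b hab => mul_left_cancel (mul_right_cancel hab)
      refine ⟨g * w * g⁻¹, h.RR_cj' hw g, g * u * g⁻¹, h.RR_cj' hu g, ?_, ?_, fun hh => n1 (inj _ _ hh),
        fun hh => n2 (inj _ _ ?_), fun hh => n3 (inj _ _ ?_), fun hh => n4 (inj _ _ ?_)⟩
      · unfold Lk
        rw [h.al_cj' hA hv hw.1]
        exact h3
      · unfold Lk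
        rw [h.al_cj' hA hv hu.1]
        exact h4
      · rw [hh]; group
      · rw [hh, h.rf_cj hA hv hw.1]
      · rw [hh, h.rf_cj hA hv hw.1]; group

end CVW

end Cfsg.Agent.Cit.CV
end

-- part: Cit/Nil/CV/SecFour
section
set_option linter.all false
open scoped Cfsg.Agent.FastGrp

/-!
# (6b)(CV), rank at least three, section 4 of helper599's text (shortened)

`TwoCV Om U` : the output of section 2; `ThreeCV Om U` : the output of section 3 (`zz N ∈ N(A)` implies `zz N ∈ A`).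
`CVW.strongly` : the involutions of `A` form a strongly closed subset.
-/

set_option autoImplicit false
set_option linter.style.haveILetI false
set_option linter.unusedSectionVars false

namespace Cfsg.Agent.Cit.CV

open Subgroup Cfsg Cit Tau

variable {G : Type*} [Group G] {Om : Set (Subgroup G)} {U : Subgroup G → Subgroup G} {A B K L N : Subgroup G}
  {a b e f g s t u v w x y : G}

/-- output of section 2 -/
structure TwoCV (Om : Set (Subgroup G)) (U : Subgroup G → Subgroup G) : Prop where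
  cent : ∀ A, IsA Om U A → ∀ e ∈ A, e * e = 1 → e ≠ 1 → centralizer {e} ≤ normalizer (A : Set G)
  inf : ∀ A, IsA Om U A → ∀ B, IsA Om U B → A ≠ B → A ⊓ B = ⊥

/-- output of section 3 -/
def ThreeCV (Om : Set (Subgroup G)) (U : Subgroup G → Subgroup G) : Prop :=
  ∀ A, IsA Om U A → ∀ N ∈ Om, zz N ∈ normalizer (A : Set G) → zz N ∈ A

theorem twoCV_of [Finite G] (h : CVW Om U) (hn : NilCV Om U) (hr : ∀ A, IsA Om U A → RkThree Om U A)
    (hne : ∀ A, IsA Om U A → (RR Om U A).Nonempty) : TwoCV Om U :=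
  ⟨fun A hA _ he he2 he1 => h.cent_le hn hA (hr A hA) (hne A hA) he he2 he1,
    fun A hA _ hB hAB => h.inf_bot hn hA (hr A hA) (hne A hA) hB hAB⟩

namespace CVW

variable [Finite G]

/-- G2 bonds: `v w²` is a root -/
theorem gTwo_mem (h : CVW Om U) (hA : IsA Om U A) (hv : v ∈ RR Om U A) (hw : w ∈ RR Om U A) (hl : Lk Om U v w)
    (hg : al Om U w v = -al Om U v w) : w * w * v ∈ RR Om U A := by
  have hm := h.rf_mem hA hv hw
  have ht := h.rf_mem hA hw hm
  have h1 : al Om U w (rf Om U v w) = -1 := by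
    rw [h.al_rf_left hA hv hw hw.1, h.al_self hA hw, hg]
    rw [lk_iff] at hl
    rcases hl with hl | hl <;> rw [hl] <;> decide
  have h2 : rf Om U w (rf Om U v w) = w * w * pw v (-al Om U v w) := by
    rw [rf, h1, neg_neg, pw_one, rf]
    calc w * pw v (-al Om U v w) * w = w * (pw v (-al Om U v w) * w) := by group
      _ = w * w * pw v (-al Om U v w) := by rw [h.comm hA (pw_mem hv.1 _) hw.1]; group
  rw [h2] at ht
  rcases (lk_iff _ _).mp hl with h3 | h3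
  · rw [h3, pw_neg_one hv.2.1] at ht
    have h4 := RR_inv ht
    rwa [mul_inv_rev, inv_inv, mul_inv_rev, sq_inv hw, h.comm hA hv.1 (A.mul_mem hw.1 hw.1)] at h4
  · rwa [h3, neg_neg, pw_one] at ht

/-- G2 bonds: a root linked to `w` and orthogonal to `v` is `± v w²` -/
theorem gTwo_orth (h : CVW Om U) (hA : IsA Om U A) (hv : v ∈ RR Om U A) (hw : w ∈ RR Om U A) (hl : Lk Om U v w)
    (hg : al Om U w v = -al Om U v w) (hu : u ∈ RR Om U A) (huw : Lk Om U u w) (huv : al Om U u v = 0) :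
    u * u = v * v := by
  have ht := h.gTwo_mem hA hv hw hl hg
  have h1 : al Om U u (w * w * v) = 2 := by
    rw [h.al_mul hA hu (A.mul_mem hw.1 hw.1) hv.1, h.al_sq hA hu hw.1, huv, add_zero, (lk_iff' _ _).mp huw]
  have h2 : w * w * v * (w * w * v) = v * v := by
    have h3 : w ^ 4 = 1 := by rw [← hw.2.1]; exact pow_orderOf_eq_one w
    calc w * w * v * (w * w * v) = w * w * (v * (w * w)) * v := by group
      _ = w * w * (w * w * v) * v := by rw [h.comm hA hv.1 (A.mul_mem hw.1 hw.1)]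
      _ = w ^ 4 * (v * v) := by simp [pow_succ, mul_assoc]
      _ = v * v := by rw [h3, one_mul]
  rcases h.al_two hA hu ht h1 with h3 | h3
  · rw [← h3, h2]
  · rw [← sq_inv hu, ← h3, h2]

section moved

variable (h : CVW Om U) (hA : IsA Om U A) (ht : t ∈ normalizer (A : Set G)) (ht2 : t * t = 1)
  (hfix : ∀ v ∈ RR Om U A, t * (v * v) * t⁻¹ ≠ v * v)
include h hA ht ht2 hfix

theorem conj_conj' (a : G) : t * (t * a * t⁻¹) * t⁻¹ = a := by
  calc t * (t * a * t⁻¹) * t⁻¹ = (t * t) * a * (t * t)⁻¹ := by group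
    _ = a := by rw [ht2]; group

/-- `v` and `t v t⁻¹` are orthogonal -/
theorem moved_one (hv : v ∈ RR Om U A) : al Om U v (t * v * t⁻¹) = 0 := by
  have hv' := h.RR_conj ht hv
  by_contra h0
  by_cases h2 : al Om U v (t * v * t⁻¹) = 2
  · have h3 : t * v * t⁻¹ * (t * v * t⁻¹) = v * v := by
      rcases h.al_two hA hv hv' h2 with h3 | h3
      · rw [h3]
      · rw [h3, sq_inv hv]
    apply hfix v hv
    rw [show t * (v * v) * t⁻¹ = t * v * t⁻¹ * (t * v * t⁻¹) by group]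
    exact h3
  · have hl : Lk Om U v (t * v * t⁻¹) := ⟨h0, h2⟩
    have hm := h.rf_mem hA hv hv'
    have h3 := h.sq_rf hA hv hv' hl
    apply hfix _ hm
    rw [h3]
    have h4 : t * (t * v * t⁻¹ * (t * v * t⁻¹) * (v * v)) * t⁻¹ =
        (t * (t * v * t⁻¹) * t⁻¹) * (t * (t * v * t⁻¹) * t⁻¹) * ((t * v * t⁻¹) * (t * v * t⁻¹)) := by group
    rw [h4, h.conj_conj' hA ht ht2 hfix]
    exact h.comm hA (A.mul_mem hv.1 hv.1) (A.mul_mem hv'.1 hv'.1)

/-- no root is linked to `v` and to `t v t⁻¹` -/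
theorem moved_two (hv : v ∈ RR Om U A) (hw : w ∈ RR Om U A) (hl : Lk Om U v w) : al Om U w (t * v * t⁻¹) = 0 := by
  have hv' := h.RR_conj ht hv
  have hw' := h.RR_conj ht hw
  have hlw := h.lk_symm hA hv hw hl
  have o1 := h.moved_one hA ht ht2 hfix hv
  have o2 := h.moved_one hA ht ht2 hfix hw
  by_contra h0
  have h2 : al Om U w (t * v * t⁻¹) ≠ 2 := by
    intro h2
    rcases h.al_two hA hw hv' h2 with h3 | h3
    · rw [h3] at o1; exact hl.1 o1
    · rw [h3, h.al_inv hA hv hw.1, neg_eq_zero] at o1; exact hl.1 o1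
  have hlv' : Lk Om U w (t * v * t⁻¹) := ⟨h0, h2⟩
  have hlv'w := h.lk_symm hA hw hv' hlv'
  -- no G2 bonds
  have g1 : al Om U w v = al Om U v w := by
    rcases h.al_odd_symm hA hv hw hl.1 hl.2 with h3 | h3
    · exact h3
    · exfalso
      have h4 := h.gTwo_orth hA hv hw hl h3 hv' hlv'w (h.al_zero_symm hA hv hv' o1)
      apply hfix v hv
      rw [← h4]
      have h5 : t * (t * v * t⁻¹ * (t * v * t⁻¹)) * t⁻¹ = (t * (t * v * t⁻¹) * t⁻¹) * (t * (t * v * t⁻¹) * t⁻¹) := by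
        group
      rw [h5, h.conj_conj' hA ht ht2 hfix, h4]
  have g2 : al Om U w (t * v * t⁻¹) = al Om U (t * v * t⁻¹) w := by
    rcases h.al_odd_symm hA hv' hw hlv'w.1 hlv'w.2 with h3 | h3
    · exact h3
    · exfalso
      have h4 := h.gTwo_orth hA hv' hw hlv'w h3 hv hl o1
      apply hfix v hv
      rw [h4]
      have h5 : t * (t * v * t⁻¹ * (t * v * t⁻¹)) * t⁻¹ = (t * (t * v * t⁻¹) * t⁻¹) * (t * (t * v * t⁻¹) * t⁻¹) := by
        group
      rw [h5, h.conj_conj' hA ht ht2 hfix, h4]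
  -- transport
  have c1 : al Om U (t * v * t⁻¹) (t * w * t⁻¹) = al Om U v w := h.al_conj hA ht hv hw.1
  have c2 : al Om U (t * w * t⁻¹) (t * v * t⁻¹) = al Om U w v := h.al_conj hA ht hw hv.1
  have c3 : al Om U v (t * w * t⁻¹) = al Om U (t * v * t⁻¹) w := by
    have := h.al_conj hA ht hv' hw.1
    rwa [h.conj_conj' hA ht ht2 hfix] at this
  -- `M = rf w v`, `t M t⁻¹ = rf w' v'`
  have hM := h.rf_mem hA hw hv
  have hM' := h.moved_one hA ht ht2 hfix hM
  have e1 : t * rf Om U w v * t⁻¹ = (t * v * t⁻¹) * pw (t * w * t⁻¹) (-al Om U w v) := by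
    rw [← conj_pw, rf]; group
  rw [h.al_rf' hA hw hv (h.RR_conj ht hM).1, e1, h.al_mul hA hv hv'.1 (pw_mem hw'.1 _), h.al_pw hA hv hw'.1,
    h.al_mul hA hw hv'.1 (pw_mem hw'.1 _), h.al_pw hA hw hw'.1, o1, o2, c3, g2, g1] at hM'
  rw [lk_iff] at hl hlv'w
  rcases hl with h3 | h3 <;> rcases hlv'w with h4 | h4 <;> rw [h3, h4] at hM' <;> exact absurd hM' (by decide)

end moved

/-- an involution of `B` moves all `v * v`, `v` a root of `A ≠ B` -/
theorem not_fix (h : CVW Om U) (h2 : TwoCV Om U) (h3 : ThreeCV Om U) (hA : IsA Om U A) (hB : IsA Om U B)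
    (hAB : A ≠ B) (htB : t ∈ B) (ht2 : t * t = 1) (ht1 : t ≠ 1) (hv : v ∈ RR Om U A) : t * (v * v) * t⁻¹ ≠ v * v := by
  intro he
  obtain ⟨hvA, hv4, K, hK, hvK⟩ := id hv
  have h4 : v * v ∈ centralizer {t} := by
    rw [mem_centralizer_singleton_iff]
    exact (mul_inv_eq_iff_eq_mul.mp he).symm
  have h5 := h2.cent B hB t htB ht2 ht1 h4
  rw [h.sq_eq hK hvK hv4] at h5
  have h6 := h3 B hB K hK h5
  rw [← h.sq_eq hK hvK hv4] at h6
  have h7 : v * v ∈ A ⊓ B := ⟨A.mul_mem hvA hvA, h6⟩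
  rw [h2.inf A hA B hB hAB, mem_bot] at h7
  exact sq_ne_one hv h7

/-- `B ∩ N(A)` contains at most one involution -/
theorem inv_unique (h : CVW Om U) (h2 : TwoCV Om U) (h3 : ThreeCV Om U) (hA : IsA Om U A) (hB : IsA Om U B)
    (hAB : A ≠ B) (hv : v ∈ RR Om U A) (hw : w ∈ RR Om U A) (hl : Lk Om U v w) (htB : t ∈ B) (ht2 : t * t = 1)
    (ht1 : t ≠ 1) (htA : t ∈ normalizer (A : Set G)) (hyB : y ∈ B) (hy2 : y * y = 1) (hy1 : y ≠ 1)
    (hyA : y ∈ normalizer (A : Set G)) : t = y := by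
  by_contra hne
  have hty := h.comm hB htB hyB
  set u := v * v * (t * (v * v) * t⁻¹) with hu
  have hvv := A.mul_mem hv.1 hv.1
  have htv := (mem_normalizer_iff.mp htA _).mp hvv
  have huA : u ∈ A := A.mul_mem hvv htv
  -- `u` commutes with `t`
  have hut : t * u * t⁻¹ = u := by
    have e1 : t * u * t⁻¹ = (t * (v * v) * t⁻¹) * ((t * t) * (v * v) * (t * t)⁻¹) := by rw [hu]; group
    rw [e1, ht2, inv_one, mul_one, one_mul, h.comm hA htv hvv]
  have huB : u ∈ normalizer (B : Set G) := by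
    refine h2.cent B hB t htB ht2 ht1 ?_
    rw [mem_centralizer_singleton_iff]
    exact (mul_inv_eq_iff_eq_mul.mp hut).symm
  -- `u` commutes with `y`
  have huy : y * u * y⁻¹ = u := by
    have h4 : u * y * u⁻¹ * y⁻¹ ∈ A ⊓ B := by
      refine ⟨?_, B.mul_mem ((mem_normalizer_iff.mp huB _).mp hyB) (B.inv_mem hyB)⟩
      have e1 : u * y * u⁻¹ * y⁻¹ = u * (y * u⁻¹ * y⁻¹) := by group
      rw [e1]
      exact A.mul_mem huA ((mem_normalizer_iff.mp hyA _).mp (A.inv_mem huA))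
    rw [h2.inf A hA B hB hAB, mem_bot, mul_inv_eq_one, mul_inv_eq_iff_eq_mul] at h4
    rw [← h4, mul_inv_cancel_right]
  -- `al w u`
  have hft : ∀ v ∈ RR Om U A, t * (v * v) * t⁻¹ ≠ v * v := fun v hv => h.not_fix h2 h3 hA hB hAB htB ht2 ht1 hv
  have hfy : ∀ v ∈ RR Om U A, y * (v * v) * y⁻¹ ≠ v * v := fun v hv => h.not_fix h2 h3 hA hB hAB hyB hy2 hy1 hv
  have hyt2 : y * t * (y * t) = 1 := by
    calc y * t * (y * t) = y * (t * y) * t := by group
      _ = (y * y) * (t * t) := by rw [hty]; group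
      _ = 1 := by rw [hy2, ht2, one_mul]
  have hyt1 : y * t ≠ 1 := by
    intro h1
    apply hne
    have h4 : t = (y * y) * t := by rw [hy2, one_mul]
    rw [h4, mul_assoc, h1, mul_one]
  have hfyt : ∀ v ∈ RR Om U A, y * t * (v * v) * (y * t)⁻¹ ≠ v * v := fun v hv =>
    h.not_fix h2 h3 hA hB hAB (B.mul_mem hyB htB) hyt2 hyt1 hv
  have hytA : y * t ∈ normalizer (A : Set G) := mul_mem hyA htA
  have e2 : al Om U w u = 2 := by
    have e3 : u = v * v * (t * v * t⁻¹ * (t * v * t⁻¹)) := by rw [hu]; group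
    have hv' := h.RR_conj htA hv
    rw [e3, h.al_mul hA hw hvv (A.mul_mem hv'.1 hv'.1), h.al_sq hA hw hv.1, h.al_sq hA hw hv'.1,
      h.moved_two hA htA ht2 hft hv hw hl, (lk_iff' _ _).mp (h.lk_symm hA hv hw hl)]
    decide
  have e4 : al Om U w (y * u * y⁻¹) = 0 := by
    have hv1 := h.RR_conj hyA hv
    have hv2 := h.RR_conj hytA hv
    have e3 : y * u * y⁻¹ = y * v * y⁻¹ * (y * v * y⁻¹) * (y * t * v * (y * t)⁻¹ * (y * t * v * (y * t)⁻¹)) := by
      rw [hu]; group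
    rw [e3, h.al_mul hA hw (A.mul_mem hv1.1 hv1.1) (A.mul_mem hv2.1 hv2.1), h.al_sq hA hw hv1.1, h.al_sq hA hw hv2.1,
      h.moved_two hA hyA hy2 hfy hv hw hl, h.moved_two hA hytA hyt2 hfyt hv hw hl]
    decide
  rw [huy, e2] at e4
  exact absurd e4 (by decide)

/-- **no involution of `B` normalises `A ≠ B`** -/
theorem no_inv (h : CVW Om U) (h2 : TwoCV Om U) (h3 : ThreeCV Om U)
    (hlk : ∀ A, IsA Om U A → ∃ v ∈ RR Om U A, ∃ w ∈ RR Om U A, Lk Om U v w) (hA : IsA Om U A) (hB : IsA Om U B)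
    (hAB : A ≠ B) (htB : t ∈ B) (ht2 : t * t = 1) (htA : t ∈ normalizer (A : Set G)) : t = 1 := by
  by_contra ht1
  obtain ⟨v, hv, w, hw, hl⟩ := hlk A hA
  obtain ⟨v', hv', w', hw', hl'⟩ := hlk B hB
  have hft : ∀ v ∈ RR Om U A, t * (v * v) * t⁻¹ ≠ v * v := fun v hv => h.not_fix h2 h3 hA hB hAB htB ht2 ht1 hv
  -- for each root `v`: the involution `v² (t v² t⁻¹)`
  have key : ∀ v ∈ RR Om U A, v * v * (t * (v * v) * t⁻¹) ∈ A ∧
      v * v * (t * (v * v) * t⁻¹) * (v * v * (t * (v * v) * t⁻¹)) = 1 ∧ v * v * (t * (v * v) * t⁻¹) ≠ 1 ∧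
      v * v * (t * (v * v) * t⁻¹) ∈ normalizer (B : Set G) := by
    intro v hv
    have hvv := A.mul_mem hv.1 hv.1
    have htv := (mem_normalizer_iff.mp htA _).mp hvv
    have h4 : v * v * (v * v) = 1 := by
      have h5 : v ^ 4 = 1 := by rw [← hv.2.1]; exact pow_orderOf_eq_one v
      rw [← h5]; simp [pow_succ, mul_assoc]
    refine ⟨A.mul_mem hvv htv, ?_, ?_, ?_⟩
    · calc v * v * (t * (v * v) * t⁻¹) * (v * v * (t * (v * v) * t⁻¹))
          = v * v * ((t * (v * v) * t⁻¹) * (v * v)) * (t * (v * v) * t⁻¹) := by group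
        _ = v * v * (v * v) * (t * (v * v * (v * v)) * t⁻¹) := by rw [h.comm hA htv hvv]; group
        _ = 1 := by rw [h4, mul_one, mul_inv_cancel, mul_one]
    · intro h1
      apply hft v hv
      exact mul_left_cancel (h1.trans h4.symm)
    · refine h2.cent B hB t htB ht2 ht1 ?_
      rw [mem_centralizer_singleton_iff]
      have e1 : t * (v * v * (t * (v * v) * t⁻¹)) * t⁻¹ = (t * (v * v) * t⁻¹) * ((t * t) * (v * v) * (t * t)⁻¹) := by
        group
      rw [ht2, inv_one, mul_one, one_mul, h.comm hA htv hvv] at e1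
      exact (mul_inv_eq_iff_eq_mul.mp e1).symm
  obtain ⟨a1, a2, a3, a4⟩ := key v hv
  obtain ⟨b1, b2, b3, b4⟩ := key w hw
  have heq := h.inv_unique h2 h3 hB hA (Ne.symm hAB) hv' hw' hl' a1 a2 a3 a4 b1 b2 b3 b4
  -- compare `al w`
  have hlw := h.lk_symm hA hv hw hl
  have e2 : al Om U w (v * v * (t * (v * v) * t⁻¹)) = 2 := by
    have e3 : v * v * (t * (v * v) * t⁻¹) = v * v * (t * v * t⁻¹ * (t * v * t⁻¹)) := by group
    have hv' := h.RR_conj htA hv
    rw [e3, h.al_mul hA hw (A.mul_mem hv.1 hv.1) (A.mul_mem hv'.1 hv'.1), h.al_sq hA hw hv.1, h.al_sq hA hw hv'.1,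
      h.moved_two hA htA ht2 hft hv hw hl, (lk_iff' _ _).mp hlw]
    decide
  have e4 : al Om U w (w * w * (t * (w * w) * t⁻¹)) = 0 := by
    have e3 : w * w * (t * (w * w) * t⁻¹) = w * w * (t * w * t⁻¹ * (t * w * t⁻¹)) := by group
    have hw' := h.RR_conj htA hw
    rw [e3, h.al_mul hA hw (A.mul_mem hw.1 hw.1) (A.mul_mem hw'.1 hw'.1), h.al_sq hA hw hw.1, h.al_sq hA hw hw'.1,
      h.moved_one hA htA ht2 hft hw, h.al_self hA hw]
    decide
  rw [heq, e4] at e2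
  exact absurd e2 (by decide)

end CVW

end Cfsg.Agent.Cit.CV
end

-- part: Cit/Nil/CV3/Pair
section
set_option linter.all false
open scoped Cfsg.Agent.FastGrp

/-!
# (CV), section 3: the pair `A`, `B` (S1309)

From `CVW` (helper748) and the outputs of section 2 (`CW`).
-/

set_option autoImplicit false
set_option linter.style.haveILetI false
set_option linter.unusedSectionVars false

namespace Cfsg.Agent.Cit.Nil.CV3

open Subgroup Cfsg Cit Cit.CV

variable {G : Type*} [Group G] [Finite G]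

/-- the hypotheses of section 3: one class, the outputs `(c1)`, `(c2)` of section 2, no isolated root -/
structure CW (Om : Set (Subgroup G)) (U : Subgroup G → Subgroup G) : Prop extends CVW Om U where
  one : ∀ K ∈ Om, ∀ L ∈ Om, ∃ g, L = cj g K
  c1 : ∀ A, IsA Om U A → ∀ e ∈ A, e * e = 1 → e ≠ 1 → centralizer {e} ≤ normalizer (A : Set G)
  c2 : ∀ A B, IsA Om U A → IsA Om U B → A ≠ B → A ⊓ B = ⊥
  rk : ∀ A, IsA Om U A → ∀ v ∈ RR Om U A, ∃ w ∈ RR Om U A, al Om U v w ≠ 0 ∧ al Om U v w ≠ 2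

variable {Om : Set (Subgroup G)} {U : Subgroup G → Subgroup G} {A B K L N : Subgroup G} {a e g s t v w x y : G}

theorem lk_iff' {f : G → G → ZMod 4} : PW.Lk f v w ↔ (f v w ≠ 0 ∧ f v w ≠ 2) := by
  unfold PW.Lk
  generalize f v w = x
  revert x; decide

/-- the root datum of `A` -/
theorem pw_of (h : CVW Om U) (hA : IsA Om U A) : PW A (RR Om U A) (al Om U) where
  comm _ ha _ hb := h.comm hA ha hb
  le _ hv := hv.1
  inv _ hv := CVW.RR_inv hv
  f_inv _ hv _ ha := h.al_neg hA hv ha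
  f_mul _ hv _ ha _ hb := h.al_mul hA hv ha hb
  self _ hv := h.al_self hA hv
  zero _ hv _ hw h0 := h.al_zero_symm hA hv hw h0
  eq_or _ hv _ hw h0 := h.al_two hA hv hw h0
  sub v hv w hw h1 := by
    have h2 := h.rf_mem hA hv hw
    rwa [rf, h1, pw_neg_one hv.2.1] at h2
  f_sub v hv w hw h1 a ha := by
    have h2 : rf Om U v w = w * v⁻¹ := by rw [rf, h1, pw_neg_one hv.2.1]
    have h3 : rf Om U v (rf Om U v a) = a := by
      obtain ⟨K, hK, hvK, y, hy, hyX, hyA, hyy, hrf⟩ := h.exists_root hA hv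
      rw [← hrf a ha, ← hrf _ ((mem_normalizer_iff.mp hyA a).mp ha)]
      have h4 : y * (y * a * y⁻¹) * y⁻¹ = (y * y) * a * (y * y)⁻¹ := by group
      rw [h4, hyy, h.comm hA (A.mul_mem hv.1 hv.1) ha, mul_inv_cancel_right]
    have h4 := h.al_rf hA hv hw (CVW.rf_mem_A hv ha)
    rw [h3, h2, h.al_rf_left hA hv hw ha] at h4
    exact h4
  four v hv := by
    have := pow_orderOf_eq_one v
    rw [hv.2.1] at this
    rw [← this, pow_succ, pow_succ, pow_two]; group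
  conjR _ hg _ hv := h.RR_conj hg hv
  iso _ hg _ hv _ ha := h.al_conj hA hg hv ha

theorem rk_of (h : CW Om U) (hA : IsA Om U A) : PW.Rk (RR Om U A) (al Om U) := by
  intro v hv
  obtain ⟨w, hw, h1⟩ := h.rk A hA v hv
  exact ⟨w, hw, lk_iff'.mpr h1⟩

theorem ne_one_of_RR (hv : v ∈ RR Om U A) : v ≠ 1 ∧ v * v ≠ 1 := by
  have h4 := hv.2.1
  constructor
  · rintro rfl; rw [orderOf_one] at h4; omega
  · intro h1
    have : orderOf v ∣ 2 := orderOf_dvd_of_pow_eq_one (by rw [pow_two, h1])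
    rw [h4] at this
    omega

/-- an element of order four in some `V_K` normalising `A` lies in `A` -/
theorem mem_of_norm (h : CVW Om U) (hA : IsA Om U A) (hK : K ∈ Om) (hv : v ∈ U K) (hv4 : orderOf v = 4)
    (hn : v ∈ normalizer (A : Set G)) : v ∈ RR Om U A := by
  have hz : IsPGroup 2 (zpowers v) := by
    rw [← h.U_eq hK hv hv4]
    exact (h.two K hK).to_le (h.vch.le K hK)
  have h2 : IsPGroup 2 (A ⊔ zpowers v : Subgroup G) :=
    (CVW.isA_two hA).to_sup_of_normal_left' hz (by rw [zpowers_le]; exact hn)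
  have h3 := h.WW_eq hA h2 le_sup_left
  have h4 : v ∈ RR Om U (A ⊔ zpowers v : Subgroup G) :=
    ⟨(le_sup_right : zpowers v ≤ A ⊔ zpowers v) (mem_zpowers v), hv4, K, hK, hv⟩
  have h5 : v ∈ WW Om U (A ⊔ zpowers v : Subgroup G) := subset_closure h4
  rw [h3] at h5
  exact ⟨h5, hv4, K, hK, hv⟩

/-- members over an involution of `A` are in `Om_A` -/
theorem ovr (h : CW Om U) (hA : IsA Om U A) (hK : K ∈ Om) (hv : v ∈ U K) (hv4 : orderOf v = 4)
    (hvv : v * v ∈ A) : v ∈ RR Om U A := by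
  have h1 : v * v ≠ 1 := by
    intro h1
    have : orderOf v ∣ 2 := orderOf_dvd_of_pow_eq_one (by rw [pow_two, h1])
    rw [hv4] at this
    omega
  have h2 : v * v * (v * v) = 1 := by
    have := pow_orderOf_eq_one v
    rw [hv4] at this
    rw [← this, pow_succ, pow_succ, pow_two]; group
  refine mem_of_norm h.toCVW hA hK hv hv4 (h.c1 A hA _ hvv h2 h1 ?_)
  rw [mem_centralizer_singleton_iff]; group

theorem RR_conj' (h : CVW Om U) (hv : v ∈ RR Om U A) (g : G) : g * v * g⁻¹ ∈ RR Om U (cj g A) :=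
  (h.RR_cj g).mp hv

theorem eq_of_RR (h : CW Om U) (hA : IsA Om U A) (hB : IsA Om U B) (hv : v ∈ RR Om U A)
    (hvB : v ∈ RR Om U B) : A = B := by
  by_contra hne
  have h1 : v ∈ A ⊓ B := ⟨hv.1, hvB.1⟩
  rw [h.c2 A B hA hB hne, mem_bot] at h1
  exact (ne_one_of_RR hv).1 h1

/-- an involution of `B ≠ A` centralises no root of `A` -/
theorem free (h : CW Om U) (hA : IsA Om U A) (hB : IsA Om U B) (hAB : A ≠ B) (ht : t ∈ B)
    (ht2 : t * t = 1) (ht1 : t ≠ 1) (hv : v ∈ RR Om U A) : t * v * t⁻¹ ≠ v := by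
  intro h1
  apply hAB
  obtain ⟨hvA, hv4, K, hK, hvK⟩ := hv
  refine eq_of_RR h hA hB ⟨hvA, hv4, K, hK, hvK⟩ (mem_of_norm h.toCVW hB hK hvK hv4 ?_)
  refine h.c1 B hB t ht ht2 ht1 ?_
  rw [mem_centralizer_singleton_iff]
  exact (mul_inv_eq_iff_eq_mul.mp h1).symm

/-- every member occurs in some `A` -/
theorem exists_isA (h : CVW Om U) (hK : K ∈ Om) : ∃ B, IsA Om U B ∧ ∃ n ∈ RR Om U B, n ∈ U K ∧ n * n = zz K := by
  obtain ⟨n, hn, hn4⟩ := h.exists_v hK
  have h1 : IsPGroup 2 (U K) := (h.two K hK).to_le (h.vch.le K hK)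
  obtain ⟨S, hS⟩ := h1.exists_le_sylow
  have h2 : n ∈ RR Om U (S : Subgroup G) := ⟨hS hn, hn4, K, hK, hn⟩
  refine ⟨WW Om U S, ⟨S, rfl⟩, n, ⟨subset_closure h2, hn4, K, hK, hn⟩, hn, h.sq_eq hK hn hn4⟩

/-- the conjugate of `A` containing `z_N` -/
theorem exists_B (h : CVW Om U) (hN : N ∈ Om) (hsA : zz N ∉ A) : ∃ B, IsA Om U B ∧ A ≠ B ∧
    ∃ n ∈ RR Om U B, n ∈ U N ∧ n * n = zz N := by
  obtain ⟨B, hB, n, hn, hnN, hnn⟩ := exists_isA h hN
  refine ⟨B, hB, ?_, n, hn, hnN, hnn⟩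
  rintro rfl
  exact hsA (hnn ▸ A.mul_mem hn.1 hn.1)

theorem zz_not_mem (h : CW Om U) (hA : IsA Om U A) (hB : IsA Om U B) (hAB : A ≠ B) (hv : v ∈ RR Om U B) :
    v * v ∉ A := by
  intro h1
  have h2 : v * v ∈ A ⊓ B := ⟨h1, B.mul_mem hv.1 hv.1⟩
  rw [h.c2 A B hA hB hAB, mem_bot] at h2
  exact (ne_one_of_RR hv).2 h2

theorem exists_zz (h : CVW Om U) (hv : v ∈ RR Om U A) : ∃ K ∈ Om, v ∈ U K ∧ v * v = zz K := by
  obtain ⟨hvA, hv4, K, hK, hvK⟩ := hv
  exact ⟨K, hK, hvK, h.sq_eq hK hvK hv4⟩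

theorem sq_sq (hv : v ∈ RR Om U A) : v * v * (v * v) = 1 := by
  have := pow_orderOf_eq_one v
  rw [hv.2.1] at this
  rw [← this, pow_succ, pow_succ, pow_two]; group

/-- `N(A)` is transitive on the lines of roots -/
theorem tr (h : CW Om U) (hA : IsA Om U A) (hv : v ∈ RR Om U A) (hw : w ∈ RR Om U A) :
    ∃ m ∈ normalizer (A : Set G), m * v * m⁻¹ = w ∨ m * v * m⁻¹ = w⁻¹ := by
  obtain ⟨hvA, hv4, K, hK, hvK⟩ := id hv
  obtain ⟨hwA, hw4, L, hL, hwL⟩ := id hw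
  obtain ⟨g, rfl⟩ := h.one K hK L hL
  have h1 := h.vch.conj_mem hK hvK g
  have h2 := h.eq_or_inv hL hwL hw4 h1 (orderOf_conj_four hv4 g)
  refine ⟨g, ?_, h2⟩
  have h3 := RR_conj' h.toCVW hv g
  have h4 : w ∈ RR Om U (cj g A) := by
    rcases h2 with h2 | h2
    · rwa [← h2]
    · rw [← inv_inv w, ← h2]; exact CVW.RR_inv h3
  rw [mem_normalizer_iff_cj]
  exact (eq_of_RR h hA (h.isA_cj hA g) hw h4).symm

/-- **(s1)-(s3)** for `s = z_N ∈ N(A) - A` -/
theorem good (h : CW Om U) (hA : IsA Om U A) (hN : N ∈ Om) (hs : zz N ∈ normalizer (A : Set G))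
    (hsA : zz N ∉ A) : PW.Gd (RR Om U A) (al Om U) (zz N) := by
  have hs2 : zz N * zz N = 1 := h.hyp.zz_mul hN
  have hsi : (zz N)⁻¹ = zz N := h.hyp.zz_inv hN
  have one : ∀ v ∈ RR Om U A, zz N * v * (zz N)⁻¹ ≠ v := by
    obtain ⟨B, hB, hAB, n, hn, hnN, hnn⟩ := exists_B h.toCVW hN hsA
    intro v hv
    exact free h hA hB hAB (hnn ▸ B.mul_mem hn.1 hn.1) hs2 (h.hyp.zz_ne hN) hv
  refine ⟨one, ?_, ?_⟩
  · intro v hv w hw h1 h2 h3
    rw [lk_iff'] at h3
    exact (h.inverted hA hN hs hv hw h3.1 h3.2 h1).2.1 h2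
  · intro v hv h1
    set w := zz N * v * (zz N)⁻¹ with hw
    have hwR : w ∈ RR Om U A := h.RR_conj hs hv
    have hsw : zz N * w * (zz N)⁻¹ = v := by
      rw [hw, hsi]
      calc zz N * (zz N * v * zz N) * zz N = (zz N * zz N) * v * (zz N * zz N) := by group
        _ = v := by rw [hs2]; group
    have hsym : al Om U w v = al Om U v w := by
      have := h.al_conj hA hs hv hwR.1
      rw [hsw] at this
      exact this
    have hP := pw_of h.toCVW hA
    rcases h1 with h1 | h1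
    · -- `u = w v⁻¹` is inverted
      have hu : w * v⁻¹ ∈ RR Om U A := hP.sub v hv w hwR h1
      have hu2 : zz N * (w * v⁻¹) * (zz N)⁻¹ = (w * v⁻¹)⁻¹ := by
        have h3 : zz N * v⁻¹ * (zz N)⁻¹ = w⁻¹ := by rw [hw]; group
        calc zz N * (w * v⁻¹) * (zz N)⁻¹ = (zz N * w * (zz N)⁻¹) * (zz N * v⁻¹ * (zz N)⁻¹) := by group
          _ = v * w⁻¹ := by rw [hsw, h3]
          _ = (w * v⁻¹)⁻¹ := by group
      have h4 : al Om U (w * v⁻¹) v = -1 := by
        rw [hP.f_sub v hv w hwR h1 v hv.1, hsym, h1, hP.self v hv]; decide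
      have h5 := (h.inverted hA hN hs hu hv (by rw [h4]; decide) (by rw [h4]; decide) hu2).2.2.1
      apply h5
      rw [rf, h4, neg_neg, pw_one, ← hw]
      have h6 := h.comm hA hwR.1 (A.inv_mem hv.1)
      rw [h6, mul_inv_cancel_left]
    · -- `u = w v` is fixed
      have hu : w * v ∈ RR Om U A := by
        have h3 := hP.sub v⁻¹ (CVW.RR_inv hv) w hwR (by rw [hP.f_inv v hv w hwR.1, h1, neg_neg])
        rwa [inv_inv] at h3
      apply one _ hu
      calc zz N * (w * v) * (zz N)⁻¹ = (zz N * w * (zz N)⁻¹) * (zz N * v * (zz N)⁻¹) := by group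
        _ = w * v := by rw [hsw, ← hw]; exact h.comm hA hv.1 hwR.1

/-- elements of `N_A(B)` and `N_B(A)` commute -/
theorem comm_of_norm (h : CW Om U) (hA : IsA Om U A) (hB : IsA Om U B) (hAB : A ≠ B) {u b : G}
    (hu : u ∈ A) (huB : u ∈ normalizer (B : Set G)) (hb : b ∈ B) (hbA : b ∈ normalizer (A : Set G)) :
    u * b = b * u := by
  have h1 : u * b * u⁻¹ * b⁻¹ ∈ A ⊓ B := by
    constructor
    · have h2 := (mem_normalizer_iff.mp hbA u⁻¹).mp (A.inv_mem hu)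
      have h3 := A.mul_mem hu h2
      have h4 : u * (b * u⁻¹ * b⁻¹) = u * b * u⁻¹ * b⁻¹ := by group
      rwa [h4] at h3
    · exact B.mul_mem ((mem_normalizer_iff.mp huB b).mp hb) (B.inv_mem hb)
  rw [h.c2 A B hA hB hAB, mem_bot, mul_inv_eq_one, mul_inv_eq_iff_eq_mul] at h1
  exact h1

/-- `C_B(A) = 1` -/
theorem inf_centralizer (h : CW Om U) (hA : IsA Om U A) (hB : IsA Om U B) (hAB : A ≠ B)
    (hv : v ∈ RR Om U A) {b : G} (hb : b ∈ B) (hbA : ∀ a ∈ A, b * a = a * b) : b = 1 := by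
  by_contra hb1
  have h4 := h.pow_four hB hb
  -- an involution among the powers
  obtain ⟨t, ht, ht2, ht1, htA⟩ : ∃ t ∈ B, t * t = 1 ∧ t ≠ 1 ∧ ∀ a ∈ A, t * a = a * t := by
    by_cases h2 : b * b = 1
    · exact ⟨b, hb, h2, hb1, hbA⟩
    · refine ⟨b * b, B.mul_mem hb hb, ?_, h2, fun a ha => ?_⟩
      · rw [← h4, pow_succ, pow_succ, pow_two]; group
      · rw [mul_assoc, hbA a ha, ← mul_assoc, hbA a ha, mul_assoc]
  exact free h hA hB hAB ht ht2 ht1 hv (by rw [htA v hv.1, mul_inv_cancel_right])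

/-- the number of roots over `z` is constant -/
theorem card_over_eq (h : CW Om U) (hA : IsA Om U A) (hB : IsA Om U B) (hv : v ∈ RR Om U A)
    (hw : w ∈ RR Om U B) : Nat.card {k : G // k ∈ RR Om U A ∧ k * k = v * v} =
      Nat.card {k : G // k ∈ RR Om U B ∧ k * k = w * w} := by
  -- reduce to `B = A` by conjugation
  have key : ∀ {A B : Subgroup G} {v w : G} (g : G), IsA Om U A → IsA Om U B → v ∈ RR Om U A →
      w ∈ RR Om U B → g * v * g⁻¹ * (g * v * g⁻¹) = w * w →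
      Nat.card {k : G // k ∈ RR Om U A ∧ k * k = v * v} ≤
      Nat.card {k : G // k ∈ RR Om U B ∧ k * k = w * w} := by
    intro A B v w g hA hB hv hw hgg
    have hmem : ∀ k : G, k ∈ RR Om U A ∧ k * k = v * v →
        g * k * g⁻¹ ∈ RR Om U B ∧ (g * k * g⁻¹) * (g * k * g⁻¹) = w * w := by
      rintro k ⟨hk, hkk⟩
      have h1 : (g * k * g⁻¹) * (g * k * g⁻¹) = w * w := by
        rw [← hgg]
        calc (g * k * g⁻¹) * (g * k * g⁻¹) = g * (k * k) * g⁻¹ := by group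
          _ = g * (v * v) * g⁻¹ := by rw [hkk]
          _ = _ := by group
      have h2 := RR_conj' h.toCVW hk g
      obtain ⟨-, h24, L, hL, hkL⟩ := h2
      exact ⟨ovr h hB hL hkL h24 (by rw [h1]; exact B.mul_mem hw.1 hw.1), h1⟩
    refine Nat.card_le_card_of_injective
      (fun k : {k : G // k ∈ RR Om U A ∧ k * k = v * v} =>
        (⟨g * k.1 * g⁻¹, hmem k.1 k.2⟩ : {k : G // k ∈ RR Om U B ∧ k * k = w * w})) ?_
    intro a b hab
    have h3 : g * a.1 * g⁻¹ = g * b.1 * g⁻¹ := congrArg Subtype.val hab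
    exact Subtype.ext (mul_left_cancel (mul_right_cancel h3))
  obtain ⟨hvA, hv4, K, hK, hvK⟩ := id hv
  obtain ⟨hwB, hw4, L, hL, hwL⟩ := id hw
  obtain ⟨g, rfl⟩ := h.one K hK L hL
  have h1 := h.vch.conj_mem hK hvK g
  have h2 : g * v * g⁻¹ * (g * v * g⁻¹) = w * w := by
    rw [h.sq_eq hL h1 (orderOf_conj_four hv4 g), h.sq_eq hL hwL hw4]
  refine le_antisymm (key g hA hB hv hw h2) (key g⁻¹ hB hA hw hv ?_)
  rw [inv_inv]
  calc g⁻¹ * w * g * (g⁻¹ * w * g) = g⁻¹ * (w * w) * g := by group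
    _ = g⁻¹ * (g * v * g⁻¹ * (g * v * g⁻¹)) * g := by rw [h2]
    _ = v * v := by group

/-- **(3a)** -/
theorem card_fix_le (h : CW Om U) (hA : IsA Om U A) (hN : N ∈ Om) (hsA : zz N ∉ A)
    (hv : v ∈ RR Om U A) :
    Nat.card {u : G // u ∈ A ∧ u * u = 1 ∧ zz N * u * (zz N)⁻¹ = u} ≤
      Nat.card {k : G // k ∈ RR Om U A ∧ k * k = v * v} := by
  obtain ⟨B, hB, hAB, n, hn, hnN, hnn⟩ := exists_B h.toCVW hN hsA
  rw [card_over_eq h hA hB hv hn]
  have hs2 : zz N * zz N = 1 := h.hyp.zz_mul hN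
  have hcm : ∀ u : G, zz N * u * (zz N)⁻¹ = u → u * zz N = zz N * u := fun u hu =>
    (mul_inv_eq_iff_eq_mul.mp hu).symm
  have hmem : ∀ u : G, u ∈ A ∧ u * u = 1 ∧ zz N * u * (zz N)⁻¹ = u →
      u * n * u⁻¹ ∈ RR Om U B ∧ (u * n * u⁻¹) * (u * n * u⁻¹) = n * n := by
    rintro u ⟨hu, hu2, hus⟩
    have huB : u ∈ normalizer (B : Set G) := by
      refine h.c1 B hB (zz N) (hnn ▸ B.mul_mem hn.1 hn.1) hs2 (h.hyp.zz_ne hN) ?_
      rw [mem_centralizer_singleton_iff]; exact hcm u hus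
    refine ⟨h.RR_conj huB hn, ?_⟩
    calc (u * n * u⁻¹) * (u * n * u⁻¹) = u * (n * n) * u⁻¹ := by group
      _ = n * n := by rw [hnn, hcm u hus, mul_inv_cancel_right]
  refine Nat.card_le_card_of_injective
    (fun u : {u : G // u ∈ A ∧ u * u = 1 ∧ zz N * u * (zz N)⁻¹ = u} =>
      (⟨u.1 * n * u.1⁻¹, hmem u.1 u.2⟩ : {k : G // k ∈ RR Om U B ∧ k * k = n * n})) ?_
  intro a b hab
  have h3 : a.1 * n * a.1⁻¹ = b.1 * n * b.1⁻¹ := congrArg Subtype.val hab
  apply Subtype.ext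
  by_contra hne
  -- `t = b⁻¹ a ∈ A` is an involution centralising `n`
  have ht : b.1⁻¹ * a.1 ∈ A := A.mul_mem (A.inv_mem b.2.1) a.2.1
  have hcab := h.comm hA a.2.1 b.2.1
  have hbi : b.1⁻¹ = b.1 := inv_eq_of_mul_eq_one_left b.2.2.1
  have ht2 : (b.1⁻¹ * a.1) * (b.1⁻¹ * a.1) = 1 := by
    rw [hbi]
    calc b.1 * a.1 * (b.1 * a.1) = b.1 * (a.1 * b.1) * a.1 := by group
      _ = b.1 * (b.1 * a.1) * a.1 := by rw [hcab]
      _ = (b.1 * b.1) * (a.1 * a.1) := by group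
      _ = 1 := by rw [a.2.2.1, b.2.2.1, one_mul]
  have ht1 : b.1⁻¹ * a.1 ≠ 1 := by
    intro h4
    exact hne (inv_mul_eq_one.mp h4).symm
  refine free h hB hA (Ne.symm hAB) ht ht2 ht1 hn ?_
  calc b.1⁻¹ * a.1 * n * (b.1⁻¹ * a.1)⁻¹ = b.1⁻¹ * (a.1 * n * a.1⁻¹) * b.1 := by group
    _ = b.1⁻¹ * (b.1 * n * b.1⁻¹) * b.1 := by rw [h3]
    _ = n := by group

/-- all bonds are A2, or every root has a G2 bond -/
theorem al_or (h : CW Om U) (hA : IsA Om U A) :
    (∀ v ∈ RR Om U A, ∀ w ∈ RR Om U A, al Om U v w = al Om U w v) ∨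
      ∀ v ∈ RR Om U A, ∃ w ∈ RR Om U A, al Om U v w = 1 ∧ al Om U w v = -1 := by
  have hP := pw_of h.toCVW hA
  by_cases hs : ∀ v ∈ RR Om U A, ∀ w ∈ RR Om U A, al Om U v w = al Om U w v
  · exact Or.inl hs
  right
  push Not at hs
  obtain ⟨v, hv, w, hw, hne⟩ := hs
  -- a G2 bond at `v`
  have h0 : al Om U v w ≠ 0 := fun h0 => hne (by rw [h0, hP.zero v hv w hw h0])
  have h2 : al Om U v w ≠ 2 := by
    intro h2
    apply hne
    rw [h2, h.al_two_symm hA hv hw h2]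
  have h3 : al Om U w v = -al Om U v w := by
    rcases h.al_odd_symm hA hv hw h0 h2 with h3 | h3
    · exact absurd h3.symm hne
    · exact h3
  have gv : ∃ w ∈ RR Om U A, al Om U v w = 1 ∧ al Om U w v = -1 := by
    have h4 : al Om U v w = 1 ∨ al Om U v w = -1 := lk_iff'.mpr ⟨h0, h2⟩
    rcases h4 with h4 | h4
    · exact ⟨w, hw, h4, by rw [h3, h4]⟩
    · refine ⟨w⁻¹, CVW.RR_inv hw, ?_, ?_⟩
      · rw [h.al_inv hA hv hw.1, h4, neg_neg]
      · rw [h.al_neg hA hw hv.1, h3, h4, neg_neg]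
  obtain ⟨w, hw, g1, g2⟩ := gv
  intro x hx
  obtain ⟨m, hm, h5 | h5⟩ := tr h hA hv hx
  · refine ⟨m * w * m⁻¹, h.RR_conj hm hw, ?_, ?_⟩
    · rw [← h5, h.al_conj hA hm hv hw.1, g1]
    · rw [← h5, h.al_conj hA hm hw hv.1, g2]
  · have h6 : m * v⁻¹ * m⁻¹ = x := by
      rw [← inv_inv x, ← h5]; group
    refine ⟨m * w⁻¹ * m⁻¹, h.RR_conj hm (CVW.RR_inv hw), ?_, ?_⟩
    · rw [← h6, h.al_conj hA hm (CVW.RR_inv hv) (A.inv_mem hw.1), h.al_neg hA hv (A.inv_mem hw.1),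
        h.al_inv hA hv hw.1, g1, neg_neg]
    · rw [← h6, h.al_conj hA hm (CVW.RR_inv hw) (A.inv_mem hv.1), h.al_neg hA hw (A.inv_mem hv.1),
        h.al_inv hA hw hv.1, g2, neg_neg]

theorem al_alt (h : CW Om U) (hA : IsA Om U A) : PW.Al A (RR Om U A) (al Om U) := by
  rcases al_or h hA with h1 | h1
  · exact Or.inl ⟨h1, CVW.WW_self hA⟩
  · exact Or.inr h1

end Cfsg.Agent.Cit.Nil.CV3
end

-- part: Cit/Nil/CV3/End
section
set_option linter.all false
open scoped Cfsg.Agent.FastGrp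

/-!
# (CV), section 3: the end (S1309)

* `g2_dead` : G2 bonds;
* `swap_dead` : (3e), `s` moves every component;
* `no_s_of` : no `s = z_N` in `N(A) - A`, given `(T1)` (helper542).
-/

set_option autoImplicit false
set_option linter.style.haveILetI false
set_option linter.unusedSectionVars false

namespace Cfsg.Agent.Cit.Nil.CV3

open Subgroup Cfsg Cit Cit.CV

variable {G : Type*} [Group G] [Finite G]
variable {Om : Set (Subgroup G)} {U : Subgroup G → Subgroup G} {A B K L N : Subgroup G} {a e g s t v w x y : G}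

/-- same component of `Om_A` -/
abbrev Cm (Om : Set (Subgroup G)) (U : Subgroup G → Subgroup G) (A : Subgroup G) (v w : G) : Prop :=
  PW.Cn (RR Om U A) (al Om U) v w

/-- equivariance of `al` -/
theorem al_cj (h : CVW Om U) (hA : IsA Om U A) (hv : v ∈ RR Om U A) (ha : a ∈ A) (g : G) :
    al Om U (g * v * g⁻¹) (g * a * g⁻¹) = al Om U v a := by
  have hv' := RR_conj' h hv g
  obtain ⟨hvA, hv4, K, hK, hvK⟩ := hv
  obtain ⟨y, hy, hyX⟩ := h.exists_y hK
  refine h.al_eq (h.isA_cj hA g) (h.hyp.conj K hK g) (h.vch.conj_mem hK hvK g) (orderOf_conj_four hv4 g) hv'.1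
    (conj_mem_cj hy) (fun hh => hyX ((Tau.conj_mem_XX (h.vch.cj K hK g)).mp hh)) (conj_mem_cj ha) ?_
  have h1 := h.al_spec hA hK hvK hv4 hvA hy hyX ha
  calc g * y * g⁻¹ * (g * a * g⁻¹) * (g * y * g⁻¹)⁻¹ = g * (y * a * y⁻¹) * g⁻¹ := by group
    _ = g * a * g⁻¹ * (g * pw v (-al Om U v a) * g⁻¹) := by rw [h1]; group
    _ = g * a * g⁻¹ * pw (g * v * g⁻¹) (-al Om U v a) := by rw [conj_pw]

theorem Cm_cj (h : CVW Om U) (hA : IsA Om U A) (g : G) (hc : Cm Om U A v w) :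
    Cm Om U (cj g A) (g * v * g⁻¹) (g * w * g⁻¹) := by
  induction hc with
  | refl => exact PW.Cn.refl _
  | tail _ hb ih =>
    refine ih.trans (Relation.ReflTransGen.single ⟨RR_conj' h hb.1 g, RR_conj' h hb.2.1 g, ?_⟩)
    rw [al_cj h hA hb.1 hb.2.1.1]
    exact hb.2.2

theorem sq_conj {g v : G} : (g * v * g⁻¹) * (g * v * g⁻¹) = g * (v * v) * g⁻¹ := by group

/-- `g ∈ N(A)` fixing `z_v` fixes the component of `v` -/
theorem Cm_of_fix (h : CW Om U) (hA : IsA Om U A) (hg : g ∈ normalizer (A : Set G))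
    (hv : v ∈ RR Om U A) (hf : g * (v * v) * g⁻¹ = v * v) : Cm Om U A v (g * v * g⁻¹) :=
  (pw_of h.toCVW hA).cn_of_twin (rk_of h hA) hv (h.RR_conj hg hv) (by rw [sq_conj, hf])

theorem conj_conj (hg : g * g = 1) (x : G) : g * (g * x * g⁻¹) * g⁻¹ = x := by
  calc g * (g * x * g⁻¹) * g⁻¹ = (g * g) * x * (g * g)⁻¹ := by group
    _ = x := by rw [hg]; group

section G2

variable (h : CW Om U) (hA : IsA Om U A) (hv : v ∈ RR Om U A) (hw : w ∈ RR Om U A)
  (h1 : al Om U v w = 1) (h2 : al Om U w v = -1)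
include h hA hv hw h1 h2

theorem twin_sq : (v * (w * w)) * (v * (w * w)) = v * v := by
  have hc := h.comm hA (A.mul_mem hw.1 hw.1) hv.1
  calc v * (w * w) * (v * (w * w)) = v * ((w * w) * v) * (w * w) := by group
    _ = v * (v * (w * w)) * (w * w) := by rw [hc]
    _ = v * v * (w * w * (w * w)) := by group
    _ = v * v := by rw [sq_sq hw, mul_one]

/-- in a G2 component a good involution normalising it fixes the `z`'s -/
theorem g2_fix (hg : g ∈ normalizer (A : Set G)) (hg2 : g * g = 1)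
    (hd : PW.Gd (RR Om U A) (al Om U) g) (hc : Cm Om U A v (g * v * g⁻¹)) :
    g * (v * v) * g⁻¹ = v * v := by
  rw [← sq_conj]
  rcases (pw_of h.toCVW hA).gb_good hv hw h1 h2 hg hg2 hd hc with h3 | h3
  · rw [h3, twin_sq h hA hv hw h1 h2]
  · rw [h3, ← mul_inv_rev, twin_sq h hA hv hw h1 h2]
    have h4 : v * v * (v * v) = 1 := sq_sq hv
    exact inv_eq_of_mul_eq_one_left h4

theorem twin_ne : v * (w * w) ≠ v ∧ v * (w * w) ≠ v⁻¹ := by
  constructor
  · intro h3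
    exact (ne_one_of_RR hw).2 (mul_eq_left.mp h3)
  · intro h3
    have h4 : v * v * (w * w) = 1 := by
      calc v * v * (w * w) = v * (v * (w * w)) := by group
        _ = 1 := by rw [h3, mul_inv_cancel]
    have h5 : al Om U w (v * v * (w * w)) = 0 := by rw [h4, h.al_one hA hw]
    rw [h.al_mul hA hw (A.mul_mem hv.1 hv.1) (A.mul_mem hw.1 hw.1), h.al_mul hA hw hv.1 hv.1,
      h.al_mul hA hw hw.1 hw.1, h2, h.al_self hA hw] at h5
    exact absurd h5 (by decide)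

end G2

/-- **G2 bonds are dead** -/
theorem g2_dead (h : CW Om U) (hA : IsA Om U A)
    (hG : ∀ v ∈ RR Om U A, ∃ w ∈ RR Om U A, al Om U v w = 1 ∧ al Om U w v = -1)
    (hN : N ∈ Om) (hs : zz N ∈ normalizer (A : Set G)) (hsA : zz N ∉ A) (hv : v ∈ RR Om U A)
    (hc : Cm Om U A v (zz N * v * (zz N)⁻¹)) : False := by
  obtain ⟨w, hw, h1, h2⟩ := hG v hv
  have hP := pw_of h.toCVW hA
  have hs2 : zz N * zz N = 1 := h.hyp.zz_mul hN
  have hgood := good h hA hN hs hsA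
  have hfix := g2_fix h hA hv hw h1 h2 hs hs2 hgood hc
  obtain ⟨B, hB, hAB, n, hn, hnN, hnn⟩ := exists_B h.toCVW hN hsA
  obtain ⟨K, hK, hvK, hvv⟩ := exists_zz h.toCVW hv
  have hsB : zz N ∈ B := hnn ▸ B.mul_mem hn.1 hn.1
  -- `e = v²`
  have he2 : zz K * zz K = 1 := h.hyp.zz_mul hK
  have hcomm : zz K * zz N = zz N * zz K := by
    rw [← hvv]; exact (mul_inv_eq_iff_eq_mul.mp hfix).symm
  have heB : zz K ∈ normalizer (B : Set G) := by
    refine h.c1 B hB (zz N) hsB hs2 (h.hyp.zz_ne hN) ?_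
    rw [mem_centralizer_singleton_iff]; exact hcomm
  have heB' : zz K ∉ B := by rw [← hvv]; exact zz_not_mem h hB hA (Ne.symm hAB) hv
  have hgoodB := good h hB hK heB heB'
  have hPB := pw_of h.toCVW hB
  -- the G2 bond at `n`
  have hGB : ∀ v ∈ RR Om U B, ∃ w ∈ RR Om U B, al Om U v w = 1 ∧ al Om U w v = -1 := by
    rcases al_or h hB with h3 | h3
    · exfalso
      obtain ⟨g, rfl⟩ := CVW.isA_conj hA h.toCVW hB
      have h4 := h3 _ (RR_conj' h.toCVW hv g) _ (RR_conj' h.toCVW hw g)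
      rw [al_cj h.toCVW hA hv hw.1, al_cj h.toCVW hA hw hv.1, h1, h2] at h4
      exact absurd h4 (by decide)
    · exact h3
  obtain ⟨n', hn', k1, k2⟩ := hGB n hn
  -- `e` fixes `z_n = s`, hence also `z_{n'}`
  have hcn : Cm Om U B n (zz K * n * (zz K)⁻¹) := by
    refine Cm_of_fix h hB heB hn ?_
    rw [hnn, hcomm, mul_inv_cancel_right]
  have hcnn' : Cm Om U B n n' := Relation.ReflTransGen.single ⟨hn, hn', by rw [k1]; decide⟩
  have hcn' : Cm Om U B n' (zz K * n' * (zz K)⁻¹) :=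
    ((PW.Cn.symm hPB hcnn').trans hcn).trans (hcnn'.conj hPB heB)
  have hni := CVW.RR_inv hn
  have fn' : zz K * (n' * n') * (zz K)⁻¹ = n' * n' := by
    refine g2_fix h hB hn' hni ?_ ?_ heB he2 hgoodB hcn'
    · rw [h.al_inv hB hn' hn.1, k2, neg_neg]
    · rw [h.al_neg hB hn hn'.1, k1]
  have fc' : (n' * n') * zz K = zz K * (n' * n') := (mul_inv_eq_iff_eq_mul.mp fn').symm
  -- `s' = n'²`, `s'' = (n n')² = s s'`
  obtain ⟨N', hN', hn'N, hn'n⟩ := exists_zz h.toCVW hn'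
  have hnn'R : n * n' ∈ RR Om U B := by
    have h3 := hPB.sub n'⁻¹ (CVW.RR_inv hn') n hn (by rw [hPB.f_inv n' hn' n hn.1, k2, neg_neg])
    rwa [inv_inv] at h3
  obtain ⟨M, hM, hnM, hnn'⟩ := exists_zz h.toCVW hnn'R
  have hzM : zz M = zz N * zz N' := by
    rw [← hnn', ← hnn, ← hn'n]
    have := h.comm hB hn'.1 hn.1
    calc n * n' * (n * n') = n * (n' * n) * n' := by group
      _ = n * (n * n') * n' := by rw [this]
      _ = n * n * (n' * n') := by group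
  have hs'c : zz N' * zz K = zz K * zz N' := by rw [← hn'n]; exact fc'
  have cA : ∀ z : G, z * zz K = zz K * z → z ∈ normalizer (A : Set G) := by
    intro z hz
    refine h.c1 A hA (zz K) (hvv ▸ A.mul_mem hv.1 hv.1) he2 (h.hyp.zz_ne hK) ?_
    rw [mem_centralizer_singleton_iff]; exact hz
  have hs' : zz N' ∈ normalizer (A : Set G) := cA _ hs'c
  have hs'A : zz N' ∉ A := by rw [← hn'n]; exact zz_not_mem h hA hB hAB hn'
  have hsM : zz M ∈ normalizer (A : Set G) := by rw [hzM]; exact mul_mem hs hs'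
  have hsMA : zz M ∉ A := by rw [← hnn']; exact zz_not_mem h hA hB hAB hnn'R
  have fixv : ∀ z : G, z * zz K = zz K * z → z * (v * v) * z⁻¹ = v * v := by
    intro z hz
    rw [hvv, hz, mul_inv_cancel_right]
  have hMc : zz M * zz K = zz K * zz M := by
    rw [hzM, mul_assoc, hs'c, ← mul_assoc, ← hcomm, mul_assoc]
  have a1 := hP.gb_good hv hw h1 h2 hs hs2 hgood hc
  have a2 := hP.gb_good hv hw h1 h2 hs' (h.hyp.zz_mul hN') (good h hA hN' hs' hs'A)
    (Cm_of_fix h hA hs' hv (fixv _ hs'c))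
  have a3 := hP.gb_good hv hw h1 h2 hsM (h.hyp.zz_mul hM) (good h hA hM hsM hsMA)
    (Cm_of_fix h hA hsM hv (fixv _ hMc))
  -- `s'' v s''⁻¹ = v^{±1}`
  have b1 : zz N * (v * (w * w)) * (zz N)⁻¹ = v ∨ zz N * (v * (w * w)) * (zz N)⁻¹ = v⁻¹ := by
    rcases a1 with a1 | a1
    · left; rw [← a1]; exact conj_conj hs2 v
    · right
      have h3 : v * (w * w) = (zz N * v * (zz N)⁻¹)⁻¹ := by rw [a1, inv_inv]
      have h4 := conj_conj hs2 v
      have h5 : ∀ y : G, zz N * y⁻¹ * (zz N)⁻¹ = (zz N * y * (zz N)⁻¹)⁻¹ := fun y => by group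
      rw [h3, h5, h4]
  have b2 : zz M * v * (zz M)⁻¹ = v ∨ zz M * v * (zz M)⁻¹ = v⁻¹ := by
    have h3 : zz M * v * (zz M)⁻¹ = zz N * (zz N' * v * (zz N')⁻¹) * (zz N)⁻¹ := by
      rw [hzM]; group
    rw [h3]
    rcases a2 with a2 | a2 <;> rw [a2]
    · exact b1
    · have h4 : zz N * (v * (w * w))⁻¹ * (zz N)⁻¹ = (zz N * (v * (w * w)) * (zz N)⁻¹)⁻¹ := by group
      rw [h4]
      rcases b1 with b1 | b1 <;> rw [b1]
      · exact Or.inr rfl
      · left; rw [inv_inv]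
  obtain ⟨c1, c2⟩ := twin_ne h hA hv hw h1 h2
  rcases a3 with a3 | a3 <;> rcases b2 with b2 | b2 <;> rw [a3] at b2
  · exact c1 b2
  · exact c2 b2
  · exact c2 (inv_eq_iff_eq_inv.mp b2)
  · exact c1 (inv_injective b2)

/-- **(3e)** `s` moves every component -/
theorem swap_dead (h : CW Om U)
    (hI : ∀ (A : Subgroup G), IsA Om U A → ∀ N ∈ Om, zz N ∈ normalizer (A : Set G) → zz N ∉ A →
      ∀ v ∈ RR Om U A, ¬ Cm Om U A v (zz N * v * (zz N)⁻¹))
    (hA : IsA Om U A) (hN : N ∈ Om) (hs : zz N ∈ normalizer (A : Set G)) (hsA : zz N ∉ A) : False := by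
  have hP := pw_of h.toCVW hA
  have hs2 : zz N * zz N = 1 := h.hyp.zz_mul hN
  have hmv := hI A hA N hN hs hsA
  obtain ⟨B, hB, hAB, n, hn, hnN, hnn⟩ := exists_B h.toCVW hN hsA
  have hPB := pw_of h.toCVW hB
  have hsB : zz N ∈ B := hnn ▸ B.mul_mem hn.1 hn.1
  obtain ⟨x, hx⟩ := CVW.isA_conj hA h.toCVW hB
  -- a root of `A`
  have hxi : ∀ y : G, y ∈ RR Om U B → x⁻¹ * y * x ∈ RR Om U A := by
    intro y hy
    have h3 := RR_conj' h.toCVW hy x⁻¹
    rw [hx, cj_inv_cj, inv_inv] at h3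
    exact h3
  set g0 := x⁻¹ * n * x with hg0d
  have hg0 : g0 ∈ RR Om U A := hxi n hn
  have hsg0 := h.RR_conj hs hg0
  -- two components
  have two : ∀ w ∈ RR Om U A, Cm Om U A g0 w ∨ Cm Om U A (zz N * g0 * (zz N)⁻¹) w := by
    intro w hw
    by_contra hno
    push Not at hno
    have h3 := hP.sixteen (rk_of h hA) hs hs2 hg0 hw (hmv g0 hg0) (hmv w hw) hno.1 hno.2
    have h4 := card_fix_le h hA hN hsA hg0
    have h5 := hP.card_le (al_alt h hA) (rk_of h hA) hg0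
    omega
  -- `e`
  set z := g0 * g0 with hz
  have hzA : z ∈ A := A.mul_mem hg0.1 hg0.1
  have hz2 : z * z = 1 := sq_sq hg0
  set z' := zz N * z * (zz N)⁻¹ with hz'
  have hz'A : z' ∈ A := (mem_normalizer_iff.mp hs z).mp hzA
  have hz'2 : z' * z' = 1 := by rw [hz', sq_conj, hz2]; group
  have hzz' : z * z' = z' * z := h.comm hA hzA hz'A
  have he2 : z * z' * (z * z') = 1 := by
    calc z * z' * (z * z') = z * (z' * z) * z' := by group
      _ = z * (z * z') * z' := by rw [hzz']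
      _ = (z * z) * (z' * z') := by group
      _ = 1 := by rw [hz2, hz'2, one_mul]
  have he1 : z * z' ≠ 1 := by
    intro h3
    have h4 : z' = z := by
      have h5 : z' = z⁻¹ := eq_inv_of_mul_eq_one_right h3
      rw [h5]; exact inv_eq_of_mul_eq_one_left hz2
    exact hmv g0 hg0 (Cm_of_fix h hA hs hg0 h4)
  have hes : zz N * (z * z') * (zz N)⁻¹ = z * z' := by
    calc zz N * (z * z') * (zz N)⁻¹ = (zz N * z * (zz N)⁻¹) * (zz N * z' * (zz N)⁻¹) := by group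
      _ = z' * z := by rw [hz', conj_conj hs2]
      _ = z * z' := hzz'.symm
  have heA : z * z' ∈ A := A.mul_mem hzA hz'A
  set e := z * z' with he
  have hesc : e * zz N = zz N * e := (mul_inv_eq_iff_eq_mul.mp hes).symm
  have heB : e ∈ normalizer (B : Set G) := by
    refine h.c1 B hB (zz N) hsB hs2 (h.hyp.zz_ne hN) ?_
    rw [mem_centralizer_singleton_iff]; exact hesc
  -- components of `B`
  have toA : ∀ {y y' : G}, Cm Om U B y y' → Cm Om U A (x⁻¹ * y * x) (x⁻¹ * y' * x) := by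
    intro y y' hy
    have h3 := Cm_cj h.toCVW hB x⁻¹ hy
    rw [hx, cj_inv_cj, inv_inv] at h3
    exact h3
  have toB : ∀ {y y' : G}, Cm Om U A y y' → Cm Om U B (x * y * x⁻¹) (x * y' * x⁻¹) := by
    intro y y' hy
    have h3 := Cm_cj h.toCVW hA x hy
    rw [← hx] at h3
    exact h3
  have back : ∀ y : G, x * (x⁻¹ * y * x) * x⁻¹ = y := fun y => by group
  set n' := x * (zz N * g0 * (zz N)⁻¹) * x⁻¹ with hn'd
  have hn' : n' ∈ RR Om U B := by
    have h3 := RR_conj' h.toCVW hsg0 x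
    rwa [← hx] at h3
  have hnn' : ¬ Cm Om U B n n' := by
    intro h3
    have h4 := toA h3
    have h5 : x⁻¹ * n' * x = zz N * g0 * (zz N)⁻¹ := by rw [hn'd]; group
    rw [h5] at h4
    exact hmv g0 hg0 h4
  have twoB : ∀ y ∈ RR Om U B, Cm Om U B n y ∨ Cm Om U B n' y := by
    intro y hy
    rcases two _ (hxi y hy) with h3 | h3
    · left
      have h4 := toB h3
      rwa [hg0d, back, back] at h4
    · right
      have h4 := toB h3
      rwa [back] at h4
  -- `e` normalises the component of `n'`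
  have hee : ∀ y : G, e * (e * y * e⁻¹) * e⁻¹ = y := conj_conj he2
  have hcn : Cm Om U B n (e * n * e⁻¹) := by
    refine Cm_of_fix h hB heB hn ?_
    rw [hnn, hesc, mul_inv_cancel_right]
  have hcn' : Cm Om U B n' (e * n' * e⁻¹) := by
    rcases twoB _ (h.RR_conj heB hn') with h3 | h3
    · exfalso
      have h4 := h3.conj hPB heB
      rw [hee] at h4
      exact hnn' (hcn.trans h4)
    · exact h3
  obtain ⟨m, hm, hn'm, hem⟩ := hPB.fix_z (al_alt h hB) heB he2 hn' hcn'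
  obtain ⟨N2, hN2, hmN2, hmm⟩ := exists_zz h.toCVW hm
  have hc2 : zz N2 * e = e * zz N2 := by
    rw [← hmm]; exact (mul_inv_eq_iff_eq_mul.mp hem).symm
  have ht : zz N2 ∈ normalizer (A : Set G) := by
    refine h.c1 A hA e heA he2 he1 ?_
    rw [mem_centralizer_singleton_iff]; exact hc2
  have htA : zz N2 ∉ A := by rw [← hmm]; exact zz_not_mem h hA hB hAB hm
  have htB : zz N2 ∈ B := hmm ▸ B.mul_mem hm.1 hm.1
  -- `b = s s₂`
  have hb1 : zz N * zz N2 ≠ 1 := by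
    intro h3
    have h4 : zz N = zz N2 := by
      have h5 := eq_inv_of_mul_eq_one_left h3
      rwa [h.hyp.zz_inv hN2] at h5
    have h5 : Cm Om U B n m := hPB.cn_of_twin (rk_of h hB) hn hm (by rw [hnn, hmm, h4])
    exact hnn' (h5.trans (PW.Cn.symm hPB hn'm))
  have hb2 : zz N * zz N2 * (zz N * zz N2) = 1 := by
    have h3 := h.comm hB htB hsB
    calc zz N * zz N2 * (zz N * zz N2) = zz N * (zz N2 * zz N) * zz N2 := by group
      _ = zz N * (zz N * zz N2) * zz N2 := by rw [h3]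
      _ = (zz N * zz N) * (zz N2 * zz N2) := by group
      _ = 1 := by rw [hs2, h.hyp.zz_mul hN2, one_mul]
  have hbA : zz N * zz N2 ∈ normalizer (A : Set G) := mul_mem hs ht
  have hbB : zz N * zz N2 ∈ B := B.mul_mem hsB htB
  have hcb : Cm Om U A g0 (zz N * zz N2 * g0 * (zz N * zz N2)⁻¹) := by
    rcases two _ (h.RR_conj ht hg0) with h3 | h3
    · exact absurd h3 (hI A hA N2 hN2 ht htA g0 hg0)
    · have h4 := h3.conj hP hs
      rw [conj_conj hs2] at h4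
      have h5 : zz N * (zz N2 * g0 * (zz N2)⁻¹) * (zz N)⁻¹ = zz N * zz N2 * g0 * (zz N * zz N2)⁻¹ := by
        group
      rwa [h5] at h4
  obtain ⟨k, hk, hgk, hbk⟩ := hP.fix_z (al_alt h hA) hbA hb2 hg0 hcb
  -- `u = k²`
  have hu : k * k ∈ normalizer (B : Set G) := by
    refine h.c1 B hB _ hbB hb2 hb1 ?_
    rw [mem_centralizer_singleton_iff]
    exact (mul_inv_eq_iff_eq_mul.mp hbk).symm
  have h3 := comm_of_norm h hA hB hAB (A.mul_mem hk.1 hk.1) hu hsB hs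
  refine hmv k hk (Cm_of_fix h hA hs hk ?_)
  rw [← h3, mul_inv_cancel_right]

/-- **Section 3**: no `s = z_N` in `N(A) - A`, given that `(T1)` is dead (all bonds A2, `s` normalises a component) -/
theorem no_s_of (h : CW Om U)
    (hT : ∀ (A : Subgroup G), IsA Om U A → (∀ v ∈ RR Om U A, ∀ w ∈ RR Om U A, al Om U v w = al Om U w v) →
      ∀ N ∈ Om, zz N ∈ normalizer (A : Set G) → zz N ∉ A →
      ∀ v ∈ RR Om U A, ¬ Cm Om U A v (zz N * v * (zz N)⁻¹))
    (hA : IsA Om U A) (hN : N ∈ Om) (hs : zz N ∈ normalizer (A : Set G)) : zz N ∈ A := by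
  by_contra hsA
  refine swap_dead h ?_ hA hN hs hsA
  intro A hA N hN hs hsA v hv hc
  rcases al_or h hA with h1 | h1
  · exact hT A hA h1 N hN hs hsA v hv hc
  · exact g2_dead h hA h1 hN hs hsA hv hc

end Cfsg.Agent.Cit.Nil.CV3
end

-- part: Cit/Nil/CV3/NoS
section
set_option linter.all false
open scoped Cfsg.Agent.FastGrp

/-!
# (CV), section 3: no `s = z_N` in `N(A) - A` (S1309)

`no_s` from `no_s_of` and `Glue.dead_T1` (helper542).
-/

set_option autoImplicit false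
set_option linter.style.haveILetI false
set_option linter.unusedSectionVars false

namespace Cfsg.Agent.Cit.Nil.CV3

open Subgroup Cfsg Cit Cit.CV CV CV.Glue

variable {G : Type*} [Group G] [Finite G]
variable {Om : Set (Subgroup G)} {U : Subgroup G → Subgroup G} {A B K L N : Subgroup G} {a e g s t v w x y : G}

/-- the components of the two formulations agree -/
theorem conn_of_Cm (h : CVW Om U) (hA : IsA Om U A) {v w : G} (hv : v ∈ RR Om U A) (hc : Cm Om U A v w) :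
    ∃ hw : w ∈ A, RootMod.Conn (rA h hA) (fA h hA) (mk h hA v hv.1) (mk h hA w hw) := by
  induction hc with
  | refl => exact ⟨hv.1, RootMod.Conn.refl _⟩
  | tail _ hb ih =>
    obtain ⟨hw, ih⟩ := ih
    refine ⟨hb.2.1.1, ih.trans (RootMod.Conn.step hb.1 hb.2.1 ?_)⟩
    rw [fA_eq (by exact hb.1)]
    exact hb.2.2

/-- the alternative `(T1)`, `(T2)` -/
theorem t1_or_t2 (h : CW Om U) (hA : IsA Om U A)
    (hsym : ∀ v ∈ RR Om U A, ∀ w ∈ RR Om U A, al Om U v w = al Om U w v)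
    (hN : N ∈ Om) (hs : zz N ∈ normalizer (A : Set G)) (hsA : zz N ∉ A) (hv : v ∈ RR Om U A) :
    (∃ g d, RootMod.T1 (rA h.toCVW hA) (fA h.toCVW hA) (cjA h.toCVW hA hs) g d) ∨
      (∃ g d, RootMod.T2 (rA h.toCVW hA) (fA h.toCVW hA) (cjA h.toCVW hA hs) g d) := by
  refine RootMod.main (rm h.toCVW hA hsym) (ez_of hN hs (good h hA hN hs hsA).one) ⟨mk _ hA v hv.1, hv⟩
    (hlk_of (h.rk A hA)) ?_
  intro g hg
  have h1 := card_fix_le h hA hN hsA hg
  have h2 : Nat.card (RootMod.CU (cjA h.toCVW hA hs)) ≤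
      Nat.card {u : G // u ∈ A ∧ u * u = 1 ∧ zz N * u * (zz N)⁻¹ = u} := by
    refine Nat.card_le_card_of_injective (fun u => ⟨vl u.1, vl_mem _, ?_, ?_⟩) ?_
    · have := congrArg vl u.2.1
      rwa [vl_add, vl_zero] at this
    · have := congrArg vl u.2.2
      rwa [vl_cjA] at this
    · intro a b hab
      have h5 := Subtype.ext_iff.mp hab
      exact Subtype.ext (vl_inj h5)
  have h3 : Nat.card {k : G // k ∈ RR Om U A ∧ k * k = vl g * vl g} ≤
      (RootMod.fib (rA h.toCVW hA) (g + g)).ncard := by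
    rw [← Nat.card_coe_set_eq]
    refine Nat.card_le_card_of_injective
      (fun k => ⟨mk h.toCVW hA k.1 k.2.1.1, k.2.1, vl_inj ?_⟩) ?_
    · rw [vl_add, vl_mk, vl_add]; exact k.2.2
    · intro a b hab
      have h4 := congrArg (fun z => vl z.1) hab
      exact Subtype.ext h4
  exact h2.trans (h1.trans h3)

/-- `(T1)` as soon as a component is normalised -/
theorem t1_of (h : CW Om U) (hA : IsA Om U A)
    (hsym : ∀ v ∈ RR Om U A, ∀ w ∈ RR Om U A, al Om U v w = al Om U w v)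
    (hN : N ∈ Om) (hs : zz N ∈ normalizer (A : Set G)) (hsA : zz N ∉ A) (hv : v ∈ RR Om U A)
    (hc : Cm Om U A v (zz N * v * (zz N)⁻¹)) :
    ∃ g d, RootMod.T1 (rA h.toCVW hA) (fA h.toCVW hA) (cjA h.toCVW hA hs) g d := by
  rcases t1_or_t2 h hA hsym hN hs hsA hv with h1 | ⟨g, d, t⟩
  · exact h1
  exfalso
  have hR := rm h.toCVW hA hsym
  have hiv := (ez_of hN hs (good h hA hN hs hsA).one (h := h.toCVW) (hA := hA)).toIv
  obtain ⟨hw, hc⟩ := conn_of_Cm h.toCVW hA hv hc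
  have hvs : mk h.toCVW hA (zz N * v * (zz N)⁻¹) hw = cjA h.toCVW hA hs (mk h.toCVW hA v hv.1) := vl_inj rfl
  rw [hvs] at hc
  have hvR : mk h.toCVW hA v hv.1 ∈ rA h.toCVW hA := hv
  rcases t.all _ hvR with h1 | h1
  · exact t.moved ((h1.trans hc).trans ((h1.map hiv).symm hR))
  · have h2 := h1.map hiv
    rw [hiv.invol] at h2
    exact t.moved ((h2.trans (hc.symm hR)).trans (h1.symm hR))

/-- **no `s = z_N` in `N(A) - A`** -/
theorem no_s (h : CW Om U) (hA : IsA Om U A) (hN : N ∈ Om) (hs : zz N ∈ normalizer (A : Set G)) :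
    zz N ∈ A := by
  refine no_s_of h ?_ hA hN hs
  clear hA hN hs
  intro A hA hsym N hN hs hsA v hv hc
  obtain ⟨g, d, t⟩ := t1_of h hA hsym hN hs hsA hv hc
  have hs2 : zz N * zz N = 1 := h.hyp.zz_mul hN
  obtain ⟨B, hB, hAB, n, hn, hnN, hnn⟩ := exists_B h.toCVW hN hsA
  have hsB : zz N ∈ B := hnn ▸ B.mul_mem hn.1 hn.1
  have hg : vl g ∈ RR Om U A := t.hg
  have hsg : zz N * vl g * (zz N)⁻¹ = (vl g)⁻¹ := by rw [← vl_cjA hs, t.sg, vl_neg]
  obtain ⟨K, hK, hgK, hgg⟩ := exists_zz h.toCVW hg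
  have he2 : zz K * zz K = 1 := h.hyp.zz_mul hK
  have inv2 : ∀ {y : G}, y ∈ RR Om U A → y⁻¹ * y⁻¹ = y * y := fun {y} hy => by
    rw [← mul_inv_rev]; exact inv_eq_of_mul_eq_one_left (sq_sq hy)
  have inv2B : ∀ {y : G}, y ∈ RR Om U B → y⁻¹ * y⁻¹ = y * y := fun {y} hy => by
    rw [← mul_inv_rev]; exact inv_eq_of_mul_eq_one_left (sq_sq hy)
  have hfix : zz N * zz K * (zz N)⁻¹ = zz K := by
    rw [← hgg, ← sq_conj, hsg, inv2 hg]
  have hcomm : zz K * zz N = zz N * zz K := (mul_inv_eq_iff_eq_mul.mp hfix).symm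
  have heB : zz K ∈ normalizer (B : Set G) := by
    refine h.c1 B hB (zz N) hsB hs2 (h.hyp.zz_ne hN) ?_
    rw [mem_centralizer_singleton_iff]; exact hcomm
  have heB' : zz K ∉ B := by rw [← hgg]; exact zz_not_mem h hB hA (Ne.symm hAB) hg
  have hsymB : ∀ v ∈ RR Om U B, ∀ w ∈ RR Om U B, al Om U v w = al Om U w v := by
    obtain ⟨x, hx⟩ := CVW.isA_conj hB h.toCVW hA
    intro v hv w hw
    have h1 := RR_conj' h.toCVW hv x
    have h2 := RR_conj' h.toCVW hw x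
    rw [← hx] at h1 h2
    rw [← al_cj h.toCVW hB hv hw.1 x, ← al_cj h.toCVW hB hw hv.1 x]
    exact hsym _ h1 _ h2
  -- `(T1)` for `e` on `B`
  have hcn : Cm Om U B n (zz K * n * (zz K)⁻¹) := by
    refine Cm_of_fix h hB heB hn ?_
    rw [hnn, hcomm, mul_inv_cancel_right]
  obtain ⟨g', d', t'⟩ := t1_of h hB hsymB hK heB heB' hn hcn
  have hg' : vl g' ∈ RR Om U B := t'.hg
  have hd' : vl d' ∈ RR Om U B := t'.hd
  have h4d := (rm h.toCVW hB hsymB).four t'.hd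
  have h4g := (rm h.toCVW hB hsymB).four t'.hg
  have eg : zz K * vl g' * (zz K)⁻¹ = (vl g')⁻¹ := by rw [← vl_cjA heB, t'.sg, vl_neg]
  have f1 : zz K * (vl g' * vl g') * (zz K)⁻¹ = vl g' * vl g' := by rw [← sq_conj, eg, inv2B hg']
  have f2 : zz K * (vl d' * vl d') * (zz K)⁻¹ = vl d' * vl d' := by
    rw [← vl_add, ← vl_cjA heB]
    congr 1
    rw [map_add, t'.sd]
    have h1 : g' + g' - d' + (g' + g' - d') = ((g' + g') + (g' + g')) + (-d' + -d') := by abel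
    rw [h1, h4g, zero_add, RootMod.neg_two h4d]
  have hne2 : vl g' * vl g' ≠ vl d' * vl d' := by
    intro h1
    have h2 : g' + g' = d' + d' := vl_inj (by rw [vl_add, vl_add, h1])
    have h3 : fA h.toCVW hB g' (g' + g') = fA h.toCVW hB g' (d' + d') := by rw [h2]
    rw [map_add, map_add, t'.gd, (rm h.toCVW hB hsymB).self t'.hg] at h3
    exact absurd h3 (by decide)
  -- the second involution
  obtain ⟨m, hm, hme, hms⟩ : ∃ m ∈ RR Om U B, zz K * (m * m) * (zz K)⁻¹ = m * m ∧ m * m ≠ zz N := by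
    by_cases h1 : vl g' * vl g' = zz N
    · exact ⟨vl d', hd', f2, fun h2 => hne2 (by rw [h1, h2])⟩
    · exact ⟨vl g', hg', f1, h1⟩
  obtain ⟨N2, hN2, hmN2, hmm⟩ := exists_zz h.toCVW hm
  have hzKA : zz K ∈ A := hgg ▸ A.mul_mem hg.1 hg.1
  have hcomm2 : zz N2 * zz K = zz K * zz N2 := by
    rw [← hmm]; exact (mul_inv_eq_iff_eq_mul.mp hme).symm
  have hs2A : zz N2 ∈ normalizer (A : Set G) := by
    refine h.c1 A hA (zz K) hzKA he2 (h.hyp.zz_ne hK) ?_
    rw [mem_centralizer_singleton_iff]; exact hcomm2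
  have hs2nA : zz N2 ∉ A := by rw [← hmm]; exact zz_not_mem h hA hB hAB hm
  have hs2B : zz N2 ∈ B := hmm ▸ B.mul_mem hm.1 hm.1
  have hc2 : Cm Om U A (vl g) (zz N2 * vl g * (zz N2)⁻¹) := by
    refine Cm_of_fix h hA hs2A hg ?_
    rw [hgg, hcomm2, mul_inv_cancel_right]
  obtain ⟨g2, d2, t2⟩ := t1_of h hA hsym hN2 hs2A hs2nA hg hc2
  refine dead_T1 h.toCVW hA hsym hN hN2 hs hs2A hsB hs2B (h.c1 B hB _ hsB hs2 (h.hyp.zz_ne hN)) ?_ ?_ t t2
  · intro b hb hbA
    exact inf_centralizer h hA hB hAB hv hb hbA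
  · intro h1
    exact hms (by rw [hmm, ← h1])

end Cfsg.Agent.Cit.Nil.CV3
end

-- part: Cit/Nil/CV3/FOne
section
set_option linter.all false
open scoped Cfsg.Agent.FastGrp

/-!
# (CV), (4b) (1) of helper748's text #16760 (S1309)

`F` a normal subgroup of `G` containing the `z_K`, whose involutions are the `z_K`, all conjugate in `F`.

* `FH.mem_A` : an involution of `N(A) ∩ F` is in `A`;
* `FH.lk` : roots over different involutions are linked;
* `FH.nor` : `C_F(z_K) ≤ N(K)`;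
* `FH.three` : there are exactly three involutions `v * v`, `v` a root of `A`.
-/

set_option autoImplicit false
set_option linter.style.haveILetI false
set_option linter.unusedSectionVars false

namespace Cfsg.Agent.Cit.Nil.CV3

open Subgroup Cfsg Cit Tau Cit.CV

variable {G : Type*} [Group G] [Finite G]
variable {Om : Set (Subgroup G)} {U : Subgroup G → Subgroup G} {A B F K L N : Subgroup G} {a e g s t v w x y z : G}

/-- the situation of (4b) -/
structure FH (Om : Set (Subgroup G)) (U : Subgroup G → Subgroup G) (F : Subgroup G) : Prop where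
  cw : CW Om U
  nF : F.Normal
  zF : ∀ K ∈ Om, zz K ∈ F
  inv : ∀ x ∈ F, x * x = 1 → x ≠ 1 → ∃ K ∈ Om, zz K = x
  con : ∀ K ∈ Om, ∀ L ∈ Om, ∃ g ∈ F, g * zz K * g⁻¹ = zz L

theorem inv_ne_of_four (hv4 : orderOf v = 4) : v⁻¹ ≠ v := by
  intro h1
  have h2 : v * v = 1 := by nth_rewrite 1 [← h1]; exact inv_mul_cancel v
  have h3 : orderOf v ∣ 2 := orderOf_dvd_of_pow_eq_one (by rw [pow_two, h2])
  rw [hv4] at h3
  exact absurd (Nat.le_of_dvd (by norm_num) h3) (by norm_num)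

namespace FH

/-- an involution of `N(A) ∩ F` is in `A` -/
theorem mem_A (h : FH Om U F) (hA : IsA Om U A) (hx : x ∈ F) (hxA : x ∈ normalizer (A : Set G)) (h2 : x * x = 1) :
    x ∈ A := by
  by_cases h1 : x = 1
  · rw [h1]; exact A.one_mem
  · obtain ⟨K, hK, rfl⟩ := h.inv x hx h2 h1
    exact no_s h.cw hA hK hxA

/-- KEY: an involution of `N(A) ∩ F` inverts no root -/
theorem key (h : FH Om U F) (hA : IsA Om U A) (hx : x ∈ F) (hxA : x ∈ normalizer (A : Set G)) (h2 : x * x = 1)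
    (hv : v ∈ RR Om U A) (hi : x * v * x⁻¹ = v⁻¹) : False := by
  have h1 := h.cw.comm hA (h.mem_A hA hx hxA h2) hv.1
  rw [h1, mul_inv_cancel_right] at hi
  exact inv_ne_of_four hv.2.1 hi.symm

/-- a root over an involution of `A` which is in `F` -/
theorem exists_over (h : FH Om U F) (hA : IsA Om U A) (hx : x ∈ A) (hxF : x ∈ F) (h2 : x * x = 1) (h1 : x ≠ 1) :
    ∃ v ∈ RR Om U A, v * v = x := by
  obtain ⟨K, hK, rfl⟩ := h.inv x hxF h2 h1
  obtain ⟨v, hv, hv4⟩ := h.cw.exists_v hK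
  have h3 := h.cw.sq_eq hK hv hv4
  exact ⟨v, ovr h.cw hA hK hv hv4 (by rw [h3]; exact hx), h3⟩

theorem sqF (h : FH Om U F) (hv : v ∈ RR Om U A) : v * v ∈ F := by
  obtain ⟨K, hK, -, h1⟩ := exists_zz h.cw.toCVW hv
  rw [h1]; exact h.zF K hK

/-- the product of two different involutions `v * v`, `w * w` is of this form -/
theorem prod (h : FH Om U F) (hA : IsA Om U A) (hv : v ∈ RR Om U A) (hw : w ∈ RR Om U A) (hne : v * v ≠ w * w) :
    ∃ u ∈ RR Om U A, u * u = v * v * (w * w) := by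
  have hvA := A.mul_mem hv.1 hv.1
  have hwA := A.mul_mem hw.1 hw.1
  have hc := h.cw.comm hA hwA hvA
  refine h.exists_over hA (A.mul_mem hvA hwA) (F.mul_mem (h.sqF hv) (h.sqF hw)) ?_ ?_
  · calc v * v * (w * w) * (v * v * (w * w)) = v * v * ((w * w) * (v * v)) * (w * w) := by group
      _ = v * v * ((v * v) * (w * w)) * (w * w) := by rw [hc]
      _ = (v * v * (v * v)) * (w * w * (w * w)) := by group
      _ = 1 := by rw [sq_sq hv, sq_sq hw, one_mul]
  · intro h1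
    have h2 := eq_inv_of_mul_eq_one_left h1
    rw [inv_eq_of_mul_eq_one_left (sq_sq hw)] at h2
    exact hne h2

/-- orthogonality depends on the squares only -/
theorem orth_of_sq (h : FH Om U F) (hA : IsA Om U A) (hv : v ∈ RR Om U A) (hw : w ∈ RR Om U A)
    (h0 : al Om U v (w * w) = 0) (hne : v * v ≠ w * w) : al Om U v w = 0 := by
  have h1 := h.cw.al_sq hA hv hw.1
  rw [h0] at h1
  have h2 : al Om U v w = 0 ∨ al Om U v w = 2 := by
    revert h1
    generalize al Om U v w = i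
    revert i
    decide
  rcases h2 with h2 | h2
  · exact h2
  · exfalso
    rcases h.cw.al_two hA hv hw h2 with h3 | h3
    · exact hne (by rw [h3])
    · exact hne (by rw [h3, CVW.sq_inv hv])

/-- **(1a)** -/
theorem lk (h : FH Om U F) (hA : IsA Om U A) (hv : v ∈ RR Om U A) (hw : w ∈ RR Om U A) (hne : v * v ≠ w * w) :
    Lk Om U v w := by
  refine ⟨fun h0 => ?_, fun h2 => ?_⟩
  swap
  · rcases h.cw.al_two hA hv hw h2 with h3 | h3
    · exact hne (by rw [h3])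
    · exact hne (by rw [h3, CVW.sq_inv hv])
  haveI := h.nF
  have hc := h.cw.toCVW
  obtain ⟨u, hu, huu⟩ := h.prod hA hv hw hne
  obtain ⟨K, hK, hvK, hvz⟩ := exists_zz hc hv
  obtain ⟨L, hL, hwL, hwz⟩ := exists_zz hc hw
  obtain ⟨M, hM, huM, huz⟩ := exists_zz hc hu
  obtain ⟨g, hg, hgz⟩ := h.con K hK L hL
  obtain ⟨k, hk, hkz⟩ := h.con K hK M hM
  obtain ⟨y, hy, hyX⟩ := hc.exists_y hK
  -- the three roots `v`, `v2 = v^g`, `v3 = v^k`
  have hsq : ∀ g : G, (g * v * g⁻¹) * (g * v * g⁻¹) = g * zz K * g⁻¹ := by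
    intro g; rw [sq_conj, hvz]
  have hv2sq : (g * v * g⁻¹) * (g * v * g⁻¹) = w * w := by rw [hsq, hgz, hwz]
  have hv3sq : (k * v * k⁻¹) * (k * v * k⁻¹) = v * v * (w * w) := by rw [hsq, hkz, ← huz, huu]
  have hcK := fun g : G => h.cw.hyp.conj K hK g
  have hv2U := h.cw.vch.conj_mem hK hvK g
  have hv3U := h.cw.vch.conj_mem hK hvK k
  have hv2 : g * v * g⁻¹ ∈ RR Om U A :=
    ovr h.cw hA (hcK g) hv2U (orderOf_conj_four hv.2.1 g) (by rw [hv2sq]; exact A.mul_mem hw.1 hw.1)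
  have hv3 : k * v * k⁻¹ ∈ RR Om U A :=
    ovr h.cw hA (hcK k) hv3U (orderOf_conj_four hv.2.1 k)
      (by rw [hv3sq]; exact A.mul_mem (A.mul_mem hv.1 hv.1) (A.mul_mem hw.1 hw.1))
  -- orthogonality
  have hvv1 : v * v ≠ 1 := (ne_one_of_RR hv).2
  have hww1 : w * w ≠ 1 := (ne_one_of_RR hw).2
  have e1 : al Om U v (v * v) = 0 := by rw [hc.al_sq hA hv hv.1, hc.al_self hA hv]; decide
  have e2 : al Om U v (w * w) = 0 := by rw [hc.al_sq hA hv hw.1, h0, mul_zero]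
  have o2 : al Om U v (g * v * g⁻¹) = 0 := h.orth_of_sq hA hv hv2 (by rw [hv2sq, e2]) (by rw [hv2sq]; exact hne)
  have o3 : al Om U v (k * v * k⁻¹) = 0 := by
    refine h.orth_of_sq hA hv hv3 ?_ ?_
    · rw [hv3sq, hc.al_mul hA hv (A.mul_mem hv.1 hv.1) (A.mul_mem hw.1 hw.1), e1, e2, add_zero]
    · rw [hv3sq]
      intro h3
      exact hww1 (left_eq_mul.mp h3)
  have o2' : al Om U (g * v * g⁻¹) v = 0 := hc.al_zero_symm hA hv hv2 o2
  have o23 : al Om U (g * v * g⁻¹) (k * v * k⁻¹) = 0 := by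
    refine h.orth_of_sq hA hv2 hv3 ?_ ?_
    · rw [hv3sq, hc.al_mul hA hv2 (A.mul_mem hv.1 hv.1) (A.mul_mem hw.1 hw.1), hc.al_sq hA hv2 hv.1, o2', mul_zero,
        ← hv2sq, hc.al_sq hA hv2 hv2.1, hc.al_self hA hv2]
      decide
    · rw [hv2sq, hv3sq]
      intro h3
      exact hvv1 (right_eq_mul.mp h3)
  have c2 := (hc.comm_of_al_zero hA hK hvK hv.2.1 hv.1 (hcK g) hv2U hv2.2.1 hv2.1 o2).2
  have c3 := (hc.comm_of_al_zero hA hK hvK hv.2.1 hv.1 (hcK k) hv3U hv3.2.1 hv3.1 o3).2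
  have c23 := (hc.comm_of_al_zero hA (hcK g) hv2U hv2.2.1 hv2.1 (hcK k) hv3U hv3.2.1 hv3.1 o23).2
  have hvK' : v ∈ K := hc.vch.le K hK hvK
  have hyv : y * v ∈ K := K.mul_mem hy hvK'
  have hvX : v ∈ XX U K := hc.U_le_XX hK hvK
  have hyvX : y * v ∉ XX U K := fun h3 => hyX ((Subgroup.mul_mem_cancel_right _ hvX).mp h3)
  have m2 : g * v * g⁻¹ ∈ cj g K := conj_mem_cj hvK'
  have m3 : k * (y * v) * k⁻¹ ∈ cj k K := conj_mem_cj hyv
  set p := g * v * g⁻¹ with hp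
  set q := k * (y * v) * k⁻¹ with hq
  have cyp : y * p = p * y := c2 y hy p m2
  have cyq : y * q = q * y := c3 y hy q m3
  have cpq : p * q = q * p := c23 p m2 q m3
  have cvp : v * p = p * v := c2 v hvK' p m2
  have cvq : v * q = q * v := c3 v hvK' q m3
  have hyy : y * y = v * v := by rw [(hc.y_facts hK hy hyX).1, hvz]
  have hqq : q * q = v * v * (w * w) := by
    have h3 : y * v * (y * v) = zz K := (hc.y_facts hK hyv hyvX).1
    calc q * q = k * (y * v * (y * v)) * k⁻¹ := by rw [hq]; group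
      _ = k * zz K * k⁻¹ := by rw [h3]
      _ = v * v * (w * w) := by rw [hkz, ← huz, huu]
  -- `x = y p q`
  have hx2 : (y * p * q) * (y * p * q) = 1 := by
    have h3 := h.cw.comm hA (A.mul_mem hw.1 hw.1) (A.mul_mem hv.1 hv.1)
    calc (y * p * q) * (y * p * q) = y * p * (q * y) * p * q := by group
      _ = y * p * (y * q) * p * q := by rw [cyq]
      _ = y * (p * y) * (q * p) * q := by group
      _ = y * (y * p) * (p * q) * q := by rw [cyp, cpq]
      _ = (y * y) * (p * p) * (q * q) := by group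
      _ = v * v * (w * w) * (v * v * (w * w)) := by rw [hyy, hqq, hp, hv2sq]
      _ = v * v * ((w * w) * (v * v)) * (w * w) := by group
      _ = v * v * ((v * v) * (w * w)) * (w * w) := by rw [h3]
      _ = (v * v * (v * v)) * (w * w * (w * w)) := by group
      _ = 1 := by rw [sq_sq hv, sq_sq hw, one_mul]
  have hxF : y * p * q ∈ F := by
    rw [← QuotientGroup.eq_one_iff]
    have hg1 : ((g : G) : G ⧸ F) = 1 := (QuotientGroup.eq_one_iff g).mpr hg
    have hk1 : ((k : G) : G ⧸ F) = 1 := (QuotientGroup.eq_one_iff k).mpr hk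
    have h4 : y * v * (y * v) ∈ F := by
      rw [(hc.y_facts hK hyv hyvX).1]; exact h.zF K hK
    have h5 := (QuotientGroup.eq_one_iff _).mpr h4
    rw [← h5, hp, hq]
    simp only [QuotientGroup.mk_mul, QuotientGroup.mk_inv, hg1, hk1]
    group
  have hxA : y * p * q ∈ normalizer (A : Set G) := by
    refine mul_mem (mul_mem ?_ ?_) ?_
    · exact hc.K_le_norm hA hK hvK hv.2.1 hv.1 hy
    · exact le_normalizer hv2.1
    · exact hc.K_le_norm hA (hcK k) hv3U hv3.2.1 hv3.1 m3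
  refine h.key hA hxF hxA hx2 hv ?_
  have h6 : p * q * v * (p * q)⁻¹ = v := by
    rw [mul_inv_eq_iff_eq_mul]
    calc p * q * v = p * (q * v) := by group
      _ = p * (v * q) := by rw [cvq]
      _ = (p * v) * q := by group
      _ = v * p * q := by rw [cvp]
      _ = v * (p * q) := by group
  calc y * p * q * v * (y * p * q)⁻¹ = y * (p * q * v * (p * q)⁻¹) * y⁻¹ := by group
    _ = v⁻¹ := by rw [h6]; exact hc.y_inv hK hy hyX hvK

/-- **(1b)** -/
theorem nor (h : FH Om U F) (hK : K ∈ Om) (hg : g ∈ F) (hgz : g * zz K = zz K * g) : g ∈ normalizer (K : Set G) := by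
  by_contra hno
  haveI := h.nF
  have hc := h.cw.toCVW
  obtain ⟨A, hA, v, hv, hvK, hvz⟩ := exists_isA hc hK
  obtain ⟨y, hy, hyX⟩ := hc.exists_y hK
  have hgK := hc.hyp.conj K hK g
  have hz : zz K = zz (cj g K) := by
    rw [hc.hyp.zz_cj hK, hgz, mul_inv_cancel_right]
  have hne : K ≠ cj g K := by
    intro h1
    exact hno (by rw [mem_normalizer_iff_cj]; exact h1.symm)
  have hcomm : ∀ a ∈ K, ∀ b ∈ cj g K, a * b = b * a := fun a ha b hb => hc.comm_of_zz_eq hK hgK hz hne ha hb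
  have hp : g * y * g⁻¹ ∈ cj g K := conj_mem_cj hy
  have cyp := hcomm y hy _ hp
  have hyy := (hc.y_facts hK hy hyX).1
  have hpp : g * y * g⁻¹ * (g * y * g⁻¹) = zz K := by
    rw [sq_conj, hyy, hgz, mul_inv_cancel_right]
  have hx2 : y * (g * y * g⁻¹) * (y * (g * y * g⁻¹)) = 1 := by
    calc y * (g * y * g⁻¹) * (y * (g * y * g⁻¹)) = y * ((g * y * g⁻¹) * y) * (g * y * g⁻¹) := by group
      _ = y * (y * (g * y * g⁻¹)) * (g * y * g⁻¹) := by rw [cyp]
      _ = (y * y) * (g * y * g⁻¹ * (g * y * g⁻¹)) := by group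
      _ = 1 := by rw [hyy, hpp]; exact hc.hyp.zz_mul hK
  have hxF : y * (g * y * g⁻¹) ∈ F := by
    rw [← QuotientGroup.eq_one_iff]
    have hg1 : ((g : G) : G ⧸ F) = 1 := (QuotientGroup.eq_one_iff g).mpr hg
    have h4 : y * y ∈ F := by rw [hyy]; exact h.zF K hK
    have h5 := (QuotientGroup.eq_one_iff _).mpr h4
    rw [← h5]
    simp only [QuotientGroup.mk_mul, QuotientGroup.mk_inv, hg1]
    group
  have hv' : g * v * g⁻¹ ∈ RR Om U A := by
    refine ovr h.cw hA hgK (hc.vch.conj_mem hK hvK g) (orderOf_conj_four hv.2.1 g) ?_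
    rw [sq_conj, hvz, hgz, mul_inv_cancel_right, ← hvz]
    exact A.mul_mem hv.1 hv.1
  have hxA : y * (g * y * g⁻¹) ∈ normalizer (A : Set G) :=
    mul_mem (hc.K_le_norm hA hK hvK hv.2.1 hv.1 hy)
      (hc.K_le_norm hA hgK (hc.vch.conj_mem hK hvK g) hv'.2.1 hv'.1 hp)
  refine h.key hA hxF hxA hx2 hv ?_
  have h6 := hcomm v (hc.vch.le K hK hvK) _ hp
  calc y * (g * y * g⁻¹) * v * (y * (g * y * g⁻¹))⁻¹ =
      y * ((g * y * g⁻¹) * v * (g * y * g⁻¹)⁻¹) * y⁻¹ := by group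
    _ = y * (v * (g * y * g⁻¹) * (g * y * g⁻¹)⁻¹) * y⁻¹ := by rw [h6]
    _ = v⁻¹ := by rw [mul_inv_cancel_right]; exact hc.y_inv hK hy hyX hvK

/-- **exactly three involutions** -/
theorem three (h : FH Om U F) (hA : IsA Om U A) (hv : v ∈ RR Om U A) : ∃ z1 z2 z3 : G, z1 ≠ z2 ∧ z1 ≠ z3 ∧ z2 ≠ z3 ∧
    ∀ z, (∃ v ∈ RR Om U A, v * v = z) ↔ (z = z1 ∨ z = z2 ∨ z = z3) := by
  have hc := h.cw.toCVW
  obtain ⟨w, hw, hl⟩ := h.cw.rk A hA v hv
  have hne := hc.sq_ne hA hv hw hl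
  obtain ⟨u, hu, huu⟩ := h.prod hA hv hw hne
  have hvv1 : v * v ≠ 1 := (ne_one_of_RR hv).2
  have hww1 : w * w ≠ 1 := (ne_one_of_RR hw).2
  refine ⟨v * v, w * w, v * v * (w * w), hne, fun h1 => hww1 (left_eq_mul.mp h1),
    fun h1 => hvv1 (right_eq_mul.mp h1), fun z => ⟨?_, ?_⟩⟩
  · rintro ⟨x, hx, rfl⟩
    by_cases h1 : x * x = v * v
    · exact Or.inl h1
    by_cases h2 : x * x = w * w
    · exact Or.inr (Or.inl h2)
    right; right
    have val : ∀ x ∈ RR Om U A, x * x ≠ v * v → al Om U v (x * x) = 2 := by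
      intro x hx hxx
      have h3 := h.lk hA hv hx (Ne.symm hxx)
      rw [Cit.CV.lk_iff'] at h3
      rw [hc.al_sq hA hv hx.1, h3]
    obtain ⟨p, hp, hpp⟩ := h.prod hA hx hw h2
    have h4 : al Om U v (p * p) = 0 := by
      rw [hpp, hc.al_mul hA hv (A.mul_mem hx.1 hx.1) (A.mul_mem hw.1 hw.1), val x hx h1, val w hw (Ne.symm hne)]
      decide
    have h5 : p * p = v * v := by
      by_contra h5
      rw [val p hp h5] at h4
      exact absurd h4 (by decide)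
    rw [hpp] at h5
    calc x * x = x * x * (w * w) * (w * w)⁻¹ := by group
      _ = v * v * (w * w) := by rw [h5, inv_eq_of_mul_eq_one_left (sq_sq hw)]
  · rintro (rfl | rfl | rfl)
    · exact ⟨v, hv, rfl⟩
    · exact ⟨w, hw, rfl⟩
    · exact ⟨u, hu, huu⟩

end FH

end Cfsg.Agent.Cit.Nil.CV3
end

-- part: Cit/Nil/CV1/Cor
section
set_option linter.all false
open scoped Cfsg.Agent.FastGrp

/-!
# (6b)(CV), rank one: the corollary

`one_of_r1` : if `G` has a normal non-abelian simple subgroup `F` with `C_G(F) = 1`, `O(G) = 1`, and `R1 Om ⊤` holds,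
then `One Om`: a 2-subgroup contains at most one member.
-/

set_option autoImplicit false
set_option linter.style.haveILetI false
set_option linter.unusedSectionVars false

namespace Cfsg.Agent.Cit.CV1

open Subgroup Cfsg Cit Tau CV

variable {G : Type*} [Group G] [Finite G] {Om : Set (Subgroup G)} {U : Subgroup G → Subgroup G}
  {B F K L M N S T : Subgroup G} {a b e g s t u v w x y z : G}

/-- a non-trivial subgroup normalised by `F` contains `F` -/
theorem simple_le (hF : F.Normal) (hs : IsSimpleGroup F) (hc : centralizer (F : Set G) = ⊥) (hB : B ≠ ⊥)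
    (hn : F ≤ normalizer (B : Set G)) : F ≤ B := by
  haveI : (B.subgroupOf F).Normal := by
    rw [← inf_subgroupOf_right]
    refine (normal_subgroupOf_iff_le_normalizer inf_le_right).2 ?_
    intro f hf
    rw [mem_normalizer_iff]
    intro b
    rw [mem_inf, mem_inf]
    constructor
    · rintro ⟨h1, h2⟩
      exact ⟨(mem_normalizer_iff.1 (hn hf) b).1 h1, F.mul_mem (F.mul_mem hf h2) (F.inv_mem hf)⟩
    · rintro ⟨h1, h2⟩
      refine ⟨(mem_normalizer_iff.1 (hn hf) b).2 h1, ?_⟩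
      have := F.mul_mem (F.mul_mem (F.inv_mem hf) h2) hf
      have e : f⁻¹ * (f * b * f⁻¹) * f = b := by group
      rwa [e] at this
  rcases hs.eq_bot_or_eq_top_of_normal (B.subgroupOf F) inferInstance with h | h
  · exfalso
    apply hB
    rw [eq_bot_iff, ← hc]
    intro b hb
    rw [mem_centralizer_iff]
    intro f hf
    have h1 : f * b * f⁻¹ * b⁻¹ ∈ F := by
      have h2 := F.mul_mem hf (hF.conj_mem _ (F.inv_mem hf) b)
      have e : f * (b * f⁻¹ * b⁻¹) = f * b * f⁻¹ * b⁻¹ := by group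
      rwa [e] at h2
    have h2 : f * b * f⁻¹ * b⁻¹ ∈ B := B.mul_mem ((mem_normalizer_iff.1 (hn hf) b).1 hb) (B.inv_mem hb)
    have h3 : (⟨f * b * f⁻¹ * b⁻¹, h1⟩ : F) ∈ B.subgroupOf F := h2
    rw [h, mem_bot] at h3
    have h4 : f * b * f⁻¹ * b⁻¹ = 1 := congrArg Subtype.val h3
    rw [mul_inv_eq_one, mul_inv_eq_iff_eq_mul] at h4
    exact h4
  · exact subgroupOf_eq_top.1 h

theorem le_of_not_dvd {P Q : Subgroup G} (hP : IsPGroup 2 P) (h : ¬ 2 ∣ Q.relIndex P) : P ≤ Q := by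
  haveI : Fact (Nat.Prime 2) := ⟨Nat.prime_two⟩
  rw [← relIndex_eq_one]
  obtain ⟨k, hk⟩ := IsPGroup.iff_card.1 hP
  have h1 : Q.relIndex P ∣ 2 ^ k := by rw [← hk]; exact relIndex_dvd_card Q P
  obtain ⟨j, -, hj⟩ := (Nat.dvd_prime_pow Nat.prime_two).1 h1
  rcases Nat.eq_zero_or_pos j with h2 | h2
  · rw [hj, h2, pow_zero]
  · exact absurd (by rw [hj]; exact dvd_pow_self 2 h2.ne') h

/-- the block of `K` -/
def blk (Om : Set (Subgroup G)) (K : Subgroup G) : Subgroup G := sSup {L | Conn Om ⊤ K L}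

theorem RW.one_of_r1 (w : RW Om U) (hO : OO (⊤ : Subgroup G) = ⊥) (hF : F.Normal) (hs : IsSimpleGroup F)
    (hna : ¬ IsMulCommutative F) (hc : centralizer (F : Set G) = ⊥) (hR : R1 Om ⊤) : One Om := by
  refine ⟨w.hyp, fun S hS K hK L hL => ?_⟩
  have hKS := le_of_not_dvd (w.two K hK.1) hK.2
  have hLS := le_of_not_dvd (w.two L hL.1) hL.2
  by_contra hne
  have ho := w.orth_of_two hS hK.1 hKS hL.1 hLS hne
  have hncon := hR K hK.1 L hL.1 le_top le_top ho
  -- not connected members commute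
  have hcom : ∀ A ∈ Om, ∀ B ∈ Om, ¬ Conn Om ⊤ A B → ∀ x ∈ A, ∀ y ∈ B, x * y = y * x := by
    intro A hA B hB hn x hx y hy
    have h1 := comm_mem_of_not_conn hA le_top hB le_top hn hx hy
    rw [hO, mem_bot, mul_inv_eq_one, mul_inv_eq_iff_eq_mul] at h1
    exact h1
  have hmem : ∀ {A B : Subgroup G}, A ∈ Om → Conn Om ⊤ A B → B ∈ Om := fun hA h => (h.mem ⟨hA, le_top⟩).1
  -- blocks are normalised by all members
  have hnorm : ∀ A ∈ Om, sSup Om ≤ normalizer (blk Om A : Set G) := by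
    intro A hA
    refine sSup_le fun M hM => ?_
    by_cases hAM : Conn Om ⊤ A M
    · exact (show M ≤ blk Om A from le_sSup hAM).trans le_normalizer
    · have h1 : M ≤ centralizer (blk Om A : Set G) := by
        rw [le_centralizer_iff]
        refine sSup_le fun B hB => ?_
        apply le_centralizer_of_comm
        exact hcom M hM B (hmem hA hB) fun h2 => hAM (hB.trans h2.symm)
      exact h1.trans (centralizer_le_normalizer _)
  have hOmn : (sSup Om : Subgroup G).Normal := by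
    rw [← normalizer_eq_top_iff, eq_top_iff]
    have key : ∀ g : G, sSup Om ≤ cj g (sSup Om) := by
      intro g
      refine sSup_le fun A hA => ?_
      have h1 := cj_mono g (le_sSup (w.hyp.conj A hA g⁻¹))
      rwa [cj_cj_inv] at h1
    intro g _
    rw [mem_normalizer_iff_cj]
    refine le_antisymm ?_ (key g)
    have h1 := cj_mono g (key g⁻¹)
    rwa [cj_cj_inv] at h1
  have hFOm : F ≤ sSup Om := by
    refine simple_le hF hs hc ?_ ?_
    · intro h1
      have h2 : zz K ∈ sSup Om := le_sSup hK.1 (w.hyp.zz_mem hK.1)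
      rw [h1, mem_bot] at h2
      exact w.hyp.zz_ne hK.1 h2
    · rw [normalizer_eq_top_iff.2 hOmn]; exact le_top
  have hFb : ∀ A ∈ Om, F ≤ blk Om A := by
    intro A hA
    refine simple_le hF hs hc ?_ (hFOm.trans (hnorm A hA))
    intro h1
    have h2 : zz A ∈ blk Om A := le_sSup (show A ∈ {L | Conn Om ⊤ A L} from Conn.rfl) (w.hyp.zz_mem hA)
    rw [h1, mem_bot] at h2
    exact w.hyp.zz_ne hA h2
  apply hna
  have h1 : blk Om K ≤ centralizer (blk Om L : Set G) := by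
    refine sSup_le fun A hA => ?_
    rw [le_centralizer_iff]
    refine sSup_le fun B hB => ?_
    apply le_centralizer_of_comm
    exact hcom A (hmem hK.1 hA) B (hmem hL.1 hB) fun h2 => hncon ((hA.trans h2).trans hB.symm)
  refine ⟨⟨fun x y => Subtype.ext ?_⟩⟩
  exact (mem_centralizer_iff.1 (h1 (hFb K hK.1 x.2)) y (hFb L hL.1 y.2)).symm

end Cfsg.Agent.Cit.CV1
end

-- part: Cit/Nil/CV1/Inherit
section
prune_inst 0x4000008004100000000180010000020200000000000000001d14007020a0f90400002000148000c0000002880000400081200005000000000000000000000012010020000b03c0c00000016002007180c00000000000000000000000000041000000000000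
set_option linter.all false
open scoped Cfsg.Agent.FastGrp

/-!
# (6b)(CV), rank one: inheritance

The world `RW Om U` passes to subgroups (`RW.restr`), to quotients with kernel of odd order (`RW.img`), to central
quotients (`RW.imgc`) and to subfamilies (`RW.sub`), and `R1` comes back (`r1_restr`, `RW.r1_of_img`, `RW.r1_of_imgc`,
`r1_of_sSup`, `r1_of_NI`).  `r1_of_red` : it is enough to prove `R1 Om ⊤` for the reduced worlds `Red Om U`.
-/

set_option autoImplicit false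
set_option linter.style.haveILetI false
set_option linter.unusedSectionVars false

namespace Cfsg.Agent.Cit.CV1

open Subgroup Cfsg Cit Tau CV

variable {G : Type*} [Group G] {Om : Set (Subgroup G)} {U : Subgroup G → Subgroup G} {H K L : Subgroup G}

/-! ### Two facts on the world -/

section basic

variable [Finite G]

/-- a member is not abelian -/
theorem RW.not_comm (w : RW Om U) (hK : K ∈ Om) : ∃ x ∈ K, ∃ y ∈ K, x * y ≠ y * x := by
  obtain ⟨v, hv, hv4⟩ := w.exists_v hK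
  obtain ⟨y, hy, hyX⟩ := w.exists_y hK
  refine ⟨y, hy, v, w.vch.le K hK hv, fun h => ?_⟩
  have h1 := w.y_inv hK hy hyX hv
  rw [h, mul_inv_cancel_right] at h1
  have h2 : v * v = 1 := by
    nth_rewrite 1 [h1]
    exact inv_mul_cancel v
  rw [w.sq_eq hK hv hv4] at h2
  exact w.hyp.zz_ne hK h2

/-- **(B2)** `zz L` commutes with `v ∈ U K` of order 4: `K = L` or `[K, L] = 1` -/
theorem RW.comm_of_zz_comm (w : RW Om U) (hK : K ∈ Om) (hL : L ∈ Om) {v : G} (hv : v ∈ U K) (hv4 : orderOf v = 4)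
    (hc : v * zz L = zz L * v) : K = L ∨ ∀ x ∈ K, ∀ y ∈ L, x * y = y * x := by
  have h1 := w.norm_h3 hK hL (w.vch.le K hK hv) hv4.ge hc
  obtain ⟨u, hu, hu4⟩ := w.exists_v hL
  have hv2 : IsPGroup 2 (zpowers v) := (w.two K hK).to_le (zpowers_le.2 (w.vch.le K hK hv))
  have hT : IsPGroup 2 (zpowers v ⊔ L : Subgroup G) :=
    hv2.to_sup_of_normal_right' (w.two L hL) (zpowers_le.2 h1)
  exact w.lin K hK L hL v hv u hu hv4 hu4 (w.vch.commute w.hyp hT hK hL hv hu hv4 hu4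
    (mem_sup_left (mem_zpowers v)) (mem_sup_right (w.vch.le L hL hu)))

end basic

/-! ### Subgroups -/

/-- the choice for a subgroup -/
def uH (H : Subgroup G) (U : Subgroup G → Subgroup G) : Subgroup H → Subgroup H :=
  fun J => (U (J.map H.subtype)).subgroupOf H

theorem mem_uH {J : Subgroup H} {x : H} : x ∈ uH H U J ↔ (x : G) ∈ U (J.map H.subtype) := Iff.rfl

theorem RW.restr [Finite G] (w : RW Om U) (H : Subgroup G) : RW (restr Om H) (uH H U) := by
  have hle : ∀ J ∈ Cit.restr Om H, U (J.map H.subtype) ≤ H := fun J hJ =>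
    (w.vch.le _ hJ).trans (map_subtype_le J)
  have htwo : ∀ J ∈ Cit.restr Om H, IsPGroup 2 J := fun J hJ =>
    (w.two _ hJ).of_equiv (J.equivMapOfInjective _ H.subtype_injective).symm
  refine ⟨⟨w.hyp.restr H, htwo, ⟨?_, ?_, ?_, ?_, ?_⟩, ?_⟩, ?_⟩
  · intro J hJ x hx
    obtain ⟨y, hy, hyx⟩ := w.vch.le _ hJ (mem_uH.1 hx)
    have : y = x := Subtype.ext hyx
    rwa [← this]
  · intro J hJ g
    ext x
    rw [mem_uH, cj_map, w.vch.cj _ hJ, mem_cj, mem_cj, mem_uH]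
    simp
  · intro J hJ
    rw [OO_eq_bot_of_two (htwo J hJ)]
    exact bot_le
  · intro J hJ
    rw [OO_eq_bot_of_two (htwo J hJ), card_bot]
    have h1 := w.vch.card _ hJ
    rw [w.oo hJ, card_bot] at h1
    rw [← h1]
    exact Nat.card_congr (subgroupOfEquivOfLe (hle J hJ)).toEquiv
  · intro J hJ
    obtain ⟨v, hv, hv4⟩ := w.exists_v hJ
    exact ⟨⟨v, hle J hJ hv⟩, hv, by rw [Subgroup.orderOf_mk]; exact hv4⟩
  · intro J hJ J' hJ'
    have h1 := w.eqc _ hJ _ hJ'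
    rwa [card_map_of_injective H.subtype_injective, card_map_of_injective H.subtype_injective] at h1
  · intro J hJ J' hJ' v hv u hu hv4 hu4 hvu
    rcases w.lin _ hJ _ hJ' v hv u hu (by rw [orderOf_coe]; exact hv4) (by rw [orderOf_coe]; exact hu4)
      (congrArg Subtype.val hvu) with h1 | h1
    · left
      exact Subgroup.map_injective H.subtype_injective h1
    · right
      intro x hx y hy
      exact Subtype.ext (h1 x ⟨x, hx, rfl⟩ y ⟨y, hy, rfl⟩)

theorem orth_map_iff {J J' : Subgroup H} : Orth (J.map H.subtype) (J'.map H.subtype) ↔ Orth J J' := by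
  constructor
  · rintro ⟨h1, h2⟩
    refine ⟨fun h => h1 (by rw [h]), fun x hx y hy => Subtype.ext (h2 x ⟨x, hx, rfl⟩ y ⟨y, hy, rfl⟩)⟩
  · rintro ⟨h1, h2⟩
    refine ⟨fun h => h1 (Subgroup.map_injective H.subtype_injective h), ?_⟩
    rintro _ ⟨x, hx, rfl⟩ _ ⟨y, hy, rfl⟩
    exact congrArg Subtype.val (h2 x hx y hy)

theorem adj_map_iff {M J J' : Subgroup H} :
    Adj Om (M.map H.subtype) (J.map H.subtype) (J'.map H.subtype) ↔ Adj (restr Om H) M J J' := by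
  rw [Adj, Adj, ← map_commutator, OO_map _ H.subtype_injective, mem_restr, mem_restr,
    map_le_map_iff_of_injective H.subtype_injective, map_le_map_iff_of_injective H.subtype_injective,
    map_le_map_iff_of_injective H.subtype_injective]

theorem conn_map_iff {M J J' : Subgroup H} :
    Conn Om (M.map H.subtype) (J.map H.subtype) (J'.map H.subtype) ↔ Conn (restr Om H) M J J' := by
  constructor
  · intro h
    have key : ∀ {A B : Subgroup G}, Conn Om (M.map H.subtype) A B → ∀ J : Subgroup H, A = J.map H.subtype →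
        ∃ J', B = J'.map H.subtype ∧ Conn (Cit.restr Om H) M J J' := by
      intro A B hAB J hJ
      induction hAB with
      | refl => exact ⟨J, hJ, .refl⟩
      | @tail B C _ h2 ih =>
        obtain ⟨J', rfl, hJJ'⟩ := ih
        have hC : C ≤ H := h2.2.1.2.trans (map_subtype_le M)
        refine ⟨C.subgroupOf H, (map_subgroupOf_eq_of_le hC).symm, hJJ'.tail ?_⟩
        rw [← adj_map_iff, map_subgroupOf_eq_of_le hC]
        exact h2
    obtain ⟨J'', hJ'', h1⟩ := key h J rfl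
    rwa [← Subgroup.map_injective H.subtype_injective hJ''] at h1
  · intro h
    induction h with
    | refl => exact .refl
    | tail _ h2 ih => exact ih.tail (adj_map_iff.2 h2)

/-- `R1` of a subgroup `M` of `H`, computed in `H` -/
theorem r1_restr {M : Subgroup H} : R1 (restr Om H) M ↔ R1 Om (M.map H.subtype) := by
  constructor
  · intro h K hK L hL hKM hLM hKL hc
    have hK' : K ≤ H := hKM.trans (map_subtype_le M)
    have hL' : L ≤ H := hLM.trans (map_subtype_le M)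
    rw [← map_subgroupOf_eq_of_le hK'] at hK hKM hKL hc
    rw [← map_subgroupOf_eq_of_le hL'] at hL hLM hKL hc
    rw [map_le_map_iff_of_injective H.subtype_injective] at hKM hLM
    exact h _ hK _ hL hKM hLM (orth_map_iff.1 hKL) (conn_map_iff.1 hc)
  · intro h J hJ J' hJ' h1 h2 h3 h4
    exact h _ hJ _ hJ' (Subgroup.map_mono h1) (Subgroup.map_mono h2) (orth_map_iff.2 h3) (conn_map_iff.2 h4)

theorem top_map_subtype (H : Subgroup G) : (⊤ : Subgroup H).map H.subtype = H := by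
  rw [← MonoidHom.range_eq_map, H.range_subtype]

theorem r1_restr_top : R1 (restr Om H) ⊤ ↔ R1 Om H := by
  rw [r1_restr, top_map_subtype]

/-! ### The image family and the image choice -/

section img

variable {G' : Type*} [Group G'] {f : G →* G'}

/-- the choice for an image: the join of the images of the `U K`, `K` over `J` -/
def imgU (f : G →* G') (Om : Set (Subgroup G)) (U : Subgroup G → Subgroup G) : Subgroup G' → Subgroup G' :=
  fun J => ⨆ K : {K : Subgroup G // K ∈ Om ∧ K.map f = J}, (U K.1).map f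

/-- well defined -/
theorem imgU_map (hU : ∀ K ∈ Om, ∀ L ∈ Om, K.map f = L.map f → (U K).map f = (U L).map f) (hK : K ∈ Om) :
    imgU f Om U (K.map f) = (U K).map f := by
  apply le_antisymm
  · refine iSup_le ?_
    rintro ⟨L, hL, hLK⟩
    exact (hU L hL K hK hLK).le
  · exact le_iSup (fun K' : {K' : Subgroup G // K' ∈ Om ∧ K'.map f = K.map f} => (U K'.1).map f) ⟨K, hK, rfl⟩

/-- the world passes to images as soon as `f` is injective on the members, the choice is well defined, and `lin` holds -/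
theorem RW.img_aux [Finite G] (w : RW Om U) (hf : Function.Surjective f) (hyp : Hyp (Cit.img f Om))
    (hinj : ∀ K ∈ Om, K ⊓ f.ker = ⊥)
    (hU : ∀ K ∈ Om, ∀ L ∈ Om, K.map f = L.map f → (U K).map f = (U L).map f)
    (hlin : ∀ K ∈ Om, ∀ L ∈ Om, ∀ v ∈ U K, ∀ u ∈ U L, orderOf v = 4 → orderOf u = 4 → f v * f u = f u * f v →
      K.map f = L.map f ∨ ∀ x ∈ K.map f, ∀ y ∈ L.map f, x * y = y * x) :
    RW (Cit.img f Om) (imgU f Om U) := by
  haveI : Finite G' := Finite.of_surjective f hf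
  have hUinf : ∀ K ∈ Om, U K ⊓ f.ker = ⊥ := fun K hK =>
    le_bot_iff.1 ((inf_le_inf_right _ (w.vch.le K hK)).trans (hinj K hK).le)
  have htwo : ∀ J ∈ Cit.img f Om, IsPGroup 2 J := by
    rintro _ ⟨K, hK, rfl⟩
    exact (w.two K hK).map f
  refine ⟨⟨hyp, htwo, ⟨?_, ?_, ?_, ?_, ?_⟩, ?_⟩, ?_⟩
  · rintro _ ⟨K, hK, rfl⟩
    rw [imgU_map hU hK]
    exact Subgroup.map_mono (w.vch.le K hK)
  · rintro _ ⟨K, hK, rfl⟩ g'
    obtain ⟨g, rfl⟩ := hf g'
    rw [← cj_map, imgU_map hU hK, imgU_map hU (w.hyp.conj K hK g), w.vch.cj K hK, cj_map]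
  · intro J hJ
    rw [OO_eq_bot_of_two (htwo J hJ)]
    exact bot_le
  · rintro _ ⟨K, hK, rfl⟩
    rw [OO_eq_bot_of_two (htwo _ ⟨K, hK, rfl⟩), card_bot, imgU_map hU hK]
    have h1 := w.vch.card _ hK
    rw [w.oo hK, card_bot] at h1
    rw [← h1]
    exact (Nat.card_congr (QuoCen.equivMap (hUinf K hK)).toEquiv).symm
  · rintro _ ⟨K, hK, rfl⟩
    obtain ⟨v, hv, hv4⟩ := w.exists_v hK
    rw [imgU_map hU hK]
    exact ⟨f v, ⟨v, hv, rfl⟩, by rw [QuoCen.orderOf_map (hUinf K hK) hv]; exact hv4⟩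
  · rintro _ ⟨K, hK, rfl⟩ _ ⟨L, hL, rfl⟩
    rw [← Nat.card_congr (QuoCen.equivMap (hinj K hK)).toEquiv, ← Nat.card_congr (QuoCen.equivMap (hinj L hL)).toEquiv]
    exact w.eqc K hK L hL
  · rintro _ ⟨K, hK, rfl⟩ _ ⟨L, hL, rfl⟩ v' hv' u' hu' hv4 hu4 hc
    rw [imgU_map hU hK] at hv'
    rw [imgU_map hU hL] at hu'
    obtain ⟨v, hv, rfl⟩ := hv'
    obtain ⟨u, hu, rfl⟩ := hu'
    rw [QuoCen.orderOf_map (hUinf K hK) hv] at hv4
    rw [QuoCen.orderOf_map (hUinf L hL) hu] at hu4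
    exact hlin K hK L hL v hv u hu hv4 hu4 hc

/-- images of orthogonal members are orthogonal when `f` is injective on the members -/
theorem RW.orth_map [Finite G] (w : RW Om U) (hK : K ∈ Om) (hinj : K ⊓ f.ker = ⊥) (h : Orth K L) :
    Orth (K.map f) (L.map f) := by
  have h1 : ∀ x ∈ K.map f, ∀ y ∈ L.map f, x * y = y * x := by
    rintro _ ⟨x, hx, rfl⟩ _ ⟨y, hy, rfl⟩
    rw [← map_mul, ← map_mul, h.2 x hx y hy]
  refine ⟨fun hKL => ?_, h1⟩
  obtain ⟨x, hx, y, hy, hxy⟩ := w.not_comm hK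
  have h2 := h1 (f x) ⟨x, hx, rfl⟩ (f y) (by rw [← hKL]; exact ⟨y, hy, rfl⟩)
  rw [← map_mul, ← map_mul] at h2
  exact hxy (congrArg Subtype.val (QuoCen.injOn_of_inf hinj
    (a₁ := ⟨x * y, K.mul_mem hx hy⟩) (a₂ := ⟨y * x, K.mul_mem hy hx⟩) h2))

/-- images with abelian intersection: two members with the same image do not commute -/
theorem RW.not_comm_map [Finite G] (w : RW Om U) (hK : K ∈ Om) (hinj : K ⊓ f.ker = ⊥) (hKL : K.map f = L.map f) :
    ¬ ∀ x ∈ K, ∀ y ∈ L, x * y = y * x := by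
  intro h
  obtain ⟨x, hx, y, hy, hxy⟩ := w.not_comm hK
  obtain ⟨y', hy', hyy⟩ : f y ∈ L.map f := by rw [← hKL]; exact ⟨y, hy, rfl⟩
  have h2 : f (x * y) = f (y * x) := by
    rw [map_mul, map_mul, ← hyy, ← map_mul, ← map_mul, h x hx y' hy']
  exact hxy (congrArg Subtype.val (QuoCen.injOn_of_inf hinj
    (a₁ := ⟨x * y, K.mul_mem hx hy⟩) (a₂ := ⟨y * x, K.mul_mem hy hx⟩) h2))

end img

/-! ### Quotients by odd normal subgroups -/

section odd

variable {G' : Type*} [Group G'] {f : G →* G'} [Finite G]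

theorem inf_ker_of_odd (hker : ¬ 2 ∣ Nat.card f.ker) (hK : IsPGroup 2 K) : K ⊓ f.ker = ⊥ := by
  rw [eq_bot_iff]
  intro x hx
  obtain ⟨a, ha⟩ := hK ⟨x, hx.1⟩
  rw [mem_bot]
  exact eq_one_of_odd hker hx.2 (a := a) (congrArg Subtype.val ha)

/-- members with the same image are conjugate under the kernel -/
theorem RW.exists_cj_of_map_eq (w : RW Om U) (hker : ¬ 2 ∣ Nat.card f.ker) (hK : K ∈ Om) (hL : L ∈ Om)
    (hKL : K.map f = L.map f) : ∃ n ∈ f.ker, cj n K = L := by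
  have h1 : f (zz K) = f (zz L) := by rw [← zz_map' w.hyp hker hK, ← zz_map' w.hyp hker hL, hKL]
  obtain ⟨n, hn, hn2⟩ := exists_ker_conj hker (w.hyp.zz_mul hK) (w.hyp.zz_mul hL) h1
  refine ⟨n, hn, ?_⟩
  by_contra hne
  have hcK := w.hyp.conj K hK n
  refine w.not_comm_map (f := f) (K := cj n K) (L := L) hcK (inf_ker_of_odd hker (w.two _ hcK))
    (by rw [map_cj_ker hn K, hKL]) fun x hx y hy => ?_
  exact w.comm_of_zz_eq hcK hL (by rw [w.hyp.zz_cj hK, hn2]) hne hx hy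

theorem RW.img (w : RW Om U) (hf : Function.Surjective f) (hker : ¬ 2 ∣ Nat.card f.ker) :
    RW (Cit.img f Om) (imgU f Om U) := by
  refine w.img_aux hf (w.hyp.img hf hker) (fun K hK => inf_ker_of_odd hker (w.two K hK)) ?_ ?_
  · intro K hK L hL hKL
    obtain ⟨n, hn, rfl⟩ := w.exists_cj_of_map_eq hker hK hL hKL
    rw [w.vch.cj K hK, map_cj_ker hn]
  · intro K hK L hL v hv u hu hv4 hu4 hc
    have hzu : u * u = zz L := w.sq_eq hL hu hu4
    have hc' : f v * f (zz L) = f (zz L) * f v := by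
      rw [← hzu, map_mul, ← mul_assoc, hc, mul_assoc, hc, mul_assoc]
    have hv4' : v ^ 2 ^ 2 = 1 := by
      rw [show (2 : ℕ) ^ 2 = 4 by norm_num, ← hv4]; exact pow_orderOf_eq_one v
    obtain ⟨n, hn, hn2⟩ := exists_conj_comm hker (w.hyp.zz_mul hL) hv4' hc'
    rw [← w.hyp.zz_cj hL] at hn2
    rcases w.comm_of_zz_comm hK (w.hyp.conj L hL n) hv hv4 hn2 with h1 | h1
    · left
      rw [h1, map_cj_ker hn]
    · right
      rw [← map_cj_ker hn L]
      rintro _ ⟨x, hx, rfl⟩ _ ⟨y, hy, rfl⟩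
      rw [← map_mul, ← map_mul, h1 x hx y hy]

/-- the preimage of `O(f H)` in `H` is contained in `O(H)` -/
theorem comap_OO_le (hker : ¬ 2 ∣ Nat.card f.ker) (H : Subgroup G) : (OO (H.map f)).comap f ⊓ H ≤ OO H := by
  refine le_OO inf_le_right ?_ ?_
  · intro h hh
    rw [mem_normalizer_iff_cj, cj_inf, mem_normalizer_iff_cj.1 (le_normalizer hh)]
    congr 1
    have h1 : f h ∈ normalizer (OO (H.map f) : Set G') := le_normalizer_OO _ ⟨h, hh, rfl⟩
    rw [mem_normalizer_iff] at h1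
    ext x
    rw [mem_cj, mem_comap, mem_comap, h1]
    simp [mul_assoc]
  · intro h2
    set N : Subgroup G := (OO (H.map f)).comap f ⊓ H with hN
    have h3 : Nat.card N ∣ Nat.card f.ker * Nat.card (N.map f) := by
      have h4 : Nat.card (f.ker ⊓ N : Subgroup G) * f.ker.relIndex N = Nat.card N := by
        rw [← inf_relIndex_right f.ker N, ← relIndex_bot_left (f.ker ⊓ N),
          relIndex_mul_relIndex ⊥ _ _ bot_le inf_le_right, relIndex_bot_left]
      rw [← h4, relIndex_ker]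
      exact Nat.mul_dvd_mul_right (card_dvd_of_le inf_le_left) _
    rcases (Nat.Prime.dvd_mul Nat.prime_two).1 (h2.trans h3) with h5 | h5
    · exact hker h5
    · have h6 : N.map f ≤ OO (H.map f) := by
        rintro _ ⟨x, hx, rfl⟩
        exact hx.1
      haveI : Finite (H.map f : Subgroup G') := Finite.of_surjective _ (f.subgroupMap_surjective H)
      haveI : Finite (OO (H.map f)) :=
        Finite.Set.subset ((H.map f : Subgroup G') : Set G') (fun x hx => OO_le _ hx)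
      have h7 : ¬ 2 ∣ Nat.card (OO (H.map f)) := by
        rw [OO, card_map_of_injective (Subgroup.subtype_injective _)]
        have h := Lib.Cores.pPrimeCore_coprime (G := (H.map f : Subgroup G')) 2
        intro h2
        have := Nat.dvd_gcd h2 (dvd_refl 2)
        rw [h] at this
        omega
      exact h7 (h5.trans (card_dvd_of_le h6))

/-- adjacency survives in the quotient -/
theorem adj_img (hker : ¬ 2 ∣ Nat.card f.ker) (h : Adj Om H K L) : Adj (Cit.img f Om) (H.map f) (K.map f) (L.map f) := by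
  refine ⟨⟨⟨K, h.1.1, rfl⟩, Subgroup.map_mono h.1.2⟩, ⟨⟨L, h.2.1.1, rfl⟩, Subgroup.map_mono h.2.1.2⟩, fun h1 => h.2.2 ?_⟩
  rw [← map_commutator, map_le_iff_le_comap] at h1
  refine (le_inf h1 ?_).trans (comap_OO_le hker H)
  rw [commutator_le]
  intro x hx y hy
  rw [commutatorElement_def]
  exact H.mul_mem (H.mul_mem (H.mul_mem (h.1.2 hx) (h.2.1.2 hy)) (H.inv_mem (h.1.2 hx))) (H.inv_mem (h.2.1.2 hy))

theorem conn_img (hker : ¬ 2 ∣ Nat.card f.ker) (h : Conn Om H K L) :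
    Conn (Cit.img f Om) (H.map f) (K.map f) (L.map f) := by
  induction h with
  | refl => exact .refl
  | tail _ h2 ih => exact ih.tail (adj_img hker h2)

/-- `R1` comes back from odd quotients -/
theorem RW.r1_of_img (w : RW Om U) (hker : ¬ 2 ∣ Nat.card f.ker) (h : R1 (Cit.img f Om) (H.map f)) : R1 Om H := by
  intro K hK L hL hKH hLH hKL hc
  exact h _ ⟨K, hK, rfl⟩ _ ⟨L, hL, rfl⟩ (Subgroup.map_mono hKH) (Subgroup.map_mono hLH)
    (w.orth_map hK (inf_ker_of_odd hker (w.two K hK)) hKL) (conn_img hker hc)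

end odd

/-! ### Central quotients -/

section cen

variable {G' : Type*} [Group G'] {f : G →* G'} [Finite G]

/-- `f` is injective on `Om` -/
theorem RW.eq_of_map_eq (w : RW Om U) (hC : f.ker ≤ center G) (hKC : ∀ K ∈ Om, K ⊓ f.ker = ⊥) (hK : K ∈ Om)
    (hL : L ∈ Om) (hKL : K.map f = L.map f) : K = L := by
  by_contra hne
  -- `zz K = [y, v]`
  obtain ⟨v, hv, hv4⟩ := w.exists_v hK
  obtain ⟨y, hy, hyX⟩ := w.exists_y hK
  have hvK := w.vch.le K hK hv
  have h1 := w.y_inv hK hy hyX hv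
  obtain ⟨v', hv', hvv⟩ : f v ∈ L.map f := by rw [← hKL]; exact ⟨v, hvK, rfl⟩
  obtain ⟨y', hy', hyy⟩ : f y ∈ L.map f := by rw [← hKL]; exact ⟨y, hy, rfl⟩
  have hcen : ∀ {a b : G}, f a = f b → ∀ x : G, x * (a⁻¹ * b) = a⁻¹ * b * x := by
    intro a b hab x
    exact mem_center_iff.1 (hC (by rw [MonoidHom.mem_ker, map_mul, map_inv, hab, inv_mul_cancel])) x
  have e1 : y' * v' * y'⁻¹ * v'⁻¹ = y * v * y⁻¹ * v⁻¹ := by
    have c1 := hcen hyy.symm
    have c2 := hcen hvv.symm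
    have f1 : y' = y * (y⁻¹ * y') := by group
    have f2 : v' = v * (v⁻¹ * v') := by group
    set c := y⁻¹ * y' with hc
    set d := v⁻¹ * v' with hd
    rw [f1, f2]
    have g1 : ∀ x : G, Commute c x := fun x => (c1 x).symm
    have g2 : ∀ x : G, Commute d x := fun x => (c2 x).symm
    calc y * c * (v * d) * (y * c)⁻¹ * (v * d)⁻¹ = y * (c * (v * d * c⁻¹)) * y⁻¹ * (d⁻¹ * v⁻¹) := by group
      _ = y * ((v * d * c⁻¹) * c) * y⁻¹ * (d⁻¹ * v⁻¹) := by rw [(g1 _).eq]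
      _ = y * v * (d * (y⁻¹ * d⁻¹)) * v⁻¹ := by group
      _ = y * v * ((y⁻¹ * d⁻¹) * d) * v⁻¹ := by rw [(g2 _).eq]
      _ = y * v * y⁻¹ * v⁻¹ := by group
  have h2 : v * v = zz K := w.sq_eq hK hv hv4
  have e2 : zz K ∈ L := by
    have e3 : (y * v * y⁻¹ * v⁻¹)⁻¹ = zz K := by rw [h1, mul_inv_rev, inv_inv, h2]
    rw [← e3, ← e1]
    exact L.inv_mem (L.mul_mem (L.mul_mem (L.mul_mem hy' hv') (L.inv_mem hy')) (L.inv_mem hv'))
  have e4 : zz K = zz L := w.hyp.uniq L hL _ e2 (w.hyp.orderOf_zz hK)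
  exact w.not_comm_map hK (hKC K hK) hKL fun x hx y hy => w.comm_of_zz_eq hK hL e4 hne hx hy

/-- **central quotients** -/
theorem RW.imgc (w : RW Om U) (hf : Function.Surjective f) (hC : f.ker ≤ center G)
    (hKC : ∀ K ∈ Om, K ⊓ f.ker = ⊥) : RW (Cit.img f Om) (imgU f Om U) := by
  refine w.img_aux hf (QuoCen.hyp_img_central w.hyp hf hC hKC) hKC ?_ ?_
  · intro K hK L hL hKL
    rw [w.eq_of_map_eq hC hKC hK hL hKL]
  · intro K hK L hL v hv u hu hv4 hu4 hc
    have hzu : u * u = zz L := w.sq_eq hL hu hu4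
    have hc' : f v * f (zz L) = f (zz L) * f v := by
      rw [← hzu, map_mul, ← mul_assoc, hc, mul_assoc, hc, mul_assoc]
    have hvK := w.vch.le K hK hv
    have h1 : v * zz L = zz L * v := by
      refine QuoCen.comm_of_central w.hyp hK hL hC (hKC K hK) hvK
        ((w.two K hK).to_le (zpowers_le.2 hvK)) hv4.ge ?_
      rw [MonoidHom.mem_ker, map_mul, map_mul, map_mul, map_inv, map_inv, hc']
      group
    rcases w.comm_of_zz_comm hK hL hv hv4 h1 with h2 | h2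
    · left; rw [h2]
    · right
      rintro _ ⟨x, hx, rfl⟩ _ ⟨y, hy, rfl⟩
      rw [← map_mul, ← map_mul, h2 x hx y hy]

/-- `[K, L] ≤ ker f`, `ker f` central: `[K, L] = 1` -/
theorem RW.comm_of_commutator_le_ker (w : RW Om U) (hC : f.ker ≤ center G) (hKC : ∀ K ∈ Om, K ⊓ f.ker = ⊥) (hK : K ∈ Om)
    (hL : L ∈ Om) (h : ⁅K, L⁆ ≤ f.ker) : ∀ x ∈ K, ∀ y ∈ L, x * y = y * x := by
  obtain ⟨v, hv, hv4⟩ := w.exists_v hK
  have hvK := w.vch.le K hK hv
  have h1 : v * zz L = zz L * v := by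
    refine QuoCen.comm_of_central w.hyp hK hL hC (hKC K hK) hvK
      ((w.two K hK).to_le (zpowers_le.2 hvK)) hv4.ge ?_
    exact h (commutator_mem_commutator hvK (w.hyp.zz_mem hL))
  rcases w.comm_of_zz_comm hK hL hv hv4 h1 with h2 | h2
  · exfalso
    subst h2
    obtain ⟨x, hx, y, hy, hxy⟩ := w.not_comm hK
    have h3 : x * y * x⁻¹ * y⁻¹ ∈ K ⊓ f.ker :=
      ⟨K.mul_mem (K.mul_mem (K.mul_mem hx hy) (K.inv_mem hx)) (K.inv_mem hy), h (commutator_mem_commutator hx hy)⟩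
    rw [hKC K hK, mem_bot, mul_inv_eq_one, mul_inv_eq_iff_eq_mul] at h3
    exact hxy h3
  · exact h2

theorem OO_le_OO_of_normal {M : Subgroup G} (hHM : H ≤ M) (hn : M ≤ normalizer (H : Set G)) : OO H ≤ OO M := by
  refine le_OO ((OO_le H).trans hHM) ?_ (odd_OO H)
  intro g hg
  rw [mem_normalizer_iff_cj, ← OO_cj, mem_normalizer_iff_cj.1 (hn hg)]

/-- `O(G) = 1`, `Z` a central 2-group, `N / Z` of odd order: `N = Z` -/
theorem le_of_odd_relIndex {N Z : Subgroup G} (hN : N.Normal) (hZ : Z ≤ center G) (hZN : Z ≤ N) (hZ2 : IsPGroup 2 Z)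
    (hO : OO (⊤ : Subgroup G) = ⊥) (hodd : ¬ 2 ∣ Z.relIndex N) : N ≤ Z := by
  haveI : Fact (Nat.Prime 2) := ⟨Nat.prime_two⟩
  have hcen : ∀ z ∈ Z.subgroupOf N, ∀ x : N, x * z = z * x := by
    intro z hz x
    exact Subtype.ext (mem_center_iff.1 (hZ hz) x)
  haveI hZn : (Z.subgroupOf N).Normal := by
    refine ⟨fun z hz x => ?_⟩
    rw [hcen z hz x, mul_inv_cancel_right]
    exact hz
  have hcop : Nat.Coprime (Nat.card (Z.subgroupOf N)) (Z.subgroupOf N).index := by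
    obtain ⟨k, hk⟩ := (IsPGroup.iff_card (p := 2)).1 hZ2
    rw [Nat.card_congr (subgroupOfEquivOfLe hZN).toEquiv, hk]
    exact Nat.Coprime.pow_left k ((Nat.Prime.coprime_iff_not_dvd Nat.prime_two).2 hodd)
  obtain ⟨C, hC⟩ := exists_right_complement'_of_coprime hcop
  have hCn : (⊤ : Subgroup N) ≤ normalizer (C : Set N) := by
    rw [← hC.sup_eq_top]
    refine sup_le ?_ le_normalizer
    intro z hz
    rw [mem_normalizer_iff]
    intro x
    have h1 : z * x * z⁻¹ = x := by rw [← hcen z hz x, mul_inv_cancel_right]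
    rw [h1]
  have hCo : ¬ 2 ∣ Nat.card C := by
    rw [← hC.symm.index_eq_card]
    exact hodd
  have h1 : C ≤ OO (⊤ : Subgroup N) := le_OO le_top hCn hCo
  have h2 : C.map N.subtype ≤ OO N := by
    have h3 := OO_map N.subtype N.subtype_injective ⊤
    rw [top_map_subtype] at h3
    rw [h3]
    exact Subgroup.map_mono h1
  have h3 : C = ⊥ := by
    have h4 : OO N ≤ OO (⊤ : Subgroup G) := OO_le_OO_of_normal le_top (by rw [normalizer_eq_top_iff.2 hN])
    rw [hO] at h4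
    rw [eq_bot_iff]
    intro x hx
    have h5 : (x : G) ∈ (⊥ : Subgroup G) := h4 (h2 ⟨x, hx, rfl⟩)
    rw [mem_bot] at h5 ⊢
    exact Subtype.ext h5
  have h4 := hC.sup_eq_top
  rw [h3, sup_bot_eq, subgroupOf_eq_top] at h4
  exact h4

theorem RW.adj_imgc (w : RW Om U) (hf : Function.Surjective f) (hC : f.ker ≤ center G) (hk2 : IsPGroup 2 f.ker)
    (hKC : ∀ K ∈ Om, K ⊓ f.ker = ⊥) (hO : OO (⊤ : Subgroup G) = ⊥) (h : Adj Om ⊤ K L) :
    Adj (Cit.img f Om) ⊤ (K.map f) (L.map f) := by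
  haveI : Finite G' := Finite.of_surjective f hf
  refine ⟨⟨⟨K, h.1.1, rfl⟩, le_top⟩, ⟨⟨L, h.2.1.1, rfl⟩, le_top⟩, fun h1 => h.2.2 ?_⟩
  have hn' : (OO (⊤ : Subgroup G')).Normal :=
    normalizer_eq_top_iff.1 (top_le_iff.1 (le_normalizer_OO (⊤ : Subgroup G')))
  have hn : ((OO (⊤ : Subgroup G')).comap f).Normal := hn'.comap f
  have h2 : (OO (⊤ : Subgroup G')).comap f ≤ f.ker := by
    refine le_of_odd_relIndex hn hC ?_ hk2 hO ?_
    · intro x hx
      rw [mem_comap, MonoidHom.mem_ker.1 hx]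
      exact one_mem _
    · rw [relIndex_ker, map_comap_eq_self_of_surjective hf]
      exact odd_OO _
  rw [← map_commutator, map_le_iff_le_comap] at h1
  have h3 := w.comm_of_commutator_le_ker hC hKC h.1.1 h.2.1.1 (h1.trans h2)
  rw [commutator_le]
  intro x hx y hy
  rw [commutatorElement_def, h3 x hx y hy, mul_inv_cancel_right, mul_inv_cancel]
  exact one_mem _

/-- `R1` comes back from central quotients, `O(G) = 1` -/
theorem RW.r1_of_imgc (w : RW Om U) (hf : Function.Surjective f) (hC : f.ker ≤ center G) (hk2 : IsPGroup 2 f.ker)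
    (hKC : ∀ K ∈ Om, K ⊓ f.ker = ⊥) (hO : OO (⊤ : Subgroup G) = ⊥) (h : R1 (Cit.img f Om) ⊤) : R1 Om ⊤ := by
  have key : ∀ {A B : Subgroup G}, Conn Om ⊤ A B → Conn (Cit.img f Om) ⊤ (A.map f) (B.map f) := by
    intro A B hAB
    induction hAB with
    | refl => exact .refl
    | tail _ h2 ih => exact ih.tail (w.adj_imgc hf hC hk2 hKC hO h2)
  intro K hK L hL _ _ hKL hc
  exact h _ ⟨K, hK, rfl⟩ _ ⟨L, hL, rfl⟩ le_top le_top (w.orth_map hK (hKC K hK) hKL) (key hc)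

end cen

/-! ### Subfamilies, isolated members, central `zz K` -/

section red

variable [Finite G]

/-- subfamilies -/
theorem RW.sub (w : RW Om U) {Om' : Set (Subgroup G)} (hsub : Om' ⊆ Om) (hc : ∀ K ∈ Om', ∀ g, cj g K ∈ Om') :
    RW Om' U :=
  { hyp := QuoCen.hyp_subset w.hyp hsub hc
    two := fun K hK => w.two K (hsub hK)
    vch :=
      { le := fun K hK => w.vch.le K (hsub hK)
        cj := fun K hK => w.vch.cj K (hsub hK)
        oo := fun K hK => w.vch.oo K (hsub hK)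
        card := fun K hK => w.vch.card K (hsub hK)
        ex := fun K hK => w.vch.ex K (hsub hK) }
    eqc := fun K hK L hL => w.eqc K (hsub hK) L (hsub hL)
    lin := fun K hK L hL => w.lin K (hsub hK) L (hsub hL) }

/-- `⟨Om⟩` is normal -/
theorem sSup_le_normalizer {Om' : Set (Subgroup G)} (hc : ∀ K ∈ Om', ∀ g, cj g K ∈ Om') :
    (⊤ : Subgroup G) ≤ normalizer (sSup Om' : Subgroup G) := by
  have key : ∀ g : G, cj g (sSup Om') ≤ sSup Om' := by
    intro g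
    rw [cj_def, map_le_iff_le_comap, sSup_le_iff]
    intro K hK
    rw [← map_le_iff_le_comap]
    exact le_sSup (hc K hK g)
  intro g _
  rw [mem_normalizer_iff_cj]
  refine le_antisymm (key g) ?_
  have h1 := cj_mono g (key g⁻¹)
  rwa [cj_cj_inv] at h1

theorem not_le_OO_top {M : Subgroup G} (hn : ⊤ ≤ normalizer (M : Set G)) (hKL : ¬ ⁅K, L⁆ ≤ OO (⊤ : Subgroup G)) :
    ¬ ⁅K, L⁆ ≤ OO M := fun h => hKL (h.trans (OO_le_OO_of_normal le_top hn))

/-- `R1` for `⟨Om⟩` gives `R1` -/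
theorem r1_of_sSup (hc : ∀ K ∈ Om, ∀ g, cj g K ∈ Om) (h : R1 Om (sSup Om)) : R1 Om ⊤ := by
  have key : ∀ {A B : Subgroup G}, Conn Om ⊤ A B → Conn Om (sSup Om) A B := by
    intro A B hAB
    induction hAB with
    | refl => exact .refl
    | tail _ h2 ih =>
      exact ih.tail ⟨⟨h2.1.1, le_sSup h2.1.1⟩, ⟨h2.2.1.1, le_sSup h2.2.1.1⟩,
        not_le_OO_top (sSup_le_normalizer hc) h2.2.2⟩
  intro K hK L hL _ _ hKL hcon
  exact h K hK L hL (le_sSup hK) (le_sSup hL) hKL (key hcon)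

/-- the members which are not isolated -/
def NI (Om : Set (Subgroup G)) : Set (Subgroup G) :=
  {K | K ∈ Om ∧ ∃ L ∈ Om, L ≠ K ∧ ¬ ∀ x ∈ K, ∀ y ∈ L, x * y = y * x}

theorem cj_mem_NI (hc : ∀ K ∈ Om, ∀ g, cj g K ∈ Om) : ∀ K ∈ NI Om, ∀ g, cj g K ∈ NI Om := by
  rintro K ⟨hK, L, hL, hne, hLK⟩ g
  refine ⟨hc K hK g, cj g L, hc L hL g, fun h => hne (cj_inj.1 h), fun h => hLK fun x hx y hy => ?_⟩
  have h1 := h _ (conj_mem_cj (g := g) hx) _ (conj_mem_cj (g := g) hy)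
  have h2 : g * (x * y) * g⁻¹ = g * (y * x) * g⁻¹ := by
    calc g * (x * y) * g⁻¹ = g * x * g⁻¹ * (g * y * g⁻¹) := by group
      _ = g * y * g⁻¹ * (g * x * g⁻¹) := h1
      _ = g * (y * x) * g⁻¹ := by group
  simpa using h2

theorem comm_of_commutator {A B : Subgroup G} (h : ∀ x ∈ A, ∀ y ∈ B, x * y = y * x) {M : Subgroup G} : ⁅A, B⁆ ≤ M := by
  rw [commutator_le]
  intro x hx y hy
  rw [commutatorElement_def, h x hx y hy, mul_inv_cancel_right, mul_inv_cancel]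
  exact one_mem _

/-- isolated members may be dropped -/
theorem r1_of_NI (hc : ∀ K ∈ Om, ∀ g, cj g K ∈ Om) (h : R1 (NI Om) (sSup (NI Om))) : R1 Om ⊤ := by
  have key : ∀ {A B : Subgroup G}, Conn Om ⊤ A B → A = B ∨
      (A ∈ NI Om ∧ B ∈ NI Om ∧ Conn (NI Om) (sSup (NI Om)) A B) := by
    intro A B hAB
    induction hAB with
    | refl => exact Or.inl rfl
    | @tail B C _ h2 ih =>
      by_cases hBC : B = C
      · rwa [← hBC]
      right
      have hB : B ∈ NI Om := ⟨h2.1.1, C, h2.2.1.1, Ne.symm hBC, fun h => h2.2.2 (comm_of_commutator h)⟩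
      have hC : C ∈ NI Om := ⟨h2.2.1.1, B, h2.1.1, hBC, fun h => h2.2.2
        (comm_of_commutator fun x hx y hy => (h y hy x hx).symm)⟩
      have hadj : Adj (NI Om) (sSup (NI Om)) B C := ⟨⟨hB, le_sSup hB⟩, ⟨hC, le_sSup hC⟩,
        not_le_OO_top (sSup_le_normalizer (cj_mem_NI hc)) h2.2.2⟩
      rcases ih with rfl | ⟨h3, -, h5⟩
      · exact ⟨hB, hC, Relation.ReflTransGen.refl.tail hadj⟩
      · exact ⟨h3, hC, h5.tail hadj⟩
  intro K hK L hL _ _ hKL hcon
  rcases key hcon with h1 | ⟨h1, h2, h3⟩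
  · exact hKL.1 h1
  · exact h K h1 L h2 (le_sSup h1) (le_sSup h2) hKL h3

/-- if some member is isolated, the members which are not isolated generate a proper subgroup -/
theorem RW.sSup_NI_ne (w : RW Om U) (hK : K ∈ Om) (hKN : K ∉ NI Om) : sSup (NI Om) ≠ ⊤ := by
  intro htop
  have h1 : ∀ L ∈ NI Om, ∀ x ∈ K, ∀ y ∈ L, x * y = y * x := by
    intro L hL
    by_contra h2
    exact hKN ⟨hK, L, hL.1, fun h => hKN (by rw [← h]; exact hL), h2⟩
  have h2 : sSup (NI Om) ≤ centralizer (K : Set G) := by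
    rw [sSup_le_iff]
    intro L hL y hy
    rw [mem_centralizer_iff]
    exact fun x hx => h1 L hL x hx y hy
  rw [htop] at h2
  obtain ⟨x, hx, y, hy, hxy⟩ := w.not_comm hK
  exact hxy (mem_centralizer_iff.1 (h2 (mem_top y)) x hx)

/-- if `zz K` is central, `K` is isolated -/
theorem RW.not_mem_NI_of_central (w : RW Om U) (hK : K ∈ Om) (hz : zz K ∈ center G) : K ∉ NI Om := by
  rintro ⟨-, L, hL, hne, hLK⟩
  obtain ⟨v, hv, hv4⟩ := w.exists_v hL
  rcases w.comm_of_zz_comm hL hK hv hv4 (mem_center_iff.1 hz v) with h1 | h1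
  · exact hne h1
  · exact hLK fun x hx y hy => (h1 y hy x hx).symm

end red

/-! ### The reduction -/

/-- the reduced worlds: `R1` holds for the proper subgroups, `O(G) = Z(G) = 1`, `G = ⟨Om⟩`, no isolated members -/
structure Red (Om : Set (Subgroup G)) (U : Subgroup G → Subgroup G) : Prop extends RW Om U where
  ih : ∀ H : Subgroup G, H ≠ ⊤ → R1 Om H
  core : OO (⊤ : Subgroup G) = ⊥
  cen : center G = ⊥
  gen : sSup Om = ⊤
  iso : ∀ K ∈ Om, ∃ L ∈ Om, L ≠ K ∧ ¬ ∀ x ∈ K, ∀ y ∈ L, x * y = y * x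

universe u

theorem r1_of_red_aux
    (hred : ∀ (G : Type u) [Group G] [Finite G] (Om : Set (Subgroup G)) (U : Subgroup G → Subgroup G),
      Red Om U → R1 Om ⊤) :
    ∀ (n : ℕ) (G : Type u) [Group G] [Finite G] (Om : Set (Subgroup G)) (U : Subgroup G → Subgroup G),
      Nat.card G = n → RW Om U → R1 Om ⊤ := by
  haveI : Fact (Nat.Prime 2) := ⟨Nat.prime_two⟩
  intro n
  induction n using Nat.strong_induction_on with
  | _ n ih =>
    intro G _ _ Om U hn w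
    -- proper subgroups, all subfamilies
    have hsub : ∀ {Om' : Set (Subgroup G)}, RW Om' U → ∀ H : Subgroup G, H ≠ ⊤ → R1 Om' H := by
      intro Om' w' H hH
      rw [← r1_restr_top]
      refine ih _ ?_ H _ _ rfl (w'.restr H)
      rw [← hn]
      refine lt_of_le_of_ne (Nat.le_of_dvd Nat.card_pos (card_subgroup_dvd_card H)) fun h => hH ?_
      exact (card_eq_iff_eq_top H).1 h
    -- quotients
    have hquo : ∀ {N : Subgroup G} [N.Normal], N ≠ ⊥ → Nat.card (G ⧸ N) < n := by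
      intro N _ hN
      rw [← hn, card_eq_card_quotient_mul_card_subgroup N]
      have h1 : 1 < Nat.card N := (one_lt_card_iff_ne_bot N).2 hN
      have h2 : 0 < Nat.card (G ⧸ N) := Nat.card_pos
      nlinarith
    by_cases hcore : OO (⊤ : Subgroup G) = ⊥
    swap
    · haveI hNn : (OO (⊤ : Subgroup G)).Normal :=
        normalizer_eq_top_iff.1 (top_le_iff.1 (le_normalizer_OO (⊤ : Subgroup G)))
      have hker : ¬ 2 ∣ Nat.card (QuotientGroup.mk' (OO (⊤ : Subgroup G))).ker := by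
        rw [QuotientGroup.ker_mk']
        exact odd_OO _
      refine w.r1_of_img (f := QuotientGroup.mk' (OO (⊤ : Subgroup G))) hker ?_
      rw [map_top_of_surjective _ (QuotientGroup.mk'_surjective _)]
      exact ih _ (hquo hcore) _ _ _ rfl (w.img (QuotientGroup.mk'_surjective _) hker)
    by_cases hgen : sSup Om = ⊤
    swap
    · exact r1_of_sSup w.hyp.conj (hsub w _ hgen)
    by_cases hiso : ∀ K ∈ Om, K ∈ NI Om
    swap
    · simp only [not_forall] at hiso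
      obtain ⟨K, hK, hKN⟩ := hiso
      exact r1_of_NI w.hyp.conj (hsub (w.sub (fun _ h => h.1) (cj_mem_NI w.hyp.conj)) _ (w.sSup_NI_ne hK hKN))
    by_cases hcen : center G = ⊥
    · exact hred G Om U { w with ih := hsub w, core := hcore, cen := hcen, gen := hgen, iso := fun K hK => (hiso K hK).2 }
    -- a central involution
    have h2 : 2 ∣ Nat.card (center G) := by
      by_contra h3
      apply hcen
      have h4 : center G ≤ OO (⊤ : Subgroup G) := le_OO le_top (by rw [normalizer_eq_top_iff.2 inferInstance]) h3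
      rwa [hcore, le_bot_iff] at h4
    obtain ⟨⟨e, he⟩, he2⟩ := exists_prime_orderOf_dvd_card' 2 h2
    rw [Subgroup.orderOf_mk] at he2
    have hle : zpowers e ≤ center G := zpowers_le.2 he
    haveI hNn : (zpowers e).Normal := by
      refine ⟨fun z hz x => ?_⟩
      rw [mem_center_iff.1 (hle hz) x, mul_inv_cancel_right]
      exact hz
    have hkr : (QuotientGroup.mk' (zpowers e)).ker = zpowers e := QuotientGroup.ker_mk' _
    have hKC : ∀ K ∈ Om, K ⊓ (QuotientGroup.mk' (zpowers e)).ker = ⊥ := by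
      intro K hK
      rw [hkr, eq_bot_iff]
      rintro x ⟨hx, hxe⟩
      rw [mem_bot]
      by_contra hx1
      have h3 : x * x = 1 := by
        obtain ⟨i, rfl⟩ := hxe
        change e ^ i * e ^ i = 1
        rw [← zpow_add, ← two_mul, zpow_mul]
        have h4 : e ^ (2 : ℤ) = 1 := by
          rw [show (2 : ℤ) = ((2 : ℕ) : ℤ) by norm_num, zpow_natCast, ← he2, pow_orderOf_eq_one]
        rw [h4, one_zpow]
      have h4 : x = zz K := w.hyp.eq_zz hK hx h3 hx1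
      exact w.not_mem_NI_of_central hK (by rw [← h4]; exact hle hxe) (hiso K hK)
    refine w.r1_of_imgc (f := QuotientGroup.mk' (zpowers e)) (QuotientGroup.mk'_surjective _) (by rw [hkr]; exact hle)
      ?_ hKC hcore ?_
    · rw [hkr]
      exact IsPGroup.of_card (n := 1) (by rw [Nat.card_zpowers, he2, pow_one])
    · refine ih _ (hquo ?_) _ _ _ rfl (w.imgc (QuotientGroup.mk'_surjective _) (by rw [hkr]; exact hle) hKC)
      rw [ne_eq, zpowers_eq_bot]
      rintro rfl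
      rw [orderOf_one] at he2
      omega

/-- **REDUCTION**: `R1` for the reduced worlds gives `R1` for all subgroups of all worlds -/
theorem r1_of_red
    (hred : ∀ (G : Type u) [Group G] [Finite G] (Om : Set (Subgroup G)) (U : Subgroup G → Subgroup G),
      Red Om U → R1 Om ⊤)
    {G : Type u} [Group G] [Finite G] {Om : Set (Subgroup G)} {U : Subgroup G → Subgroup G} (w : RW Om U)
    (H : Subgroup G) : R1 Om H := by
  rw [← r1_restr_top]
  exact r1_of_red_aux hred _ H _ _ rfl (w.restr H)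

end Cfsg.Agent.Cit.CV1

private theorem dce_4fe78ce43502 : _root_.True := by
  try have : _root_.True := by simp only [_root_.Cfsg.Agent.Cit.CV1.Adj.eq_1]
  exact _root_.True.intro
end

-- part: Cit/Nil/CV/EndF
section
prune_inst 0x10100900052200000018000020003c42b2000002004b0000c140020007800c4020000621b860021000002844203c806813cc00500210000020000000411c01a010020002b008b000000010008000000000000000000000000000000000000000000000000
set_option linter.all false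
open scoped Cfsg.Agent.FastGrp

/-!
# (CV), the end (4b)(2): transfer in `F = F*(G)` (S1309)

`F` is normal and perfect, all involutions of `F` are `z_K`s, conjugate in `F`; two roots of `A` over different
`z` are linked and there are three `z`s in `A`; `C_F(z_K) ≤ N(K)`. The sign of `H = N_F(A)` on the set of
the `z`s and on the roots conjugate to a given root (six elements) is trivial on a Sylow 2-subgroup `T` of `F`;
so `T` centralises them, and `a = v₁⁻¹ v₂ ∈ F` has `a a ≠ 1`: contradiction to Bender's list.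

* `pm`, `eq_one_of_three`, `sign_of_six` : permutations;
* `EW.false_of_concl`, `EW.false_of`.
-/

set_option autoImplicit false
set_option linter.style.haveILetI false
set_option linter.unusedSectionVars false

namespace Cfsg.Agent.Cit.Nil.CV.EndF

open Subgroup Cfsg Cit Cit.CV CV3 CloEnd

open scoped commutatorElement

/-! ### Permutations -/

section perm

variable {G Γ : Type*} [Group G] [Group Γ]

/-- conjugation on an invariant set -/
def pm (φ : Γ →* G) (X : Set G) (hX : ∀ c, ∀ x ∈ X, φ c * x * (φ c)⁻¹ ∈ X) : Γ →* Equiv.Perm X :=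
  MonoidHom.toHomPerm
    { toFun := fun c x => ⟨φ c * x * (φ c)⁻¹, hX c x x.2⟩
      map_one' := by
        funext x
        refine Subtype.ext ?_
        change φ 1 * (x : G) * (φ 1)⁻¹ = x
        simp
      map_mul' := fun c d => by
        funext x
        refine Subtype.ext ?_
        change φ (c * d) * (x : G) * (φ (c * d))⁻¹ = φ c * (φ d * x * (φ d)⁻¹) * (φ c)⁻¹
        simp [mul_assoc] }

/-- an even 2-element on three letters is trivial -/
theorem eq_one_of_three {X : Type*} [Fintype X] [DecidableEq X] (hX : Nat.card X = 3) (σ : Equiv.Perm X)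
    (hs : Equiv.Perm.sign σ = 1) {k : ℕ} (hk : σ ^ 2 ^ k = 1) : σ = 1 := by
  have h1 : Fintype.card X = 3 := by rw [← Nat.card_eq_fintype_card, hX]
  let e : X ≃ Fin 3 := Fintype.equivFinOfCardEq h1
  have h2 : ∀ τ : Equiv.Perm (Fin 3), Equiv.Perm.sign τ = 1 → τ ^ 3 = 1 := by decide
  have h3 : (e.permCongrHom σ) ^ 3 = 1 := h2 _ (by
    rw [← hs]
    exact Equiv.Perm.sign_permCongr e σ)
  have h4 : σ ^ 3 = 1 := by
    apply e.permCongrHom.injective
    rw [map_pow, h3, map_one]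
  have h5 : orderOf σ ∣ 3 := orderOf_dvd_of_pow_eq_one h4
  have h6 : orderOf σ ∣ 2 ^ k := orderOf_dvd_of_pow_eq_one hk
  have h7 : Nat.Coprime 3 (2 ^ k) := Nat.Coprime.pow_right k (by norm_num)
  exact orderOf_eq_one_iff.mp (Nat.eq_one_of_dvd_coprimes h7 h5 h6)

/-- an involution without fixed points on six letters is odd -/
theorem sign_of_six {X : Type*} [Fintype X] [DecidableEq X] (hX : Nat.card X = 6) (σ : Equiv.Perm X)
    (h1 : ∀ x, σ (σ x) = x) (h2 : ∀ x, σ x ≠ x) : Equiv.Perm.sign σ = -1 := by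
  have h3 : σ ^ 2 = 1 := by
    ext x
    rw [pow_two]
    exact h1 x
  have h4 : ∀ c ∈ σ.cycleType, c = 2 := fun c hc => Equiv.Perm.pow_prime_eq_one_iff.mp h3 c hc
  have h5 := Multiset.eq_replicate_card.mpr h4
  have h6 : σ.cycleType.sum = 6 := by
    rw [Equiv.Perm.sum_cycleType]
    have h7 : σ.support = Finset.univ := by
      ext x
      simp [h2 x]
    rw [h7, Finset.card_univ, ← Nat.card_eq_fintype_card, hX]
  rw [h5, Multiset.sum_replicate, smul_eq_mul] at h6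
  have h7 : Multiset.card σ.cycleType = 3 := by omega
  rw [Equiv.Perm.sign_of_cycleType, h5, Multiset.sum_replicate, Multiset.card_replicate, h7]
  decide

end perm

/-! ### The end -/

variable {G : Type*} [Group G] [Finite G]
variable {Om : Set (Subgroup G)} {U : Subgroup G → Subgroup G} {A B F K L N : Subgroup G} {a e g s t v w x y z : G}

/-- the situation of (2) -/
structure EW (Om : Set (Subgroup G)) (U : Subgroup G → Subgroup G) (F A : Subgroup G) : Prop where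
  cw : CW Om U
  isA : IsA Om U A
  nor : F.Normal
  sim : IsSimpleGroup F
  na : ¬ ∀ x ∈ F, ∀ y ∈ F, x * y = y * x
  nos : ∀ N ∈ Om, zz N ∈ normalizer (A : Set G) → zz N ∈ A
  zF : ∀ K ∈ Om, zz K ∈ F
  inv : ∀ x ∈ F, x * x = 1 → x ≠ 1 → ∃ K ∈ Om, zz K = x
  con : ∀ K ∈ Om, ∀ L ∈ Om, ∃ g ∈ F, g * zz K * g⁻¹ = zz L
  nK : ∀ K ∈ Om, ∀ c ∈ F, c * zz K = zz K * c → c ∈ normalizer (K : Set G)
  lk : ∀ v ∈ RR Om U A, ∀ w ∈ RR Om U A, v * v ≠ w * w → al Om U v w ≠ 0 ∧ al Om U v w ≠ 2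
  three : Nat.card {e : G // ∃ v ∈ RR Om U A, v * v = e} = 3

namespace EW

/-- a conjugation of a nontrivial element of `A` into `A` normalises `A` -/
theorem norm_of (h : CW Om U) (hA : IsA Om U A) (hz : z ∈ A) (hz1 : z ≠ 1) (hg : g * z * g⁻¹ ∈ A) :
    g ∈ normalizer (A : Set G) := by
  rw [mem_normalizer_iff_cj]
  by_contra hne
  have h3 := h.c2 A (cj g A) hA (h.isA_cj hA g) (Ne.symm hne)
  have h4 : g * z * g⁻¹ ∈ A ⊓ cj g A := ⟨hg, conj_mem_cj hz⟩
  rw [h3, mem_bot] at h4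
  exact hz1 (conj_eq_one_iff.mp h4)

variable (h : EW Om U F A)

include h

/-- the involutions of `N_F(A)` are in `A` -/
theorem mem_A (hx : x ∈ F) (hxx : x * x = 1) (hx1 : x ≠ 1) (hn : x ∈ normalizer (A : Set G)) : x ∈ A := by
  obtain ⟨K, hK, rfl⟩ := h.inv x hx hxx hx1
  exact h.nos K hK hn

theorem good {f : F} (hf : f ∈ (normalizer (A : Set G)).subgroupOf F) (hff : f * f = 1) (hf1 : f ≠ 1) :
    Good ((normalizer (A : Set G)).subgroupOf F) f where
  mem := hf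
  sq := hff
  ne := hf1
  cent := by
    intro c hc
    have h1 : (f : G) ≠ 1 := fun h2 => hf1 (Subtype.ext h2)
    have h2 : (f : G) ∈ A := h.mem_A f.2 (congrArg Subtype.val hff) h1 (mem_subgroupOf.mp hf)
    rw [mem_subgroupOf]
    refine h.cw.c1 A h.isA f h2 (congrArg Subtype.val hff) h1 ?_
    rw [mem_centralizer_singleton_iff] at hc ⊢
    exact congrArg Subtype.val hc

theorem hTwo : HTwo ((normalizer (A : Set G)).subgroupOf F) := by
  intro f hf g hg
  have h1 : (f : G) ≠ 1 := fun h2 => hf.ne (Subtype.ext h2)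
  have h2 : (f : G) ∈ A := h.mem_A f.2 (congrArg Subtype.val hf.sq) h1 (mem_subgroupOf.mp hf.mem)
  rw [mem_subgroupOf]
  refine norm_of h.cw h.isA h2 h1 ?_
  have h3 : ((g * f * g⁻¹ : F) : G) = (g : G) * f * (g : G)⁻¹ := rfl
  rw [← h3]
  refine h.mem_A (g * f * g⁻¹).2 ?_ ?_ (mem_subgroupOf.mp hg)
  · have h4 := congrArg Subtype.val hf.sq
    change (f : G) * f = 1 at h4
    rw [h3]
    calc (g : G) * f * (g : G)⁻¹ * (g * f * (g : G)⁻¹) = g * (f * f) * (g : G)⁻¹ := by group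
      _ = 1 := by rw [h4]; group
  · rw [h3]
    intro h4
    exact h1 (conj_eq_one_iff.mp h4)

theorem perfect : commutator F = ⊤ := by
  haveI := h.sim
  rcases IsSimpleGroup.eq_bot_or_eq_top_of_normal (commutator F) inferInstance with h1 | h1
  · exfalso
    apply h.na
    intro x hx y hy
    have h2 : ⁅(⟨x, hx⟩ : F), ⟨y, hy⟩⁆ ∈ commutator F := commutator_mem_commutator (mem_top _) (mem_top _)
    rw [h1, mem_bot, commutatorElement_eq_one_iff_mul_comm] at h2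
    exact congrArg Subtype.val h2
  · exact h1

/-- `H` is transitive on the `z`s of `A` -/
theorem trans (hv : v ∈ RR Om U A) (hw : w ∈ RR Om U A) :
    ∃ g ∈ F, g ∈ normalizer (A : Set G) ∧ g * (v * v) * g⁻¹ = w * w := by
  obtain ⟨K, hK, hvK, hvv⟩ := exists_zz h.cw.toCVW hv
  obtain ⟨L, hL, hwL, hww⟩ := exists_zz h.cw.toCVW hw
  obtain ⟨g, hg, hgz⟩ := h.con K hK L hL
  refine ⟨g, hg, ?_, by rw [hvv, hww, hgz]⟩
  refine norm_of h.cw h.isA (A.mul_mem hv.1 hv.1) (ne_one_of_RR hv).2 ?_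
  rw [hvv, hgz, ← hww]
  exact A.mul_mem hw.1 hw.1

/-- elements of `H` centralising `z` map the roots over `z` to themselves or the inverse -/
theorem conj_or (hv : v ∈ RR Om U A) (hg : g ∈ F) (hgv : g * (v * v) = (v * v) * g) :
    g * v * g⁻¹ = v ∨ g * v * g⁻¹ = v⁻¹ := by
  obtain ⟨K, hK, hvK, hvv⟩ := exists_zz h.cw.toCVW hv
  exact h.cw.conj_or hK (h.nK K hK g hg (by rw [← hvv, hgv])) hvK hv.2.1

omit h

/-- the roots conjugate in `H` to `v₀` or `v₀⁻¹` -/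
def YY (F A : Subgroup G) (v₀ : G) : Set G :=
  {x | ∃ g ∈ F, g ∈ normalizer (A : Set G) ∧ (x = g * v₀ * g⁻¹ ∨ x = g * v₀⁻¹ * g⁻¹)}

theorem YY_inv {v₀ : G} (hy : y ∈ YY F A v₀) : y⁻¹ ∈ YY F A v₀ := by
  obtain ⟨g, hg, hgA, h1 | h1⟩ := hy
  · exact ⟨g, hg, hgA, Or.inr (by rw [h1]; group)⟩
  · exact ⟨g, hg, hgA, Or.inl (by rw [h1]; group)⟩

theorem YY_conj {v₀ c : G} (hc : c ∈ F) (hcA : c ∈ normalizer (A : Set G)) (hy : y ∈ YY F A v₀) :
    c * y * c⁻¹ ∈ YY F A v₀ := by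
  obtain ⟨g, hg, hgA, h1 | h1⟩ := hy
  · exact ⟨c * g, F.mul_mem hc hg, mul_mem hcA hgA, Or.inl (by rw [h1]; group)⟩
  · exact ⟨c * g, F.mul_mem hc hg, mul_mem hcA hgA, Or.inr (by rw [h1]; group)⟩

include h

theorem YY_RR {v₀ : G} (hv : v₀ ∈ RR Om U A) (hy : y ∈ YY F A v₀) : y ∈ RR Om U A := by
  obtain ⟨g, hg, hgA, h1 | h1⟩ := hy
  · rw [h1]
    exact h.cw.RR_conj hgA hv
  · rw [h1]
    exact h.cw.RR_conj hgA (CVW.RR_inv hv)

theorem YY_eq {v₀ : G} (hv : v₀ ∈ RR Om U A) (hy : y ∈ YY F A v₀) (hx : x ∈ YY F A v₀) (he : x * x = y * y) :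
    x = y ∨ x = y⁻¹ := by
  have hyR := h.YY_RR hv hy
  -- `x = c y^± c⁻¹`
  obtain ⟨c, hc, hcA, h1⟩ : ∃ c ∈ F, c ∈ normalizer (A : Set G) ∧ (x = c * y * c⁻¹ ∨ x = c * y⁻¹ * c⁻¹) := by
    obtain ⟨g, hg, hgA, h1⟩ := hy
    obtain ⟨g', hg', hgA', h2⟩ := hx
    refine ⟨g' * g⁻¹, F.mul_mem hg' (F.inv_mem hg), mul_mem hgA' (inv_mem hgA), ?_⟩
    rcases h1 with h1 | h1 <;> rcases h2 with h2 | h2
    · exact Or.inl (by rw [h1, h2]; group)
    · exact Or.inr (by rw [h1, h2]; group)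
    · exact Or.inr (by rw [h1, h2]; group)
    · exact Or.inl (by rw [h1, h2]; group)
  have hy4 : y⁻¹ * y⁻¹ = y * y := by
    rw [← mul_inv_rev]
    exact inv_eq_of_mul_eq_one_left (sq_sq hyR)
  have h2 : c * (y * y) = (y * y) * c := by
    have h3 : c * (y * y) * c⁻¹ = x * x := by
      rcases h1 with h1 | h1
      · rw [h1]; group
      · rw [h1, sq_conj, hy4]
    rw [he] at h3
    exact mul_inv_eq_iff_eq_mul.mp h3
  rcases h.conj_or hyR hc h2 with h3 | h3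
  · rcases h1 with h1 | h1
    · left; rw [h1, h3]
    · right
      rw [h1]
      have h4 : c * y⁻¹ * c⁻¹ = (c * y * c⁻¹)⁻¹ := by group
      rw [h4, h3]
  · rcases h1 with h1 | h1
    · right; rw [h1, h3]
    · left
      rw [h1]
      have h4 : c * y⁻¹ * c⁻¹ = (c * y * c⁻¹)⁻¹ := by group
      rw [h4, h3, inv_inv]

theorem card_YY {v₀ : G} (hv : v₀ ∈ RR Om U A) : Nat.card (YY F A v₀) = 6 := by
  have h1 : ∀ e : {e : G // ∃ v ∈ RR Om U A, v * v = e}, ∃ y ∈ YY F A v₀, y * y = e := by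
    rintro ⟨e, w, hw, rfl⟩
    obtain ⟨g, hg, hgA, h2⟩ := h.trans hv hw
    exact ⟨g * v₀ * g⁻¹, ⟨g, hg, hgA, Or.inl rfl⟩, by rw [sq_conj, h2]⟩
  choose f hf hfe using h1
  have inv2 : ∀ {y : G}, y ∈ YY F A v₀ → y⁻¹ * y⁻¹ = y * y := fun {y} hy => by
    rw [← mul_inv_rev]
    exact inv_eq_of_mul_eq_one_left (sq_sq (h.YY_RR hv hy))
  have ne_inv : ∀ {y : G}, y ∈ YY F A v₀ → y ≠ y⁻¹ := fun {y} hy h2 => by
    apply (ne_one_of_RR (h.YY_RR hv hy)).2
    nth_rewrite 2 [h2]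
    exact mul_inv_cancel y
  let φ : {e : G // ∃ v ∈ RR Om U A, v * v = e} × Bool → YY F A v₀ :=
    fun p => ⟨bif p.2 then f p.1 else (f p.1)⁻¹, by
      cases p.2
      · exact YY_inv (hf p.1)
      · exact hf p.1⟩
  have hφ : ∀ p, (φ p : G) * φ p = p.1 := by
    rintro ⟨e, b⟩
    cases b
    · change (f e)⁻¹ * (f e)⁻¹ = e
      rw [inv2 (hf e), hfe]
    · exact hfe e
  have hb : Function.Bijective φ := by
    constructor
    · rintro ⟨e, b⟩ ⟨e', b'⟩ hab
      have h2 : e = e' := by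
        apply Subtype.ext
        have h3 := hφ ⟨e, b⟩
        rw [hab, hφ] at h3
        exact h3.symm
      subst h2
      cases b <;> cases b'
      · rfl
      · exact absurd (congrArg Subtype.val hab).symm (ne_inv (hf e))
      · exact absurd (congrArg Subtype.val hab) (ne_inv (hf e))
      · rfl
    · rintro ⟨y, hy⟩
      have hyR := h.YY_RR hv hy
      set e : {e : G // ∃ v ∈ RR Om U A, v * v = e} := ⟨y * y, y, hyR, rfl⟩ with he
      rcases h.YY_eq hv (hf e) hy (hfe e).symm with h2 | h2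
      · exact ⟨⟨e, true⟩, Subtype.ext h2.symm⟩
      · exact ⟨⟨e, false⟩, Subtype.ext h2.symm⟩
  rw [← Nat.card_eq_of_bijective φ hb, Nat.card_prod, h.three, Nat.card_eq_fintype_card, Fintype.card_bool]

/-- a Sylow 2-subgroup of `F` in `H` -/
theorem exists_sylow (hv : v ∈ RR Om U A) : ∃ S : Sylow 2 F,
    (S : Subgroup F) ≤ (normalizer (A : Set G)).subgroupOf F ∧
    ∀ x ∈ S, ∃ f, Good ((normalizer (A : Set G)).subgroupOf F) f ∧ f * x = x * f := by
  obtain ⟨K, hK, hvK, hvv⟩ := exists_zz h.cw.toCVW hv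
  have hzF : v * v ∈ F := by rw [hvv]; exact h.zF K hK
  set f : F := ⟨v * v, hzF⟩ with hf
  have hff : f * f = 1 := Subtype.ext (sq_sq hv)
  have hf1 : f ≠ 1 := fun h1 => (ne_one_of_RR hv).2 (congrArg Subtype.val h1)
  have hfM : f ∈ (normalizer (A : Set G)).subgroupOf F := by
    rw [mem_subgroupOf]
    exact le_normalizer (A.mul_mem hv.1 hv.1)
  obtain ⟨S, hfS⟩ := exists_sylow_mem hff
  have hS := (h.good hfM hff hf1).le h.hTwo S.isPGroup' hfS
  refine ⟨S, hS, fun x hx => ?_⟩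
  obtain ⟨f', hf', hf2⟩ := exists_good_of_normal (M := (normalizer (A : Set G)).subgroupOf F) (S := (S : Subgroup F))
    (E := (S : Subgroup F)) S.isPGroup' (fun h1 => hf1 (by
      have h2 : f ∈ (S : Subgroup F) := hfS
      rw [h1, mem_bot] at h2
      exact h2)) le_rfl le_normalizer (fun f hf hff hf1 => h.good (hS hf) hff hf1) hx
  exact ⟨f', hf'.1, hf2⟩

section sylow

variable {S : Sylow 2 F} (hS : (S : Subgroup F) ≤ (normalizer (A : Set G)).subgroupOf F)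
  (hx : ∀ x ∈ S, ∃ f, Good ((normalizer (A : Set G)).subgroupOf F) f ∧ f * x = x * f)

include hS hx

open Classical in
/-- the sign of `s ∈ T` on an invariant set is `1` -/
theorem sign_eq_one (X : Set G) (hX : ∀ c : (normalizer (A : Set G)).subgroupOf F, ∀ x ∈ X, F.subtype.comp
    (Subgroup.subtype _) c * x * (F.subtype.comp (Subgroup.subtype _) c)⁻¹ ∈ X) [Fintype X] {s : F} (hs : s ∈ S) :
    Equiv.Perm.sign (pm (F.subtype.comp (Subgroup.subtype _)) X hX ⟨s, hS hs⟩) = 1 :=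
  hom_eq_one h.hTwo S hS hx h.perfect (Equiv.Perm.sign.comp (pm (F.subtype.comp (Subgroup.subtype _)) X hX)) hs

/-- `T` centralises the `z`s -/
theorem comm_z {s : F} (hs : s ∈ S) (hv : v ∈ RR Om U A) : (s : G) * (v * v) = v * v * s := by
  classical
  haveI : Fintype ↑{e : G | ∃ v ∈ RR Om U A, v * v = e} := Fintype.ofFinite _
  have hX : ∀ c : (normalizer (A : Set G)).subgroupOf F, ∀ x ∈ {e : G | ∃ v ∈ RR Om U A, v * v = e},
      F.subtype.comp (Subgroup.subtype _) c * x * (F.subtype.comp (Subgroup.subtype _) c)⁻¹ ∈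
        {e : G | ∃ v ∈ RR Om U A, v * v = e} := by
    rintro ⟨c, hc⟩ _ ⟨w, hw, rfl⟩
    exact ⟨(c : G) * w * (c : G)⁻¹, h.cw.RR_conj (mem_subgroupOf.mp hc) hw, sq_conj⟩
  have h1 := h.sign_eq_one hS hx _ hX hs
  obtain ⟨k, hk⟩ := IsPGroup.iff_orderOf.1 S.isPGroup' ⟨s, hs⟩
  have h2 : (⟨s, hS hs⟩ : (normalizer (A : Set G)).subgroupOf F) ^ 2 ^ k = 1 := by
    have h3 := pow_orderOf_eq_one (⟨s, hs⟩ : (S : Subgroup F))
    rw [hk] at h3
    have h4 : s ^ 2 ^ k = 1 := by simpa using congrArg Subtype.val h3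
    exact Subtype.ext (by simpa using h4)
  have h3 := eq_one_of_three (X := ↑{e : G | ∃ v ∈ RR Om U A, v * v = e}) h.three _ h1 (k := k) (by rw [← map_pow, h2, map_one])
  have h4 := congrArg Subtype.val (DFunLike.congr_fun h3 ⟨v * v, v, hv, rfl⟩)
  exact mul_inv_eq_iff_eq_mul.mp h4

/-- `T` centralises the roots conjugate to `v₀^±` -/
theorem comm_YY {v₀ : G} (hv : v₀ ∈ RR Om U A) {s : F} (hs : s ∈ S) (hy : y ∈ YY F A v₀) :
    (s : G) * y * (s : G)⁻¹ = y := by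
  classical
  by_contra hne
  have hor : ∀ y ∈ YY F A v₀, (s : G) * y * (s : G)⁻¹ = y ∨ (s : G) * y * (s : G)⁻¹ = y⁻¹ := fun y hy =>
    h.conj_or (h.YY_RR hv hy) s.2 (h.comm_z hS hx hs (h.YY_RR hv hy))
  have ne_inv : ∀ {y : G}, y ∈ YY F A v₀ → y⁻¹ ≠ y := fun {y} hy h2 => by
    apply (ne_one_of_RR (h.YY_RR hv hy)).2
    nth_rewrite 2 [← h2]
    exact mul_inv_cancel y
  have hyR := h.YY_RR hv hy
  have hyi := (hor y hy).resolve_left hne
  have hsA : (s : G) ∈ normalizer (A : Set G) := mem_subgroupOf.mp (hS hs)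
  -- `s` inverts all
  have hall : ∀ x ∈ YY F A v₀, (s : G) * x * (s : G)⁻¹ = x⁻¹ := by
    intro x hx'
    have hxR := h.YY_RR hv hx'
    rcases hor x hx' with h1 | h1
    · exfalso
      by_cases he : x * x = y * y
      · rcases h.YY_eq hv hy hx' he with rfl | rfl
        · exact hne h1
        · apply hne
          have h2 : (s : G) * y * (s : G)⁻¹ = ((s : G) * y⁻¹ * (s : G)⁻¹)⁻¹ := by group
          rw [h2, h1, inv_inv]
      · obtain ⟨h2, h3⟩ := h.lk y hyR x hxR (fun h4 => he h4.symm)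
        have h4 := h.cw.al_conj h.isA hsA hyR hxR.1
        rw [h1, hyi, h.cw.al_neg h.isA hyR hxR.1] at h4
        revert h2 h3 h4
        generalize al Om U y x = i
        revert i
        decide
    · exact h1
  haveI : Fintype (YY F A v₀) := Fintype.ofFinite _
  have hX : ∀ c : (normalizer (A : Set G)).subgroupOf F, ∀ x ∈ YY F A v₀,
      F.subtype.comp (Subgroup.subtype _) c * x * (F.subtype.comp (Subgroup.subtype _) c)⁻¹ ∈ YY F A v₀ :=
    fun c x hx => YY_conj c.1.2 (mem_subgroupOf.mp c.2) hx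
  have h1 := h.sign_eq_one hS hx _ hX hs
  rw [sign_of_six (h.card_YY hv)] at h1
  · exact absurd h1 (by decide)
  · rintro ⟨x, hx'⟩
    apply Subtype.ext
    change (s : G) * (s * x * (s : G)⁻¹) * (s : G)⁻¹ = x
    rw [hall x hx', hall _ (YY_inv hx'), inv_inv]
  · rintro ⟨x, hx'⟩ h2
    have h3 := congrArg Subtype.val h2
    change (s : G) * x * (s : G)⁻¹ = x at h3
    rw [hall x hx'] at h3
    exact ne_inv hx' h3

end sylow

/-- **(2)** -/
theorem false_of_concl (hc : BenderType.Classify.Concl F) (hv : v ∈ RR Om U A) : False := by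
  obtain ⟨S, hS, hx⟩ := h.exists_sylow hv
  -- the second root
  obtain ⟨w, hw, hwv⟩ : ∃ w ∈ RR Om U A, w * w ≠ v * v := by
    by_contra hno
    push Not at hno
    have h1 : Nat.card {e : G // ∃ v ∈ RR Om U A, v * v = e} ≤ 1 := by
      haveI : Subsingleton {e : G // ∃ v ∈ RR Om U A, v * v = e} := by
        constructor
        rintro ⟨_, u, hu, rfl⟩ ⟨_, u', hu', rfl⟩
        exact Subtype.ext ((hno u hu).trans (hno u' hu').symm)
      exact Finite.card_le_one_iff_subsingleton.mpr this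
    rw [h.three] at h1
    omega
  obtain ⟨g, hg, hgA, hgv⟩ := h.trans hv hw
  have hgR : g * v * g⁻¹ ∈ YY F A v := ⟨g, hg, hgA, Or.inl rfl⟩
  have hvY : v ∈ YY F A v := ⟨1, F.one_mem, one_mem _, Or.inl (by group)⟩
  have hgRR := h.YY_RR hv hgR
  -- `a`
  set a : G := v⁻¹ * (g * v * g⁻¹) with ha
  have haF : a ∈ F := by
    have h1 : a = (v⁻¹ * g * v⁻¹⁻¹) * g⁻¹ := by rw [ha]; group
    rw [h1]
    exact F.mul_mem (h.nor.conj_mem _ hg _) (F.inv_mem hg)
  have haA : a ∈ A := A.mul_mem (A.inv_mem hv.1) hgRR.1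
  have haa : a * a ≠ 1 := by
    intro h1
    apply hwv
    have h2 := h.cw.comm h.isA (A.inv_mem hv.1) hgRR.1
    have h3 : a * a = (v⁻¹ * v⁻¹) * ((g * v * g⁻¹) * (g * v * g⁻¹)) := by
      calc a * a = v⁻¹ * ((g * v * g⁻¹) * v⁻¹) * (g * v * g⁻¹) := by rw [ha]; group
        _ = v⁻¹ * (v⁻¹ * (g * v * g⁻¹)) * (g * v * g⁻¹) := by rw [h2]
        _ = _ := by group
    rw [h3, sq_conj, hgv, ← mul_inv_rev, inv_mul_eq_one] at h1
    exact h1.symm
  have haS : ∀ s ∈ S, (⟨a, haF⟩ : F) * s = s * ⟨a, haF⟩ := by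
    intro s hs
    apply Subtype.ext
    change a * (s : G) = s * a
    have h1 := h.comm_YY hS hx hv hs hvY
    have h2 := h.comm_YY hS hx hv hs hgR
    symm
    apply mul_inv_eq_iff_eq_mul.mp
    calc (s : G) * a * (s : G)⁻¹ = (s * v * (s : G)⁻¹)⁻¹ * (s * (g * v * g⁻¹) * (s : G)⁻¹) := by rw [ha]; group
      _ = a := by rw [h1, h2]
  have ha4 : (⟨a, haF⟩ : F) ^ 4 = 1 := Subtype.ext (h.cw.pow_four h.isA haA)
  have hP : IsPGroup 2 (zpowers (⟨a, haF⟩ : F) ⊔ (S : Subgroup F) : Subgroup F) := by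
    refine IsPGroup.to_sup_of_normal_right' ?_ S.isPGroup' ?_
    · refine (CVW.isA_two h.isA).comap_subtype.to_le (zpowers_le.mpr ?_) (K := A.subgroupOf F)
      exact mem_subgroupOf.mpr haA
    · rw [zpowers_le, mem_normalizer_iff]
      intro x
      constructor
      · intro hx
        rw [haS x hx, mul_inv_cancel_right]
        exact hx
      · intro hx
        have h1 := haS _ hx
        have h2 : x = (⟨a, haF⟩ : F)⁻¹ * (⟨a, haF⟩ * x * (⟨a, haF⟩ : F)⁻¹) * ⟨a, haF⟩ := by group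
        rw [h2, mul_assoc, ← h1, inv_mul_cancel_left]
        exact hx
  have hSc : ∀ y ∈ S, ∀ z ∈ S, y * z = z * y := fun y hy z hz =>
    CloBen.comm_of_concl hc hP (x := ⟨a, haF⟩) (y := y) (z := z) (mem_sup_left (mem_zpowers _)) (mem_sup_right hy)
      (mem_sup_right hz) (fun h1 => haa (congrArg Subtype.val h1)) (haS y hy) (haS z hz)
  have hcm : IsMulCommutative (S : Subgroup F) := ⟨⟨fun x y => Subtype.ext (hSc x x.2 y y.2)⟩⟩
  rcases hc with ⟨E, i1, i2, ⟨n, hn, hE⟩, ⟨e⟩⟩ | ⟨E, i1, i2, m, hm, hE, ⟨e⟩⟩ |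
    ⟨E, i1, i2, n, hn, hE, ⟨e⟩⟩
  · have hchar : CharP E 2 := by
      obtain ⟨p, hp⟩ := CharP.exists E
      have hpp : p.Prime := (CharP.char_is_prime_or_zero E p).resolve_right
        (CharP.char_ne_zero_of_finite E p)
      obtain ⟨m, _, hm⟩ := FiniteField.card E p
      rw [hE] at hm
      have h1 : p ∣ 2 ^ n := by
        rw [hm]
        exact dvd_pow_self p m.ne_zero
      have h2 := (Nat.prime_dvd_prime_iff_eq hpp Nat.prime_two).mp (hpp.dvd_of_dvd_pow h1)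
      rwa [h2] at hp
    exact haa (congrArg Subtype.val (WeakTI.PslTwo.mul_self e (k := 2) (x := ⟨a, haF⟩) (by
      rw [show 2 ^ 2 = 4 by norm_num]; exact ha4)))
  · exact absurd hcm (BenderType.Classify.ty_sz_of_equiv hm hE e S).not_comm
  · exact absurd hcm (BenderType.Classify.ty_psu_of_equiv (by omega) hE e S).not_comm

theorem false_of (hB : Bend F) {H : Subgroup F} (hH : IsStronglyEmbedded H) (hv : v ∈ RR Om U A) : False :=
  h.false_of_concl (hB H hH) hv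

end EW

end Cfsg.Agent.Cit.Nil.CV.EndF
end

-- part: Cit/Nil/CV/EndH
section
set_option linter.all false
open scoped Cfsg.Agent.FastGrp

/-!
# (CV), the end (4b): `FH` and a strongly embedded subgroup of `F` give a contradiction (S1309)
-/

set_option autoImplicit false
set_option linter.style.haveILetI false
set_option linter.unusedSectionVars false

namespace Cfsg.Agent.Cit.Nil.CV.EndH

open Subgroup Cfsg Cit Cit.CV CV3 CloEnd

variable {G : Type*} [Group G] [Finite G]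
variable {Om : Set (Subgroup G)} {U : Subgroup G → Subgroup G} {A F : Subgroup G} {v : G}

theorem ew (h : FH Om U F) (f : ROne.FSimp F) (hA : IsA Om U A) (hv : v ∈ RR Om U A) : EndF.EW Om U F A where
  cw := h.cw
  isA := hA
  nor := f.nor
  sim := f.sim
  na := f.na
  nos _ hN hs := no_s h.cw hA hN hs
  zF := h.zF
  inv := h.inv
  con := h.con
  nK _ hK _ hc hcz := h.nor hK hc hcz
  lk _ hv _ hw hne := h.lk hA hv hw hne
  three := by
    obtain ⟨z1, z2, z3, h12, h13, h23, hz⟩ := h.three hA hv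
    have h1 : {e : G | ∃ v ∈ RR Om U A, v * v = e} = {z1, z2, z3} := by
      ext e
      simp only [Set.mem_setOf_eq, Set.mem_insert_iff, Set.mem_singleton_iff]
      exact hz e
    have h2 : ({e : G | ∃ v ∈ RR Om U A, v * v = e} : Set G).ncard = 3 := by
      rw [h1]
      exact Set.ncard_eq_three.mpr ⟨z1, z2, z3, h12, h13, h23, rfl⟩
    exact h2

/-- **(4b)** -/
theorem false_of (h : FH Om U F) (f : ROne.FSimp F) (hA : IsA Om U A) (hv : v ∈ RR Om U A) (hB : Bend F)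
    {H : Subgroup F} (hH : IsStronglyEmbedded H) : False :=
  (ew h f hA hv).false_of hB hH hv

end Cfsg.Agent.Cit.Nil.CV.EndH
end
end
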